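import Groth.Agent.H1.Classical.Torus.Union
import Groth.Agent.H1.Classical.Centre

/-!
# The union of the conjugates of a Borel subgroup, for group schemes
-/

universe u

open CategoryTheory MonoidalCategory CartesianMonoidalCategory MonObj AlgebraicGeometry

namespace Groth.Agent.H1.Classical.Scheme'

set_option linter.style.haveILetI false
set_option linter.unusedSectionVars false

open Groth.Agent.Lib.RedPts.Points WithConv TensorProduct Groth.Agent.Lib.GrpSch

attribute [local instance] baseAlgebra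

variable {k : Type u} [Field k] [IsAlgClosed k]

/-- Every point is conjugate into a maximal connected solvable subgroup. -/
theorem exists_conj_mem_pts {A : Type u} [CommRing A] [HopfAlgebra k A] [Algebra.FiniteType k A] [IsDomain A]
    {S : Subgroup (HopfPts.Pt k A)} (hS : Image.IsMax (HopfPts.D k A) S) (z : HopfPts.Pt k A) :
    ∃ x, x⁻¹ * z * x ∈ S := by
  obtain ⟨B0, hcl, hirr, hsol, habs⟩ := HopfPts.exists_borel (k := k) (A := A)
  obtain ⟨a, rfl⟩ := Image.exists_eq_conj hirr hsol habs hS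
  obtain ⟨W, _, σ, hσ⟩ := Torus.GenRep.exists_gen (HopfPts.D k A) hasMul_pts pts_ext
  haveI := hsol
  obtain ⟨x, hx⟩ := Torus.Union.exists_conj_mem (HopfPts.D k A) hσ HopfPts.sirr_univ hasMul_pts hcl hirr habs
    (complete_of_isMax (Image.isMax_of_absorbing hcl hirr hsol habs)) z
  refine ⟨x * a⁻¹, (Image.mem_map_conj a B0 _).mpr ?_⟩
  rwa [show a⁻¹ * ((x * a⁻¹)⁻¹ * z * (x * a⁻¹)) * a = x⁻¹ * z * x by group]

/-- Every rational point is conjugate into a Borel subgroup. -/
theorem exists_conj_mem_borel {G : Over (Spec (CommRingCat.of k))} [GrpObj G] [IsAffine G.left] [Smooth G.hom]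
    [ConnectedSpace G.left] {B : Over (Spec (CommRingCat.of k))} [GrpObj B] {iB : B ⟶ G}
    (hB : Red.IsBorelOver k iB) (g : 𝟙_ (Over (Spec (CommRingCat.of k))) ⟶ G) :
    ∃ (x : 𝟙_ (Over (Spec (CommRingCat.of k))) ⟶ G) (b : 𝟙_ (Over (Spec (CommRingCat.of k))) ⟶ B),
      x * (b ≫ iB) * x⁻¹ = g := by
  obtain ⟨A, _, _, e, he⟩ := Hopf.exists_iso G
  haveI := he
  haveI : Algebra.FiniteType k A := finiteType_of_iso e
  haveI := isDomain_of_iso e
  haveI := hB.1
  obtain ⟨χ, hχ⟩ := ptHom_surjective (g ≫ e.hom)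
  obtain ⟨x, hx⟩ := exists_conj_mem_pts (isMax_ptsOf (iB ≫ e.hom) (isBorelOver_comp hB e)).1 χ
  obtain ⟨b, hb⟩ := hx
  change b ≫ iB ≫ e.hom = _ at hb
  refine ⟨ptHom _ x ≫ e.inv, b, ?_⟩
  rw [← cancel_mono e.hom, MonObj.mul_comp, MonObj.mul_comp, GrpObj.inv_comp, Category.assoc, Category.assoc,
    Iso.inv_hom_id, Category.comp_id, hb, ← hχ, map_mul, map_mul, map_inv]
  group

end Groth.Agent.H1.Classical.Scheme'
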