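import Groth.Agent.H1.Classical.Torus.MaxTorus

/-!
# Borel subgroups containing a maximal torus
-/

universe u v w

namespace Groth.Agent.H1.Classical.Torus.WeylFinite

set_option linter.style.haveILetI false
set_option linter.unusedSectionVars false

open Module Kolchin Open Complete Centraliser MaxTorus

variable {k : Type u} [Field k] [IsAlgClosed k] {Γ : Type v} [Group Γ] {D : Alg k Γ}
  {W : Type w} [AddCommGroup W] [Module k W] [FiniteDimensional k W] {σ : Representation k Γ W}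

/-- A normalising element carrying one Borel subgroup containing the torus to another. -/
theorem exists_normalizer (hmul : HasMul D) (hσ : GenRep.Gen D σ) {B B' : Subgroup Γ} (hB' : IsBor D B')
    {T : Subgroup Γ} (hT : IsMax D T) (hTB : T ≤ B) (hTB' : T ≤ B') {g : Γ}
    (hg : B.map (MulAut.conj g).toMonoidHom = B') :
    ∃ n, T.map (MulAut.conj n).toMonoidHom = T ∧ B.map (MulAut.conj n).toMonoidHom = B' := by
  obtain ⟨b, hb, hb'⟩ := conj_borel hmul hσ hB' (hT.map_conj g) hT (hg ▸ Subgroup.map_mono hTB) hTB'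
  refine ⟨b * g, SetLike.ext fun x => ?_, SetLike.ext fun x => ?_⟩
  · rw [mem_map]
    nth_rw 2 [← hb']
    rw [mem_map, mem_map]
    simp only [mul_inv_rev, mul_assoc]
  · rw [mem_map, show (b * g)⁻¹ * x * (b * g) = g⁻¹ * (b⁻¹ * x * b) * g by group, ← mem_map, hg]
    exact ⟨fun h => by have := B'.mul_mem (B'.mul_mem hb h) (B'.inv_mem hb)
                       rwa [show b * (b⁻¹ * x * b) * b⁻¹ = x by group] at this,
      fun h => B'.mul_mem (B'.mul_mem (B'.inv_mem hb) h) hb⟩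

/-- The normaliser of a torus acts through finitely many automorphisms. -/
theorem finite_actions (hσ : GenRep.Gen D σ) {T : Subgroup Γ} (hT : IsTor D T) :
    Set.Finite {φ : T → Γ | ∃ n : Γ, (∀ t ∈ T, n * t * n⁻¹ ∈ T) ∧ φ = fun t : T => n * t * n⁻¹} := by
  classical
  obtain ⟨e, he⟩ := exists_diag hT hσ.reg
  let ev : Fin (finrank k W) → Γ → k := fun i g => e.coord i (σ g (e i))
  have hact : ∀ s ∈ T, ∀ i, σ s (e i) = ev i s • e i := fun s hs i => by
    obtain ⟨c, hc⟩ := he s hs i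
    show σ s (e i) = e.coord i (σ s (e i)) • e i
    rw [hc, map_smul, Basis.coord_apply, Basis.repr_self, Finsupp.single_eq_same, smul_eq_mul, mul_one]
  have hdiag : ∀ s ∈ T, ∀ x : W, ∀ j, e.repr (σ s x) j = ev j s * e.repr x j := by
    intro s hs x j
    conv_lhs => rw [← e.sum_repr x, map_sum, map_sum, Finsupp.finsetSum_apply]
    rw [Finset.sum_eq_single j]
    · rw [map_smul, hact s hs, map_smul, map_smul, Basis.repr_self, Finsupp.smul_apply, Finsupp.smul_apply,
        Finsupp.single_eq_same, smul_eq_mul, smul_eq_mul]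
      ring
    · intro l _ hl
      rw [map_smul, hact s hs, map_smul, map_smul, Basis.repr_self, Finsupp.smul_apply, Finsupp.smul_apply,
        Finsupp.single_eq_of_ne (Ne.symm hl), smul_zero, smul_zero]
    · exact fun hh => absurd (Finset.mem_univ j) hh
  refine (Set.finite_iUnion fun p : Fin (finrank k W) → Fin (finrank k W) =>
    (show Set.Subsingleton {φ : T → Γ | ∀ (t : T) i, σ (φ t) (e i) = ev (p i) t • e i} from
      fun φ hφ φ' hφ' => funext fun t => hσ.faith (e.ext fun i => (hφ t i).trans (hφ' t i).symm)).finite).subset ?_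
  rintro _ ⟨n, hn, rfl⟩
  have hj : ∀ i, ∃ j, e.repr (σ n⁻¹ (e i)) j ≠ 0 := fun i => by
    by_contra hcon
    push Not at hcon
    have h0 : σ n⁻¹ (e i) = 0 := e.repr.injective (by rw [map_zero]; exact Finsupp.ext hcon)
    refine e.ne_zero i ?_
    have := congrArg (σ n) h0
    rwa [map_zero, ← End.mul_apply, ← map_mul, mul_inv_cancel, map_one, End.one_apply] at this
  choose p hp using hj
  refine Set.mem_iUnion.mpr ⟨p, fun t i => ?_⟩
  show σ (n * t * n⁻¹) (e i) = _
  rw [hact _ (hn t t.2)]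
  congr 1
  have h1 : σ (t : Γ) (σ n⁻¹ (e i)) = ev i (n * t * n⁻¹) • σ n⁻¹ (e i) := by
    rw [← map_smul, ← hact _ (hn t t.2), ← End.mul_apply, ← End.mul_apply, ← map_mul, ← map_mul]
    congr 2
    group
  have h2 := congrArg (fun x => e.repr x (p i)) h1
  simp only [map_smul, Finsupp.smul_apply, smul_eq_mul, hdiag _ t.2] at h2
  exact (mul_right_cancel₀ (hp i) h2).symm

/-- Only finitely many Borel subgroups contain a maximal torus. -/
theorem finite_borels (hirr : D.SIrr Set.univ) (hmul : HasMul D) (hσ : GenRep.Gen D σ) {B : Subgroup Γ}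
    (hB : IsBor D B) {T : Subgroup Γ} (hT : IsMax D T) (hTB : T ≤ B) :
    Set.Finite {Q : Subgroup Γ | IsBor D Q ∧ T ≤ Q ∧ ∃ g, B.map (MulAut.conj g).toMonoidHom = Q} := by
  refine ((finite_actions hσ hT.tor).biUnion fun φ _ =>
    (show Set.Subsingleton {Q : Subgroup Γ | ∃ n : Γ, φ = (fun t : T => n * t * n⁻¹) ∧ B.map (MulAut.conj n).toMonoidHom = Q}
      from ?_).finite).subset ?_
  · rintro _ ⟨n, rfl, rfl⟩ _ ⟨n', hφ, rfl⟩
    have hc : n⁻¹ * n' ∈ B := centralizer_le hirr hmul hσ hB hT hTB (Subgroup.mem_centralizer_iff.mpr fun t ht => by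
      have h := congrFun hφ ⟨t, ht⟩
      change n * t * n⁻¹ = n' * t * n'⁻¹ at h
      calc t * (n⁻¹ * n') = n⁻¹ * (n * t * n⁻¹) * n' := by group
        _ = n⁻¹ * (n' * t * n'⁻¹) * n' := by rw [h]
        _ = n⁻¹ * n' * t := by group)
    refine SetLike.ext fun x => ?_
    rw [mem_map, mem_map, show n'⁻¹ * x * n' = (n⁻¹ * n')⁻¹ * (n⁻¹ * x * n) * (n⁻¹ * n') by group]
    exact ⟨fun h => B.mul_mem (B.mul_mem (B.inv_mem hc) h) hc, fun h => by
      have := B.mul_mem (B.mul_mem hc h) (B.inv_mem hc)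
      rwa [show n⁻¹ * n' * ((n⁻¹ * n')⁻¹ * (n⁻¹ * x * n) * (n⁻¹ * n')) * (n⁻¹ * n')⁻¹ = n⁻¹ * x * n by group] at this⟩
  · rintro Q ⟨hQ, hTQ, g, hg⟩
    obtain ⟨n, hn, hnB⟩ := exists_normalizer hmul hσ hQ hT hTB hTQ hg
    have hn' : ∀ t ∈ T, n * t * n⁻¹ ∈ T := fun t ht => hn.le ⟨t, ht, rfl⟩
    simp only [Set.mem_iUnion, Set.mem_ofPred_eq]
    exact ⟨_, ⟨n, hn', rfl⟩, n, rfl, hnB⟩

end Groth.Agent.H1.Classical.Torus.WeylFinite
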