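import Groth.Agent.H1.Classical.Torus.WeylFinite

/-!
# A regular element of a Cartan subgroup fixes finitely many cosets
-/

universe u v w

namespace Groth.Agent.H1.Classical.Torus.CartanDense

set_option linter.style.haveILetI false
set_option linter.unusedSectionVars false

open Module Kolchin Open Complete Centraliser MaxTorus WeylFinite

variable {k : Type u} [Field k] [IsAlgClosed k] {Γ : Type v} [Group Γ] {D : Alg k Γ}
  {W : Type w} [AddCommGroup W] [Module k W] [FiniteDimensional k W] {σ : Representation k Γ W}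

/-- The torus of a split of a closed subgroup is a torus. -/
theorem isTor_split {C : Subgroup Γ} {hcl : D.IsCl C} {T U : Subgroup C} {τ : C →* C}
    (hs : Split.IsSplit (D.restrict C hcl) (σ.comp C.subtype) T U τ) : IsTor D (T.map C.subtype) := by
  have hset : ((T.map C.subtype : Subgroup Γ) : Set Γ) = Subtype.val '' (T : Set C) := Subgroup.coe_map _ _
  refine ⟨hset ▸ D.isCl_image hs.clT, hset ▸ D.sirr_restrict.mp hs.irrT, ?_, ?_⟩
  · rintro _ ⟨a, ha, rfl⟩ _ ⟨b, hb, rfl⟩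
    rw [← map_mul, hs.comm a ha b hb, map_mul]
  · rintro f hf h _ ⟨t, ht, rfl⟩
    refine hs.dense _ ⟨f, hf, rfl⟩ (fun s hsT ⟨m, hm, hsm⟩ => h _ ⟨s, hsT, rfl⟩ ⟨m, hm, ?_⟩) t ht
    show ((s : Γ)) ^ m = 1
    rw [← SubmonoidClass.coe_pow, hsm, OneMemClass.coe_one]

/-- The centraliser of a maximal torus has no tori and no torsion outside the torus. -/
theorem subset_torus (hirr : D.SIrr Set.univ) (hmul : HasMul D) (hσ : GenRep.Gen D σ) {B : Subgroup Γ}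
    (hB : IsBor D B) {T : Subgroup Γ} (hT : IsMax D T) (hTB : T ≤ B) :
    (∀ S, IsTor D S → S ≤ Subgroup.centralizer (T : Set Γ) → S ≤ T) ∧
      ∀ y ∈ Subgroup.centralizer (T : Set Γ), (∃ m : ℕ, (m : k) ≠ 0 ∧ y ^ m = 1) → y ∈ T := by
  obtain ⟨hcl, hCirr⟩ := sirr_centralizer hirr hmul hσ hB hT.tor
  have hle := centralizer_le hirr hmul hσ hB hT hTB
  set C := Subgroup.centralizer (T : Set Γ)
  haveI := hB.solv
  haveI : Group.IsSolvable C := Group.isSolvable_of_isSolvable_injective (f := Subgroup.inclusion hle)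
    (Subgroup.inclusion_injective hle)
  obtain ⟨T₁, U, τ, hs⟩ := Split.exists_split (D.restrict C hcl)
    (D.sirr_restrict.mpr (by rw [Set.image_univ, Subtype.range_coe_subtype]; exact hCirr))
    (σ.comp C.subtype) (GenRep.Gen.restrict D hσ C hcl)
  have hTC : T ≤ C := fun t ht => Subgroup.mem_centralizer_iff.mpr fun s hsT => hT.tor.comm s hsT t ht
  have hfix : ∀ u ∈ C, ∀ t ∈ T, u * t * u⁻¹ = t := fun u hu t ht => by
    rw [← Subgroup.mem_centralizer_iff.mp hu t ht, mul_inv_cancel_right]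
  obtain ⟨w, hwC, hw⟩ := conj_into_borel hmul hσ hcl hs hT.tor hTC
  have heq : T₁.map C.subtype ≤ T := hT.max _ (isTor_split hs) fun t ht => hfix w hwC t ht ▸ hw t ht
  refine ⟨fun S hS hSC s hsS => ?_, fun y hy ⟨m, hm, hym⟩ => ?_⟩
  · obtain ⟨u, huC, hu⟩ := conj_into_borel hmul hσ hcl hs hS hSC
    have ht := heq (hu s hsS)
    have := hfix _ (C.inv_mem huC) _ ht
    rw [show u⁻¹ * (u * s * u⁻¹) * u⁻¹⁻¹ = s by group] at this
    exact this ▸ ht
  · obtain ⟨u, -, hu⟩ := conj_torsion hs (y := ⟨y, hy⟩) hm (Subtype.ext hym)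
    have ht : (u : Γ) * y * (u : Γ)⁻¹ ∈ T := heq ⟨_, hs.tau_mem ⟨y, hy⟩, congrArg Subtype.val hu⟩
    have := hfix _ (C.inv_mem u.2) _ ht
    rw [show (u : Γ)⁻¹ * ((u : Γ) * y * (u : Γ)⁻¹) * (u : Γ)⁻¹⁻¹ = y by group] at this
    exact this ▸ ht

/-- A regular element fixes finitely many cosets of the Cartan subgroup. -/
theorem finite_fix (hirr : D.SIrr Set.univ) (hmul : HasMul D) (hσ : GenRep.Gen D σ) {B : Subgroup Γ}
    (hB : IsBor D B) {T : Subgroup Γ} (hT : IsMax D T) (hTB : T ≤ B) :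
    ∃ t ∈ Subgroup.centralizer (T : Set Γ), ∃ Q : Finset Γ, ∀ x, x⁻¹ * t * x ∈ Subgroup.centralizer (T : Set Γ) →
      ∃ q ∈ Q, q⁻¹ * x ∈ Subgroup.centralizer (T : Set Γ) := by
  classical
  obtain ⟨htor, htors⟩ := subset_torus hirr hmul hσ hB hT hTB
  obtain ⟨t₀, ht₀, ⟨m, hm, hm0⟩, hreg⟩ := exists_regular hσ hT.tor
  set C := Subgroup.centralizer (T : Set Γ)
  have hTC : T ≤ C := fun t ht => Subgroup.mem_centralizer_iff.mpr fun s hsT => hT.tor.comm s hsT t ht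
  have hfin := finite_actions hσ hT.tor
  let rep : {φ : T → Γ // φ ∈ hfin.toFinset} → Γ := fun φ => (hfin.mem_toFinset.mp φ.2).choose
  refine ⟨t₀, hTC ht₀, hfin.toFinset.attach.image rep, fun x hx => ?_⟩
  have ht' : x⁻¹ * t₀ * x ∈ T := htors _ hx ⟨m, hm, by
    have h := conj_pow (i := m) (a := x⁻¹) (b := t₀)
    rw [_root_.inv_inv] at h
    rw [h, hm0, _root_.mul_one, inv_mul_cancel]⟩
  have hle : T.map (MulAut.conj x).toMonoidHom ≤ C := by
    rintro _ ⟨s, hsT, rfl⟩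
    have hc := Subgroup.mem_centralizer_iff.mp (hTC hsT) _ ht'
    refine Subgroup.mem_centralizer_iff.mpr fun r hr => (hreg _ ?_ r hr).symm
    show x * s * x⁻¹ * t₀ = t₀ * (x * s * x⁻¹)
    calc x * s * x⁻¹ * t₀ = x * (s * (x⁻¹ * t₀ * x)) * x⁻¹ := by group
      _ = x * (x⁻¹ * t₀ * x * s) * x⁻¹ := by rw [hc]
      _ = t₀ * (x * s * x⁻¹) := by group
  have hnorm : ∀ s ∈ T, x * s * x⁻¹ ∈ T := fun s hsT => htor _ (IsTor.map_conj hT.tor x) hle ⟨s, hsT, rfl⟩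
  have hφ : (fun s : T => x * s * x⁻¹) ∈ hfin.toFinset := hfin.mem_toFinset.mpr ⟨x, hnorm, rfl⟩
  refine ⟨rep ⟨_, hφ⟩, Finset.mem_image_of_mem _ (Finset.mem_attach _ _), ?_⟩
  obtain ⟨-, hn⟩ := (hfin.mem_toFinset.mp hφ).choose_spec
  refine Subgroup.mem_centralizer_iff.mpr fun s hsT => ?_
  have h : x * s * x⁻¹ = rep ⟨_, hφ⟩ * s * (rep ⟨_, hφ⟩)⁻¹ := congrFun hn ⟨s, hsT⟩
  calc s * ((rep ⟨_, hφ⟩)⁻¹ * x) = (rep ⟨_, hφ⟩)⁻¹ * (rep ⟨_, hφ⟩ * s * (rep ⟨_, hφ⟩)⁻¹) * x := by group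
    _ = (rep ⟨_, hφ⟩)⁻¹ * (x * s * x⁻¹) * x := by rw [h]
    _ = (rep ⟨_, hφ⟩)⁻¹ * x * s := by group

end Groth.Agent.H1.Classical.Torus.CartanDense
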