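import Groth.Agent.H1.Classical.Torus.UnionScheme
import Groth.Agent.H1.Classical.Parabolic
import Mathlib.AlgebraicGeometry.Morphisms.Constructors

/-!
# Conjugates of a subgroup with an element fixing finitely many points of the quotient
-/

universe u

open CategoryTheory MonoidalCategory CartesianMonoidalCategory MonObj AlgebraicGeometry

namespace Groth.Agent.H1.Classical.Scheme'

set_option linter.style.haveILetI false
set_option linter.unusedSectionVars false

open Groth.Agent.Lib.RedPts.Points WithConv TensorProduct Groth.Agent.Lib.GrpSch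

attribute [local instance] baseAlgebra

variable {k : Type u} [Field k] [IsAlgClosed k] {A : Type u} [CommRing A] [HopfAlgebra k A] [Algebra.FiniteType k A]

/-- The points of a smooth connected subgroup form an irreducible set. -/
theorem sirr_ptsOf {H : Over (Spec (CommRingCat.of k))} [GrpObj H] (i : H ⟶ GA k A) [IsMonHom i]
    [IsClosedImmersion i.left] [Smooth H.hom] [ConnectedSpace H.left] : (HopfPts.D k A).SIrr (ptsOf i) := by
  have hpt : ∀ x : 𝟙_ (Over (Spec (CommRingCat.of k))) ⟶ H, ∃ t ∈ ptsOf i, x ≫ i = ptHom _ t := fun x => by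
    obtain ⟨t, ht⟩ := ptHom_surjective (x ≫ i)
    exact ⟨t, ⟨x, ht.symm⟩, ht.symm⟩
  haveI : IsAffine H.left := isAffine_of_isAffineHom i.left
  haveI : QuasiCompact H.hom := inferInstance
  haveI := GrpIrred.isIntegral H
  rintro ⟨_, a, rfl⟩ ⟨_, b, rfl⟩ h
  have hab : algHomOf i (a * b) = 0 :=
    algHomOf_eq_zero i (T := (ptsOf i : Set (HopfPts.Pt k A))) hpt _ fun s hs => by
      rw [map_mul]; exact h s hs
  rw [map_mul] at hab
  have key : ∀ c : A, algHomOf i c = 0 → ∀ s ∈ (ptsOf i : Set (HopfPts.Pt k A)), s.ofConv c = 0 := by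
    rintro c hc s ⟨x, hx⟩
    apply baseHom_bijective.1
    have := algHomOf_comp x i c
    rw [hc, map_zero] at this
    have hx' : x ≫ i = ptHom (𝟙_ _) s := hx
    rw [hx', algHomOf_ptHom] at this
    rw [map_zero]
    exact this
  exact (mul_eq_zero.mp hab).imp (fun h s hs => key a h s hs) (fun h s hs => key b h s hs)

/-- The conjugation morphism has image containing a nonempty open. -/
theorem exists_open_conj {G H X : Over (Spec (CommRingCat.of k))} [GrpObj G] [IsAffine G.left] [Smooth G.hom]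
    [ConnectedSpace G.left] [GrpObj H] (iH : H ⟶ G) [IsMonHom iH] [IsClosedImmersion iH.left] [Smooth H.hom]
    [ConnectedSpace H.left] (a : AlgGrp.Action G X) (o : 𝟙_ (Over (Spec (CommRingCat.of k))) ⟶ X)
    (hX : AGF.IsQuotient iH X a o) (h₀ : 𝟙_ (Over (Spec (CommRingCat.of k))) ⟶ H)
    (hfin : Set.Finite {x : 𝟙_ (Over (Spec (CommRingCat.of k))) ⟶ X | lift (h₀ ≫ iH) x ≫ a.act = x}) :
    ∃ U : G.left.Opens, (U : Set ↥G.left).Nonempty ∧
      (U : Set ↥G.left) ⊆ Set.range (fst G H * (snd G H ≫ iH) * (fst G H)⁻¹).left.base := by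
  classical
  obtain ⟨A, _, _, e, he⟩ := Hopf.exists_iso G
  haveI := he
  haveI : Algebra.FiniteType k A := finiteType_of_iso e
  haveI := isDomain_of_iso e
  haveI : IsIso e.hom.left := ((Over.forget _).mapIso e).isIso_hom
  obtain ⟨hlft, hflat, hsurj, hsq⟩ := hX
  haveI := hlft
  haveI := hsurj
  let φ := fst G H * (snd G H ≫ iH) * (fst G H)⁻¹
  have hφ : ∀ (x : 𝟙_ (Over (Spec (CommRingCat.of k))) ⟶ G) (b : 𝟙_ (Over (Spec (CommRingCat.of k))) ⟶ H),
      lift x b ≫ φ = x * (b ≫ iH) * x⁻¹ := fun x b => by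
    simp [φ, MonObj.comp_mul, GrpObj.comp_inv]
  haveI : IsClosedImmersion (iH ≫ e.hom).left := by rw [Over.comp_left]; infer_instance
  obtain ⟨W, _, σ, hσ⟩ := Torus.GenRep.exists_gen (HopfPts.D k A) hasMul_pts pts_ext
  obtain ⟨t, ht⟩ := ptHom_surjective (h₀ ≫ iH ≫ e.hom)
  have horb : ∀ (g h : 𝟙_ (Over (Spec (CommRingCat.of k))) ⟶ G),
      lift h (g ≫ a.orbitMap o) ≫ a.act = (h * g) ≫ a.orbitMap o := by
    intro g h
    have h1 : ∀ x : 𝟙_ (Over (Spec (CommRingCat.of k))) ⟶ G,
        x ≫ a.orbitMap o = lift x (toUnit _ ≫ o) ≫ a.act := fun x => by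
      simp [AlgGrp.Action.orbitMap, CartesianMonoidalCategory.comp_lift_assoc]
    have h2 := congrArg (fun z => lift (lift h g) (toUnit _ ≫ o) ≫ z) a.mul_act
    simp only [lift_whiskerRight_assoc, lift_lift_associator_hom_assoc, lift_whiskerLeft_assoc] at h2
    rw [h1, h1, ← h2]
    rfl
  have hcoset : ∀ (g q : 𝟙_ (Over (Spec (CommRingCat.of k))) ⟶ G) (b : 𝟙_ (Over (Spec (CommRingCat.of k))) ⟶ H),
      g * (b ≫ iH) = q → g ≫ a.orbitMap o = q ≫ a.orbitMap o := by
    intro g q b hq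
    have h1 := congrArg (fun z => lift g b ≫ z) hsq.w
    simp only [lift_fst_assoc, Category.assoc, lift_whiskerLeft_assoc] at h1
    rw [h1, ← hq, Hom.mul_def, Category.assoc]
  have hlift : ∀ x : 𝟙_ (Over (Spec (CommRingCat.of k))) ⟶ X, ∃ g, g ≫ a.orbitMap o = x := fun x =>
    haveI : LocallyOfFiniteType G.hom := inferInstance
    exists_lift_point (a.orbitMap o) x
  choose rep hrep using hlift
  let toA : (𝟙_ (Over (Spec (CommRingCat.of k))) ⟶ G) → HopfPts.Pt k A := fun g =>
    (ptHom_surjective (g ≫ e.hom)).choose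
  have htoA : ∀ g, ptHom _ (toA g) = g ≫ e.hom := fun g => (ptHom_surjective (g ≫ e.hom)).choose_spec
  have hdense : ∀ f : A, f ≠ 0 → ∃ (x : 𝟙_ (Over (Spec (CommRingCat.of k))) ⟶ G)
      (b : 𝟙_ (Over (Spec (CommRingCat.of k))) ⟶ H) (χ : HopfPts.Pt k A),
      (x * (b ≫ iH) * x⁻¹) ≫ e.hom = ptHom _ χ ∧ χ.ofConv f ≠ 0 := by
    intro f hf
    by_contra hcon
    push Not at hcon
    refine hf (HopfPts.ev_injective (k := k) (A := A) ?_)
    rw [map_zero]
    refine Torus.Dominant.dense_conj (HopfPts.D k A) HopfPts.sirr_univ hasMul_pts pts_ext (isCl_ptsOf (iH ≫ e.hom))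
      (sirr_ptsOf (iH ≫ e.hom)) (t := t) ⟨h₀, ht.symm⟩ (hfin.toFinset.image fun x => toA (rep x)) (fun χ hχ => ?_)
      ⟨f, rfl⟩ fun χ b hb => ?_
    · obtain ⟨b, hb⟩ := hχ
      change b ≫ iH ≫ e.hom = _ at hb
      have hg : (ptHom (A := A) (𝟙_ (Over (Spec (CommRingCat.of k)))) χ ≫ e.inv) ≫ e.hom = ptHom _ χ := by
        rw [Category.assoc, Iso.inv_hom_id, Category.comp_id]
      set g := ptHom (A := A) (𝟙_ (Over (Spec (CommRingCat.of k)))) χ ≫ e.inv
      have hcomm : g * (b ≫ iH) = (h₀ ≫ iH) * g := by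
        rw [← cancel_mono e.hom, MonObj.mul_comp, MonObj.mul_comp, hg, Category.assoc, Category.assoc, hb, ← ht,
          ← map_mul, ← map_mul]
        congr 1
        group
      have hfix : g ≫ a.orbitMap o ∈ hfin.toFinset := by
        rw [Set.Finite.mem_toFinset]
        show lift (h₀ ≫ iH) (g ≫ a.orbitMap o) ≫ a.act = g ≫ a.orbitMap o
        rw [horb]
        exact (hcoset g _ b hcomm).symm
      refine ⟨_, Finset.mem_image_of_mem _ hfix, hsq.lift (rep (g ≫ a.orbitMap o)) g (hrep _) ≫ snd G H, ?_⟩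
      set q := rep (g ≫ a.orbitMap o)
      have hl1 := hsq.lift_fst (rep (g ≫ a.orbitMap o)) g (hrep _)
      have hl2 := hsq.lift_snd (rep (g ≫ a.orbitMap o)) g (hrep _)
      set l := hsq.lift (rep (g ≫ a.orbitMap o)) g (hrep _)
      have hl : q * ((l ≫ snd G H) ≫ iH) = g := by
        have : lift q (l ≫ snd G H) = l := CartesianMonoidalCategory.hom_ext _ _ (by simp [hl1]; rfl) (by simp)
        have h3 := hl2
        rw [← this, lift_whiskerLeft_assoc, ← Hom.mul_def] at h3
        simpa using h3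
      show (l ≫ snd G H) ≫ iH ≫ e.hom = _
      rw [← Category.assoc (l ≫ snd G H), eq_inv_mul_of_mul_eq hl, MonObj.mul_comp, GrpObj.inv_comp, hg, map_mul,
        map_inv, htoA]
    · obtain ⟨y, hy⟩ := hb
      change y ≫ iH ≫ e.hom = _ at hy
      refine hcon (ptHom _ χ ≫ e.inv) y (χ * b * χ⁻¹) ?_
      rw [MonObj.mul_comp, MonObj.mul_comp, GrpObj.inv_comp, Category.assoc, Category.assoc, Iso.inv_hom_id,
        Category.comp_id, hy, map_mul, map_mul, map_inv]
  haveI : IsAffine H.left := isAffine_of_isAffineHom iH.left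
  haveI : QuasiCompact H.hom := inferInstance
  haveI : LocallyOfFiniteType (G ⊗ H).hom := by rw [Over.tensorObj_hom]; infer_instance
  haveI : QuasiCompact (G ⊗ H).hom := by rw [Over.tensorObj_hom]; infer_instance
  haveI : LocallyOfFiniteType (φ.left ≫ G.hom) := by rw [Over.w]; infer_instance
  haveI : LocallyOfFiniteType φ.left := locallyOfFiniteType_of_comp φ.left G.hom
  haveI : QuasiCompact (φ.left ≫ G.hom) := by rw [Over.w]; infer_instance
  haveI : QuasiCompact φ.left := QuasiCompact.of_comp φ.left G.hom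
  haveI : IsLocallyNoetherian G.left := LocallyOfFiniteType.isLocallyNoetherian G.hom
  haveI : QuasiCompact G.hom := inferInstance
  haveI := GrpIrred.isIntegral G
  have hd : Dense (Set.range φ.left.base) := by
    rw [dense_iff_inter_open]
    intro U hU hne
    let e' : G.left ⟶ Spec (CommRingCat.of A) := e.hom.left
    haveI : IsIso e' := ‹IsIso e.hom.left›
    have hV : IsOpen (e' '' U) := e'.homeomorph.isOpenMap U hU
    obtain ⟨_, ⟨f, rfl⟩, hzD, hD⟩ :=
      PrimeSpectrum.isTopologicalBasis_basic_opens.exists_subset_of_mem_open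
        (hne.image e').choose_spec hV
    have hf0 : f ≠ 0 := fun h => by
      exact ((PrimeSpectrum.mem_basicOpen _ _).mp hzD) (h ▸ zero_mem _)
    obtain ⟨x, b, χ, hχ, hχf⟩ := hdense f hf0
    let s : ↥(𝟙_ (Over (Spec (CommRingCat.of k)))).left := IsLocalRing.closedPoint k
    have hin : e' ((lift x b ≫ φ).left s) ∈ (PrimeSpectrum.basicOpen f : Set (PrimeSpectrum A)) := by
      rw [hφ, ← Scheme.Hom.comp_apply,
        show (x * (b ≫ iH) * x⁻¹).left ≫ e' = (ptHom (A := A) _ χ).left from congrArg CommaMorphism.left hχ, ptHom_left]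
      show f ∉ Ideal.comap χ.ofConv.toRingHom (IsLocalRing.maximalIdeal k)
      intro hm
      rw [Ideal.mem_comap, IsLocalRing.maximalIdeal_eq_bot] at hm
      exact hχf ((Submodule.mem_bot k).mp hm)
    obtain ⟨z, hzU, hz⟩ := hD hin
    exact ⟨z, hzU, (lift x b).left s, (e'.homeomorph.injective hz).symm⟩
  have hc : Topology.IsConstructible (Set.range φ.left.base) := by
    rw [← Set.image_univ]
    exact φ.left.isConstructible_image .univ
  have hη : genericPoint G.left ∈ Set.range φ.left.base := by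
    by_contra h
    obtain ⟨Z, hZ, hηZ, hZsub⟩ := exists_isLocallyClosed_subset hc.compl _ h
    obtain ⟨U, F, hU, hF, rfl⟩ := hZ
    obtain ⟨y, hyU, hyr⟩ := hd.inter_open_nonempty U hU ⟨_, hηZ.1⟩
    exact hZsub ⟨hyU, ((genericPoint_spec G.left).mem_closed_set_iff hF).mp hηZ.2 (Set.mem_univ y)⟩ hyr
  obtain ⟨Z, hZ, hηZ, hZsub⟩ := exists_isLocallyClosed_subset hc _ hη
  obtain ⟨U, F, hU, hF, rfl⟩ := hZ
  exact ⟨⟨U, hU⟩, ⟨_, hηZ.1⟩, fun y hy => hZsub ⟨hy, ((genericPoint_spec G.left).mem_closed_set_iff hF).mp hηZ.2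
    (Set.mem_univ y)⟩⟩

end Groth.Agent.H1.Classical.Scheme'
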