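import Groth.Agent.H1.Classical.Torus.Split
import Groth.Agent.H1.Classical.Borel
import Groth.Agent.H1.Classical.Invariant
import Mathlib.LinearAlgebra.Determinant
import Mathlib.RingTheory.Polynomial.Basic

/-!
# A group with a Borel subgroup `T U`, `T` central, is that subgroup
-/

universe u v w

namespace Groth.Agent.H1.Classical.Torus.Central

set_option linter.style.haveILetI false
set_option linter.unusedSectionVars false

open Module Kolchin Open Complete

variable {k : Type u} [Field k] [IsAlgClosed k] {Γ : Type v} [Group Γ] (D : Alg k Γ)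
  {W : Type w} [AddCommGroup W] [Module k W] {σ : Representation k Γ W}

/-- Regular characters are trivial on unipotent elements. -/
theorem char_eq_one (hσ : GenRep.Gen D σ) {u : Γ} (hu : IsNilpotent (σ u - 1)) {ψ : Γ →* kˣ}
    (hψ : Diag.RegChar D ψ) : ψ u = 1 := by
  rcases CharP.exists k with ⟨p, hp⟩
  rcases CharP.char_is_prime_or_zero k p with hpp | rfl
  · haveI := Fact.mk hpp
    haveI := hp
    haveI : ExpChar k p := ExpChar.prime hpp
    obtain ⟨N, hN⟩ := hu
    have h0 : σ (u ^ p ^ N) = 1 := by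
      have h1 : (σ u - 1) ^ p ^ N = 0 := pow_eq_zero_of_le (Nat.le_of_lt (Nat.lt_pow_self hpp.one_lt)) hN
      have h2 := congrArg (Polynomial.aeval (σ u)) (sub_pow_char_pow (R := Polynomial k) Polynomial.X 1 (n := N))
      rw [map_pow, map_sub, map_sub, map_pow, map_pow, Polynomial.aeval_X, map_one, one_pow, h1, eq_comm, sub_eq_zero,
        ← map_pow] at h2
      exact h2
    have hu1 : u ^ p ^ N = 1 := hσ.faith (h0.trans (map_one σ).symm)
    refine Units.ext (iterateFrobenius_inj k p N ?_)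
    rw [iterateFrobenius_def, iterateFrobenius_def, Units.val_one, one_pow, ← Units.val_pow_eq_pow_val, ← map_pow, hu1,
      map_one, Units.val_one]
  · haveI := hp
    haveI := CharP.charP_to_charZero k
    obtain ⟨P, hP⟩ := GenRep.exists_poly D hσ hu _ hψ
    obtain ⟨Q, hQ⟩ := GenRep.exists_poly D hσ hu _ (Diag.RegChar.inv hψ)
    have hPQ : P * Q = 1 := GenRep.poly_unique fun m => by
      rw [Polynomial.eval_mul, hP, hQ, Polynomial.eval_one, MonoidHom.inv_apply, Units.mul_inv]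
    obtain ⟨c, -, hc⟩ := Polynomial.isUnit_iff.mp (IsUnit.of_mul_eq_one Q hPQ)
    have h1 : (ψ (u ^ 1) : k) = (ψ (u ^ 0) : k) := by
      rw [← hP 1, ← hP 0, ← hc, Polynomial.eval_C, Polynomial.eval_C]
    rw [pow_one, pow_zero, map_one] at h1
    exact Units.ext h1

/-- The determinant of a family with regular coefficients is regular. -/
theorem det_regular {R : Subalgebra k (Γ → k)} {V : Type*} [AddCommGroup V] [Module k V] [FiniteDimensional k V]
    {F : Γ → End k V} (hF : EndFn R F) : (fun g => LinearMap.det (F g)) ∈ R := by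
  classical
  let b := Module.finBasis k V
  let M : Matrix (Fin (finrank k V)) (Fin (finrank k V)) R :=
    Matrix.of fun i j => ⟨fun g => b.coord i (F g (b j)), hF (b j) (b.coord i)⟩
  have : (fun g => LinearMap.det (F g)) = ((M.det : R) : Γ → k) := by
    funext g
    let χ : R →+* k := (Pi.evalRingHom (fun _ : Γ => k) g).comp R.val.toRingHom
    show _ = χ M.det
    rw [RingHom.map_det, ← LinearMap.det_toMatrix b]
    congr 1
    ext i j
    exact LinearMap.toMatrix_apply b b (F g) i j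
  rw [this]
  exact M.det.2

variable {V : Type*} [AddCommGroup V] [Module k V] [FiniteDimensional k V]

/-- Lines fixed by `S = T U` are fixed. -/
theorem stable_line (hirr : D.SIrr Set.univ) (hσ : GenRep.Gen D σ) {S T : Subgroup Γ} (hcl : D.IsCl S)
    (hS : Complete D S) (hTS : T ≤ S) (hT : ∀ t ∈ T, ∀ g, t * g = g * t)
    (hdec : ∀ s ∈ S, ∃ t ∈ T, IsNilpotent (σ (t⁻¹ * s) - 1)) (ρ : Representation k Γ V)
    (hρ : EndFn D.R (fun g => ρ g)) {v : V} (hv : v ≠ 0) (hev : ∀ s ∈ S, ∃ c : k, ρ s v = c • v) :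
    ∀ g, ∃ c : k, ρ g v = c • v := by
  classical
  choose c hc using fun s : S => hev s s.2
  let μ : S →* kˣ := MonoidHom.toHomUnits
    { toFun := c
      map_one' := smul_left_injective k hv (show c 1 • v = (1 : k) • v by
        rw [← hc, OneMemClass.coe_one, map_one, End.one_apply, one_smul])
      map_mul' := fun s s' => smul_left_injective k hv (show c (s * s') • v = (c s * c s') • v by
        rw [← hc, Subgroup.coe_mul, map_mul, End.mul_apply, hc s', map_smul, hc s, smul_smul, mul_comm]) }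
  have hμ : ∀ s : S, ρ (s : Γ) v = (μ s : k) • v := hc
  let W1 : Submodule k V := ⨅ t : T, LinearMap.ker (ρ (t : Γ) - (μ ⟨t, hTS t.2⟩ : k) • (1 : End k V))
  have hW1 : ∀ w, w ∈ W1 ↔ ∀ t : T, ρ (t : Γ) w = (μ ⟨t, hTS t.2⟩ : k) • w := fun w => by
    simp only [W1, Submodule.mem_iInf, LinearMap.mem_ker, LinearMap.sub_apply, LinearMap.smul_apply, End.one_apply,
      sub_eq_zero]
  have hvW : v ∈ W1 := (hW1 v).mpr fun t => hμ ⟨(t : Γ), hTS t.2⟩
  have hstab : ∀ g, ∀ w ∈ W1, ρ g w ∈ W1 := fun g w hw => (hW1 _).mpr fun t => by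
    rw [← End.mul_apply, ← map_mul, hT t t.2 g, map_mul, End.mul_apply, (hW1 w).mp hw t, map_smul]
  let ρ1 : Representation k Γ W1 :=
    { toFun := fun g => (ρ g).restrict (hstab g)
      map_one' := LinearMap.ext fun w => Subtype.ext (by simp)
      map_mul' := fun a b => LinearMap.ext fun w => Subtype.ext (by simp) }
  haveI : Nontrivial W1 := ⟨⟨⟨v, hvW⟩, 0, fun h => hv (congrArg Subtype.val h)⟩⟩
  let d := finrank k W1
  have hd : d ≠ 0 := Module.finrank_pos.ne'
  have hρ1 : EndFn D.R (fun g => ρ1 g⁻¹) := fun w l => by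
    obtain ⟨l', hl'⟩ := LinearMap.exists_extend l
    have : (fun g => l (ρ1 g⁻¹ w)) = fun g => l' (ρ g⁻¹ (w : V)) := by funext g; rw [← hl']; rfl
    rw [this]
    exact D.inv _ (hρ (w : V) l')
  -- the character `μ ^ d / det` of `S` is trivial
  let ψ : S →* kˣ := μ ^ d * ((LinearMap.det.comp ρ1).toHomUnits.comp S.subtype)⁻¹
  obtain ⟨l0, hl0⟩ : ∃ l : Dual k V, l v = 1 := by
    obtain ⟨l, hl, -⟩ := Submodule.exists_dual_map_eq_bot_of_notMem (p := (⊥ : Submodule k V)) (x := v)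
      (fun h => hv ((Submodule.mem_bot k).mp h)) inferInstance
    exact ⟨(l v)⁻¹ • l, by simp [hl]⟩
  have hψreg : Diag.RegChar (D.restrict S hcl) ψ := by
    refine ⟨(fun g => l0 (ρ g v)) ^ d * fun g => LinearMap.det (ρ1 g⁻¹), D.R.mul_mem (D.R.pow_mem (hρ v l0) d)
      (det_regular hρ1), funext fun s => ?_⟩
    show l0 (ρ (s : Γ) v) ^ d * LinearMap.det (ρ1 (s : Γ)⁻¹) = _
    rw [hμ, map_smul, hl0, smul_eq_mul, mul_one]
    simp only [ψ, MonoidHom.mul_apply, MonoidHom.pow_apply, Units.val_mul, Units.val_pow_eq_pow_val, MonoidHom.inv_apply,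
      MonoidHom.comp_apply]
    congr 1
  have hψ : ∀ s, ψ s = 1 := by
    intro s
    obtain ⟨t, ht, hu⟩ := hdec s s.2
    have h1 : ψ ((⟨t, hTS ht⟩ : S)⁻¹ * s) = 1 :=
      char_eq_one (D.restrict S hcl) (GenRep.Gen.restrict D hσ S hcl) hu hψreg
    rw [map_mul, map_inv, inv_mul_eq_one] at h1
    rw [← h1]
    refine Units.ext ?_
    simp only [ψ, MonoidHom.mul_apply, MonoidHom.pow_apply, Units.val_mul, Units.val_pow_eq_pow_val, MonoidHom.inv_apply,
      Units.val_one]
    have h2 : ρ1 t = (μ ⟨t, hTS ht⟩ : k) • LinearMap.id :=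
      LinearMap.ext fun w => Subtype.ext ((hW1 w).mp w.2 ⟨t, ht⟩)
    have h3 : ((((LinearMap.det.comp ρ1).toHomUnits.comp S.subtype) ⟨t, hTS ht⟩ : kˣ) : k) =
        (μ ⟨t, hTS ht⟩ : k) ^ d := by
      show LinearMap.det (ρ1 t) = _
      rw [h2, LinearMap.det_smul, LinearMap.det_id, mul_one]
    rw [← h3, Units.mul_inv]
  intro g
  by_contra hcon
  have hnot : ρ g v ∉ Submodule.span k {v} := fun hm => hcon (by
    obtain ⟨a, ha⟩ := Submodule.mem_span_singleton.mp hm
    exact ⟨a, ha.symm⟩)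
  obtain ⟨l, hl, hlv⟩ := Submodule.exists_dual_map_eq_bot_of_notMem hnot inferInstance
  have hlv0 : l v = 0 := (Submodule.mem_bot k).mp (hlv ▸ ⟨v, Submodule.mem_span_singleton_self v, rfl⟩)
  let f : D.R := ⟨(fun g => l (ρ g v)) ^ d * fun g => LinearMap.det (ρ1 g⁻¹),
    D.R.mul_mem (D.R.pow_mem (hρ v l) d) (det_regular hρ1)⟩
  have hf := Invariant.const_of_complete D hirr hS f (fun x s hs => by
    show l (ρ (x * s) v) ^ d * LinearMap.det (ρ1 (x * s)⁻¹) = l (ρ x v) ^ d * LinearMap.det (ρ1 x⁻¹)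
    have h1 : (μ ⟨s, hs⟩ : k) ^ d * LinearMap.det (ρ1 s⁻¹) = 1 := by
      have h := congrArg Units.val (hψ ⟨s, hs⟩)
      simp only [ψ, MonoidHom.mul_apply, MonoidHom.pow_apply, Units.val_mul, Units.val_pow_eq_pow_val,
        MonoidHom.inv_apply, MonoidHom.comp_apply, ← map_inv] at h
      exact h
    rw [map_mul ρ, End.mul_apply, show ρ s v = _ from hμ ⟨s, hs⟩, map_smul, map_smul, smul_eq_mul, mul_inv_rev,
      map_mul ρ1, map_mul, mul_pow,
      show ∀ a b c e : k, a * b * (c * e) = b * e * (a * c) from fun _ _ _ _ => by ring, h1, mul_one]) g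
  change l (ρ g v) ^ d * LinearMap.det (ρ1 g⁻¹) = l (ρ 1 v) ^ d * _ at hf
  rw [map_one ρ, End.one_apply, hlv0, zero_pow hd, zero_mul, mul_eq_zero] at hf
  rcases hf with hf | hf
  · exact hl (pow_eq_zero_iff'.mp hf).1
  · exact ((LinearMap.det.comp ρ1).toHomUnits g⁻¹).ne_zero hf

/-- Such a group is solvable. -/
theorem isSolvable [FiniteDimensional k W] (hirr : D.SIrr Set.univ) (hσ : GenRep.Gen D σ)
    {S T : Subgroup Γ} (hScl : D.IsCl S) (hSirr : D.SIrr S) [Group.IsSolvable S] (hS : Complete D S) (hTS : T ≤ S)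
    (hT : ∀ t ∈ T, ∀ g, t * g = g * t) (hdec : ∀ s ∈ S, ∃ t ∈ T, IsNilpotent (σ (t⁻¹ * s) - 1)) :
    Group.IsSolvable Γ := by
  have hS' : (D.restrict S hScl).SIrr Set.univ :=
    D.sirr_restrict.mpr (by rw [Set.image_univ, Subtype.range_coe_subtype]; exact hSirr)
  haveI := isDomain hS'
  obtain ⟨b, hb⟩ := Tri.exists_tri_of_eigvec D.R (fun {V} _ _ _ _ ρ hρ hρ' => by
    obtain ⟨v, hv, hev⟩ := Fixed.exists_eigvec (D.restrict S hScl).R (ρ.comp S.subtype)
      (fun w l => ⟨_, hρ w l, rfl⟩) (fun w l => ⟨_, hρ' w l, rfl⟩)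
    exact ⟨v, hv, stable_line D hirr hσ hScl hS hTS hT hdec ρ hρ hv fun s hs => hev ⟨s, hs⟩⟩)
    (finrank k W) σ hσ.reg (GenRep.inv_regular D hσ) rfl
  exact Tri.isSolvable hb hσ.faith

end Groth.Agent.H1.Classical.Torus.Central
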