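import Groth.Agent.H1.Classical.Invariant
import Mathlib.RingTheory.Polynomial.Pochhammer
import Mathlib.Data.Nat.Choose.Cast
import Mathlib.RingTheory.Nilpotent.Basic

/-!
# Generating representations and powers of unipotent elements
-/

universe u v w

namespace Groth.Agent.H1.Classical.Torus.GenRep

set_option linter.style.haveILetI false
set_option linter.unusedSectionVars false

open Module Kolchin Open Complete

variable {k : Type u} [Field k] {Γ : Type v} [Group Γ] (D : Alg k Γ)

/-- A faithful representation whose coefficients generate the regular functions. -/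
structure Gen {W : Type w} [AddCommGroup W] [Module k W] (σ : Representation k Γ W) : Prop where
  reg : EndFn D.R (fun g => σ g)
  faith : Function.Injective σ
  gen : D.R ≤ Algebra.adjoin k {f : Γ → k | ∃ (w : W) (l : Dual k W), f = fun g => l (σ g w)}

/-- The regular representation on a finite dimensional space of functions. -/
theorem exists_gen [IsAlgClosed k] (hmul : HasMul D) (hsep : ∀ x y : Γ, (∀ f ∈ D.R, f x = f y) → x = y) :
    ∃ (W : Submodule k D.R) (_ : FiniteDimensional k W) (σ : Representation k Γ W), Gen D σ := by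
  classical
  obtain ⟨s₀, hs⟩ := D.fg
  have hsR : ∀ f ∈ s₀, f ∈ D.R := fun f hf => hs ▸ Algebra.subset_adjoin hf
  let F : Finset D.R := s₀.attach.image fun f => ⟨f.1, hsR _ f.2⟩
  choose n a b hab using fun f : D.R => hmul f
  let W : Submodule k D.R := Submodule.span k (⋃ f ∈ F, Set.range fun h : Γ => D.rTrans h f)
  have hfd : FiniteDimensional k W := by
    haveI : FiniteDimensional k (Submodule.span k (⋃ f ∈ F, Set.range (a f))) :=
      FiniteDimensional.span_of_finite k (F.finite_toSet.biUnion fun f _ => Set.finite_range _)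
    refine Submodule.finiteDimensional_of_le (S₂ := Submodule.span k (⋃ f ∈ F, Set.range (a f))) ?_
    · refine Submodule.span_le.mpr ?_
      rintro _ hx
      simp only [Set.mem_iUnion, Set.mem_range] at hx
      obtain ⟨f, hf, h, rfl⟩ := hx
      rw [show D.rTrans h f = ∑ i, (b f i : Γ → k) h • a f i from Subtype.ext (funext fun g => by
        show (f : Γ → k) (g * h) = evalR D g (∑ i, (b f i : Γ → k) h • a f i)
        rw [hab f g h, map_sum]
        refine Finset.sum_congr rfl fun i _ => ?_
        rw [map_smul, smul_eq_mul, mul_comm]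
        rfl)]
      exact Submodule.sum_mem _ fun i _ => Submodule.smul_mem _ _
        (Submodule.subset_span (Set.mem_biUnion hf ⟨i, rfl⟩))
  have hstab : ∀ g, ∀ f ∈ W, (D.rTrans g).toLinearMap f ∈ W := by
    intro g
    suffices W ≤ W.comap (D.rTrans g).toLinearMap from fun f hf => this hf
    refine Submodule.span_le.mpr ?_
    rintro _ hx
    simp only [Set.mem_iUnion, Set.mem_range] at hx
    obtain ⟨f, hf, h, rfl⟩ := hx
    refine Submodule.subset_span (Set.mem_biUnion hf ⟨g * h, Subtype.ext (funext fun x => ?_)⟩)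
    show (f : Γ → k) (x * (g * h)) = (f : Γ → k) (x * g * h)
    rw [mul_assoc]
  let σ : Representation k Γ W :=
    { toFun := fun g => (D.rTrans g).toLinearMap.restrict (hstab g)
      map_one' := LinearMap.ext fun w => Subtype.ext (Subtype.ext (funext fun x => by
        show ((w : D.R) : Γ → k) (x * 1) = _
        rw [mul_one]; rfl))
      map_mul' := fun g h => LinearMap.ext fun w => Subtype.ext (Subtype.ext (funext fun x => by
        show ((w : D.R) : Γ → k) (x * (g * h)) = ((w : D.R) : Γ → k) (x * g * h)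
        rw [mul_assoc])) }
  have hσ : EndFn D.R (fun g => σ g) := by
    intro w l
    obtain ⟨l', hl'⟩ := LinearMap.exists_extend l
    have : (fun g => l (σ g w)) = ((∑ i, l' (a w i) • b w i : D.R) : Γ → k) := by
      funext g
      rw [← hl']
      show l' (D.rTrans g w) = evalR D g (∑ i, l' (a w i) • b w i)
      rw [show D.rTrans g w = ∑ i, (b w i : Γ → k) g • a w i from Subtype.ext (funext fun x => by
        show ((w : D.R) : Γ → k) (x * g) = evalR D x (∑ i, (b w i : Γ → k) g • a w i)
        rw [hab w x g, map_sum]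
        refine Finset.sum_congr rfl fun i _ => ?_
        rw [map_smul, smul_eq_mul, mul_comm]
        rfl), map_sum, map_sum]
      refine Finset.sum_congr rfl fun i _ => ?_
      rw [map_smul, map_smul, smul_eq_mul, smul_eq_mul, mul_comm]
      rfl
    rw [this]
    exact Subtype.coe_prop _
  let l1 : Dual k W := (evalR D (1 : Γ)).toLinearMap.comp W.subtype
  have hval : ∀ f ∈ s₀, ∃ w : W, ∀ g, l1 (σ g w) = f g := by
    intro f hf
    have hfF : (⟨f, hsR f hf⟩ : D.R) ∈ F :=
      Finset.mem_image.mpr ⟨⟨f, hf⟩, Finset.mem_attach _ _, rfl⟩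
    refine ⟨⟨⟨f, hsR f hf⟩, Submodule.subset_span (Set.mem_biUnion hfF ⟨1, Subtype.ext (funext fun x => by
      show f (x * 1) = f x
      rw [mul_one])⟩)⟩, fun g => ?_⟩
    show f (1 * g) = f g
    rw [one_mul]
  have hgen : D.R ≤ Algebra.adjoin k {f : Γ → k | ∃ (w : W) (l : Dual k W), f = fun g => l (σ g w)} := by
    refine hs.ge.trans (Algebra.adjoin_le fun f hf => Algebra.subset_adjoin ?_)
    obtain ⟨w, hw⟩ := hval f hf
    exact ⟨w, l1, funext fun g => (hw g).symm⟩
  refine ⟨W, hfd, σ, hσ, fun x y hxy => hsep x y fun f hf => ?_, hgen⟩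
  have hf' := hgen hf
  clear hf
  induction hf' using Algebra.adjoin_induction with
  | mem f hf => obtain ⟨w, l, rfl⟩ := hf; show l (σ x w) = l (σ y w); rw [hxy]
  | algebraMap c => rfl
  | add f f' _ _ h h' => show f x + f' x = f y + f' y; rw [h, h']
  | mul f f' _ _ h h' => show f x * f' x = f y * f' y; rw [h, h']

variable {W : Type w} [AddCommGroup W] [Module k W] {σ : Representation k Γ W}

theorem Gen.restrict (hσ : Gen D σ) (P : Subgroup Γ) (hP : D.IsCl P) :
    Gen (D.restrict P hP) (σ.comp P.subtype) := by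
  refine ⟨fun w l => ⟨_, hσ.reg w l, rfl⟩, fun x y h => Subtype.ext (hσ.faith h), ?_⟩
  rintro _ ⟨f, hf, rfl⟩
  have h : Alg.res P f ∈ (Algebra.adjoin k {f : Γ → k | ∃ (w : W) (l : Dual k W), f = fun g => l (σ g w)}).map
      (Alg.res P) := ⟨f, hσ.gen hf, rfl⟩
  rw [AlgHom.map_adjoin] at h
  refine Algebra.adjoin_mono ?_ h
  rintro _ ⟨_, ⟨w, l, rfl⟩, rfl⟩
  exact ⟨w, l, rfl⟩

theorem inv_regular (hσ : Gen D σ) : EndFn D.R (fun g => σ g⁻¹) := fun v l => D.inv _ (hσ.reg v l)

/-- The binomial formula for a matrix coefficient of powers of a unipotent element. -/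
theorem coeff_pow [CharZero k] {u : Γ} {N : ℕ} (hN : (σ u - 1) ^ N = 0) (w : W) (l : Dual k W) (n : ℕ) :
    (∑ i ∈ Finset.range N, Polynomial.C (l (((σ u - 1) ^ i) w) * ((i.factorial : k))⁻¹) * descPochhammer k i).eval
      (n : k) = l (σ (u ^ n) w) := by
  have h1 : σ (u ^ n) = ∑ i ∈ Finset.range (n + 1), (n.choose i) • (σ u - 1) ^ i := by
    rw [map_pow]
    conv_lhs => rw [← sub_add_cancel (σ u) 1]
    rw [Commute.add_pow (Commute.one_right _)]
    exact Finset.sum_congr rfl fun i _ => by rw [one_pow, mul_one, ← nsmul_eq_mul']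
  have h2 : ∑ i ∈ Finset.range (n + 1), (n.choose i) • (σ u - 1) ^ i =
      ∑ i ∈ Finset.range N, (n.choose i) • (σ u - 1) ^ i := by
    rcases le_total N (n + 1) with h | h
    · refine (Finset.sum_subset (Finset.range_mono h) fun i _ hi => ?_).symm
      rw [pow_eq_zero_of_le (not_lt.mp fun h' => hi (Finset.mem_range.mpr h')) hN, smul_zero]
    · refine Finset.sum_subset (Finset.range_mono h) fun i _ hi => ?_
      rw [Nat.choose_eq_zero_of_lt (Nat.lt_of_lt_of_le (Nat.lt_succ_self n)
        (not_lt.mp fun h' => hi (Finset.mem_range.mpr h'))), zero_smul]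
  show Polynomial.eval _ _ = l (σ (u ^ n) w)
  rw [h1, h2, LinearMap.sum_apply, map_sum, Polynomial.eval_finsetSum]
  refine Finset.sum_congr rfl fun i _ => ?_
  rw [LinearMap.smul_apply, map_nsmul, nsmul_eq_mul, Nat.cast_choose_eq_descPochhammer_div, Polynomial.eval_mul,
    Polynomial.eval_C]
  ring

/-- Regular functions on powers of a unipotent element are polynomial. -/
theorem exists_poly [CharZero k] (hσ : Gen D σ) {u : Γ} (hu : IsNilpotent (σ u - 1)) (f : Γ → k) (hf : f ∈ D.R) :
    ∃ P : Polynomial k, ∀ n : ℕ, P.eval (n : k) = f (u ^ n) := by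
  have hf' := hσ.gen hf
  clear hf
  induction hf' using Algebra.adjoin_induction with
  | mem f hf =>
    obtain ⟨w, l, rfl⟩ := hf
    obtain ⟨N, hN⟩ := hu
    exact ⟨_, coeff_pow hN w l⟩
  | algebraMap c => exact ⟨Polynomial.C c, fun n => by simp⟩
  | add f f' _ _ h h' =>
    obtain ⟨P, hP⟩ := h
    obtain ⟨P', hP'⟩ := h'
    exact ⟨P + P', fun n => by simp [hP n, hP' n]⟩
  | mul f f' _ _ h h' =>
    obtain ⟨P, hP⟩ := h
    obtain ⟨P', hP'⟩ := h'
    exact ⟨P * P', fun n => by simp [hP n, hP' n]⟩

theorem poly_unique [CharZero k] {P P' : Polynomial k} (h : ∀ n : ℕ, P.eval (n : k) = P'.eval (n : k)) : P = P' :=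
  Polynomial.eq_of_infinite_eval_eq P P' ((Set.infinite_range_of_injective Nat.cast_injective).mono (by
    rintro _ ⟨n, rfl⟩; exact h n))

/-- The powers of a unipotent element extend to a one-parameter subgroup. -/
theorem exists_pt [CharZero k] (hσ : Gen D σ) {u : Γ} (hu : IsNilpotent (σ u - 1)) (t : k) :
    ∃ v : Γ, ∀ f ∈ D.R, ∀ P : Polynomial k, (∀ n : ℕ, P.eval (n : k) = f (u ^ n)) → f v = P.eval t := by
  choose P hP using fun f : D.R => exists_poly D hσ hu f f.2
  have key : ∀ (f : D.R) (Q : Polynomial k), (∀ n : ℕ, Q.eval (n : k) = (f : Γ → k) (u ^ n)) → Q = P f :=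
    fun f Q h => poly_unique fun n => (h n).trans (hP f n).symm
  let φ : D.R →ₐ[k] Polynomial k :=
    { toFun := P
      map_one' := (key 1 1 fun n => by simp).symm
      map_mul' := fun f f' => (key (f * f') _ fun n => by rw [Polynomial.eval_mul, hP, hP]; rfl).symm
      map_zero' := (key 0 0 fun n => by simp).symm
      map_add' := fun f f' => (key (f + f') _ fun n => by rw [Polynomial.eval_add, hP, hP]; rfl).symm
      commutes' := fun c => (key (algebraMap k D.R c) (algebraMap k (Polynomial k) c) fun n => by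
        rw [← Polynomial.C_eq_algebraMap, Polynomial.eval_C]; rfl).symm }
  obtain ⟨v, hv⟩ := D.pts ((Polynomial.aeval t).comp φ)
  refine ⟨v, fun f hf Q hQ => ?_⟩
  rw [key ⟨f, hf⟩ Q hQ]
  refine (hv ⟨f, hf⟩).symm.trans ?_
  show Polynomial.aeval t (P ⟨f, hf⟩) = _
  rw [Polynomial.coe_aeval_eq_eval]

/-- Such a point lies in every closed set containing the powers. -/
theorem mem_of_powers [CharZero k] {C : Set Γ} (hC : D.IsCl C) {u v : Γ} (hu : ∀ n : ℕ, u ^ n ∈ C) {t : k}
    (hv : ∀ f ∈ D.R, ∀ P : Polynomial k, (∀ n : ℕ, P.eval (n : k) = f (u ^ n)) → f v = P.eval t) : v ∈ C :=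
  hC fun f hf => by
    rw [hv f f.2 0 fun n => by rw [Polynomial.eval_zero, hf _ (hu n)], Polynomial.eval_zero]

end Groth.Agent.H1.Classical.Torus.GenRep
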