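import Groth.Agent.H1.Classical.Torus.Central
import Groth.Agent.H1.Classical.Image
import Mathlib.LinearAlgebra.Semisimple
import Mathlib.GroupTheory.OrderOfElement

/-!
# Cartan subgroups: the centraliser of a maximal torus and the fixed points of a regular element
-/

universe u v w

namespace Groth.Agent.H1.Classical.Torus.Cartan

set_option linter.style.haveILetI false
set_option linter.unusedSectionVars false

open Module Kolchin Open Complete

variable {k : Type u} [Field k] [IsAlgClosed k] {Γ : Type v} [Group Γ] (D : Alg k Γ)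
  {W : Type w} [AddCommGroup W] [Module k W] [FiniteDimensional k W] (σ : Representation k Γ W)

variable {D σ}

/-- The component of a closed subgroup. -/
theorem exists_component_in (P : Subgroup Γ) (hP : D.IsCl P) :
    ∃ C : Subgroup Γ, C ≤ P ∧ D.IsCl C ∧ D.SIrr C ∧ (∀ S : Subgroup Γ, D.SIrr S → S ≤ P → S ≤ C) ∧
      ∃ Q : Finset Γ, (∀ q ∈ Q, q ∈ P) ∧ ∀ g ∈ P, ∃ q ∈ Q, q⁻¹ * g ∈ C := by
  classical
  obtain ⟨C0, hC0, hC0irr, hC0max⟩ := (D.restrict P hP).exists_component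
  have hset : ((C0.map P.subtype : Subgroup Γ) : Set Γ) = Subtype.val '' (C0 : Set P) := Subgroup.coe_map _ _
  refine ⟨C0.map P.subtype, fun x hx => by obtain ⟨p, -, rfl⟩ := hx; exact p.2, hset ▸ D.isCl_image hC0,
    hset ▸ D.sirr_restrict.mp hC0irr, fun S hS hle x hx => ?_, ?_⟩
  · have h := hC0max {p : P | (p : Γ) ∈ S} (D.sirr_restrict.mpr (by
      have : Subtype.val '' {p : P | (p : Γ) ∈ S} = (S : Set Γ) := by
        ext y
        exact ⟨fun ⟨p, hp, hpy⟩ => hpy ▸ hp, fun hy => ⟨⟨y, hle hy⟩, hy, rfl⟩⟩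
      rwa [this])) S.one_mem
    exact ⟨_, h (show ((⟨x, hle hx⟩ : P) : Γ) ∈ S from hx), rfl⟩
  · obtain ⟨Q, hQ⟩ := finite_cover (D.restrict P hP) C0 hC0max
    refine ⟨Q.image (↑), fun q hq => ?_, fun g hg => ?_⟩
    · obtain ⟨p, -, rfl⟩ := Finset.mem_image.mp hq
      exact p.2
    · obtain ⟨q, hq, hqg⟩ := hQ ⟨g, hg⟩
      exact ⟨q, Finset.mem_image_of_mem _ hq, _, hqg, rfl⟩

/-- An element of finite order prime to the characteristic which is unipotent is trivial. -/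
theorem eq_one_of_nilp (hf : Function.Injective σ) {z : Γ} {m : ℕ} (hm : (m : k) ≠ 0) (hzm : z ^ m = 1)
    (hz : IsNilpotent (σ z - 1)) : z = 1 := by
  have hss : End.IsSemisimple (σ z) := by
    refine End.isSemisimple_of_squarefree_aeval_eq_zero
      (p := Polynomial.X ^ m - Polynomial.C 1) (Polynomial.separable_X_pow_sub_C 1 hm one_ne_zero).squarefree ?_
    rw [map_sub, map_pow, Polynomial.aeval_X, ← map_pow, hzm, map_one, Polynomial.aeval_C, map_one, sub_self]
  refine hf ?_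
  rw [map_one, ← sub_eq_zero]
  refine End.eq_zero_of_isNilpotent_isSemisimple hz ?_
  rw [← map_one (algebraMap k (End k W))]
  exact End.isSemisimple_sub_algebraMap_iff.mpr hss

/-- The data of a Borel subgroup with a maximal torus and a regular element. -/
theorem exists_finite_fix (hirr : D.SIrr Set.univ) (hmul : HasMul D) (hσ : GenRep.Gen D σ) {B : Subgroup Γ}
    (hcl : D.IsCl B) (hBirr : D.SIrr B) [Group.IsSolvable B]
    (habs : ∀ S : Subgroup Γ, Group.IsSolvable S → D.SIrr S → ∃ a : Γ, ∀ s ∈ S, a⁻¹ * s * a ∈ B) :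
    ∃ t ∈ B, ∃ Q : Finset Γ, ∀ x, x⁻¹ * t * x ∈ B → ∃ q ∈ Q, q⁻¹ * x ∈ B := by
  classical
  let DB := D.restrict B hcl
  have hDB : DB.SIrr Set.univ :=
    D.sirr_restrict.mpr (by rw [Set.image_univ, Subtype.range_coe_subtype]; exact hBirr)
  obtain ⟨T, U, τ, hs⟩ := Split.exists_split DB hDB (σ.comp B.subtype) (GenRep.Gen.restrict D hσ B hcl)
  obtain ⟨e, he⟩ := hs.diag
  let T' : Subgroup Γ := T.map B.subtype
  have hT'set : (T' : Set Γ) = Subtype.val '' (T : Set B) := Subgroup.coe_map _ _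
  have hT'irr : D.SIrr T' := hT'set ▸ D.sirr_restrict.mp hs.irrT
  have hT'B : T' ≤ B := fun x hx => by obtain ⟨p, -, rfl⟩ := hx; exact p.2
  -- eigenvalue functions
  let ev : Fin (finrank k W) → Γ → k := fun i g => e.coord i (σ g (e i))
  have hevreg : ∀ i, ev i ∈ D.R := fun i => hσ.reg (e i) (e.coord i)
  have hact : ∀ t ∈ T', ∀ i, σ t (e i) = ev i t • e i := by
    rintro _ ⟨t, ht, rfl⟩ i
    obtain ⟨c, hc⟩ := he t ht i
    have hc' : σ (t : Γ) (e i) = c • e i := hc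
    show σ (t : Γ) (e i) = e.coord i (σ (t : Γ) (e i)) • e i
    rw [hc', map_smul, Basis.coord_apply, Basis.repr_self, Finsupp.single_eq_same, smul_eq_mul, mul_one]
  have hdense : ∀ f ∈ D.R, (∀ t ∈ T', (∃ m : ℕ, (m : k) ≠ 0 ∧ t ^ m = 1) → f t = 0) → ∀ t ∈ T', f t = 0 := by
    rintro f hf h _ ⟨t, ht, rfl⟩
    refine hs.dense _ ⟨f, hf, rfl⟩ (fun s hsT ⟨m, hm, hsm⟩ => h _ ⟨s, hsT, rfl⟩ ⟨m, hm, ?_⟩) t ht
    show ((s : Γ)) ^ m = 1
    rw [← SubmonoidClass.coe_pow, hsm, OneMemClass.coe_one]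
  -- a regular torsion element
  let P := Finset.univ.filter fun p : Fin (finrank k W) × Fin (finrank k W) => ∃ t ∈ T', ev p.1 t ≠ ev p.2 t
  obtain ⟨t₀, ht₀, ⟨m, hm, htm⟩, hreg⟩ : ∃ t ∈ T', (∃ m : ℕ, (m : k) ≠ 0 ∧ t ^ m = 1) ∧
      ∀ p ∈ P, ev p.1 t ≠ ev p.2 t := by
    by_contra hcon
    push Not at hcon
    have h0 : ∀ t ∈ T', (∏ p ∈ P, (ev p.1 - ev p.2)) t = 0 :=
      hdense _ (Subalgebra.prod_mem _ fun p _ => D.R.sub_mem (hevreg _) (hevreg _)) fun t ht htor => by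
        obtain ⟨p, hp, hpe⟩ := hcon t ht htor
        rw [Finset.prod_apply]
        exact Finset.prod_eq_zero hp (by rw [Pi.sub_apply, hpe, sub_self])
    obtain ⟨p, hp, hpz⟩ := Alg.SIrr.exists_forall D hT'irr ⟨1, T'.one_mem⟩ P (fun p => {ev p.1 - ev p.2})
      (fun p _ => Set.singleton_subset_iff.mpr (D.R.sub_mem (hevreg _) (hevreg _))) fun t ht => by
        have h1 := h0 t ht
        rw [Finset.prod_apply, Finset.prod_eq_zero_iff] at h1
        obtain ⟨p, hp, hpe⟩ := h1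
        exact ⟨p, hp, by rintro f rfl; exact hpe⟩
    obtain ⟨t, ht, hne⟩ := (Finset.mem_filter.mp hp).2
    exact hne (sub_eq_zero.mp (hpz t ht _ rfl))
  have hcomm : ∀ g, g * t₀ = t₀ * g → ∀ t ∈ T', g * t = t * g := by
    intro g hg t ht
    refine hσ.faith (e.ext fun i => e.repr.injective (Finsupp.ext fun j => ?_))
    have hdiag : ∀ s ∈ T', ∀ x : W, e.repr (σ s x) j = ev j s * e.repr x j := by
      intro s hsT x
      conv_lhs => rw [← e.sum_repr x, map_sum, map_sum, Finsupp.finsetSum_apply]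
      rw [Finset.sum_eq_single j]
      · rw [map_smul, hact s hsT, map_smul, map_smul, Basis.repr_self, Finsupp.smul_apply, Finsupp.smul_apply,
          Finsupp.single_eq_same, smul_eq_mul, smul_eq_mul]
        ring
      · intro l _ hl
        rw [map_smul, hact s hsT, map_smul, map_smul, Basis.repr_self, Finsupp.smul_apply, Finsupp.smul_apply,
          Finsupp.single_eq_of_ne (Ne.symm hl), smul_zero, smul_zero]
      · exact fun h => absurd (Finset.mem_univ j) h
    rw [map_mul, map_mul, End.mul_apply, End.mul_apply, hact t ht, map_smul, map_smul, Finsupp.smul_apply, smul_eq_mul,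
      hdiag t ht]
    have h0 := congrArg (fun y => e.repr (σ y (e i)) j) hg
    simp only [map_mul, End.mul_apply, hact t₀ ht₀, map_smul, Finsupp.smul_apply, smul_eq_mul, hdiag t₀ ht₀] at h0
    by_cases hp : (i, j) ∈ P
    · rw [mul_eq_mul_right_iff] at h0
      rw [h0.resolve_left (hreg _ hp), mul_zero, mul_zero]
    · have : ev i t = ev j t := by
        by_contra h
        exact hp (Finset.mem_filter.mpr ⟨Finset.mem_univ _, t, ht, h⟩)
      rw [this]
  have hTcomm : ∀ a ∈ T', ∀ b ∈ T', a * b = b * a := by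
    rintro _ ⟨a, ha, rfl⟩ _ ⟨b, hb, rfl⟩
    rw [← map_mul, hs.comm a ha b hb, map_mul]
  -- the centraliser and its component
  let C : Subgroup Γ := Subgroup.centralizer {t₀}
  have hmemC : ∀ g, g ∈ C ↔ g * t₀ = t₀ * g := fun g => by
    rw [Subgroup.mem_centralizer_iff]
    exact ⟨fun h => (h t₀ rfl).symm, fun h x hx => by rw [Set.mem_singleton_iff.mp hx]; exact h.symm⟩
  have hCcl : D.IsCl C := by
    have : (C : Set Γ) = {g | ∀ s ∈ ({t₀} : Set Γ), g * s = s * g} := Set.ext fun g => by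
      simp [hmemC]
    rw [this]
    exact Diagonal.isCl_centralizer hσ.reg hσ.faith _
  obtain ⟨C0, hC0C, hC0cl, hC0irr, hC0max, Qc, hQc, hQcov⟩ := exists_component_in C hCcl
  have hT'C0 : T' ≤ C0 := hC0max T' hT'irr fun t ht => (hmemC t).mpr (hTcomm t ht t₀ ht₀)
  have hcen : ∀ g ∈ C, ∀ t ∈ T', g * t = t * g := fun g hg => hcomm g ((hmemC g).mp hg)
  let DC := D.restrict C0 hC0cl
  have hDC : DC.SIrr Set.univ :=
    D.sirr_restrict.mpr (by rw [Set.image_univ, Subtype.range_coe_subtype]; exact hC0irr)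
  have hσC := GenRep.Gen.restrict D hσ C0 hC0cl
  obtain ⟨S, hScl, hSirr, ⟨ms, hms⟩, hSabs, hScomp⟩ := Borel.exists_borel_complete _ DC hDC
    (σ.comp C0.subtype) hσC.reg rfl
  have hScomp := hScomp (hasMul_restrict D hmul C0 hC0cl)
  haveI : Group.IsSolvable S := (Group.isSolvable_def _).mpr ⟨ms, (Subgroup.eq_bot_iff_forall _).mpr fun a ha =>
    Subtype.ext (hσC.faith ((hms a ha).trans (map_one _).symm))⟩
  let T'' : Subgroup C0 := T'.subgroupOf C0
  have hT''c : ∀ t ∈ T'', ∀ g : C0, t * g = g * t := fun t ht g => Subtype.ext (hcen g (hC0C g.2) t ht).symm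
  have hTS : T'' ≤ S := by
    have hsol : Group.IsSolvable T'' := (Group.isSolvable_def _).mpr ⟨1, by
      rw [derivedSeries_one, eq_bot_iff, commutator_def, Subgroup.commutator_le]
      intro a _ b _
      rw [Subgroup.mem_bot, commutatorElement_eq_one_iff_mul_comm]
      exact Subtype.ext (hT''c a a.2 b)⟩
    obtain ⟨a, ha⟩ := hSabs T'' hsol (D.sirr_restrict.mpr (by
      have : Subtype.val '' (T'' : Set C0) = (T' : Set Γ) := by
        ext y
        exact ⟨fun ⟨p, hp, hpy⟩ => hpy ▸ hp, fun hy => ⟨⟨y, hT'C0 hy⟩, hy, rfl⟩⟩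
      rwa [this]))
    intro t ht
    have := ha t ht
    rwa [mul_assoc, hT''c t ht a, inv_mul_cancel_left] at this
  let DS := DC.restrict S hScl
  have hDS : DS.SIrr Set.univ :=
    DC.sirr_restrict.mpr (by rw [Set.image_univ, Subtype.range_coe_subtype]; exact hSirr)
  obtain ⟨TS, US, τS, hsS⟩ := Split.exists_split DS hDS ((σ.comp C0.subtype).comp S.subtype)
    (GenRep.Gen.restrict DC hσC S hScl)
  -- torsion of the two tori agrees
  have htor1 : ∀ y : S, (∃ m : ℕ, (m : k) ≠ 0 ∧ y ^ m = 1) → (y : C0) ∈ T'' → y ∈ TS := by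
    rintro y ⟨m, hm, hym⟩ hy
    have hord : IsOfFinOrder y := isOfFinOrder_iff_pow_eq_one.mpr ⟨m, Nat.pos_of_ne_zero (fun h => hm (by
      rw [h, Nat.cast_zero])), hym⟩
    haveI : Finite (Subgroup.zpowers y) := Nat.finite_of_card_ne_zero (by
      rw [Nat.card_zpowers]; exact (orderOf_pos_iff.mpr hord).ne')
    haveI : Fintype (Subgroup.zpowers y) := Fintype.ofFinite _
    obtain ⟨u, -, hu⟩ := hsS.conj (Subgroup.zpowers y) (by
      rw [← Nat.card_eq_fintype_card, Nat.card_zpowers]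
      obtain ⟨c, hc⟩ := orderOf_dvd_of_pow_eq_one hym
      intro h0
      exact hm (by rw [hc, Nat.cast_mul, h0, zero_mul])) (Subgroup.zpowers y).subtype
    have h1 := hu ⟨y, Subgroup.mem_zpowers y⟩
    have h2 : u * y * u⁻¹ = y := by
      have : y * u = u * y := Subtype.ext (hT''c y hy u)
      rw [← this, mul_inv_cancel_right]
    rw [Subgroup.coe_subtype, h2] at h1
    exact h1 ▸ hsS.tau_mem y
  have hfin : ∀ m : ℕ, (m : k) ≠ 0 → {x : Γ | x ∈ T' ∧ x ^ m = 1}.Finite := by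
    intro m hm
    let R0 : Finset k := (Polynomial.X ^ m - Polynomial.C (1 : k)).roots.toFinset
    refine Set.Finite.of_finite_image (f := fun x i => ev i x) ?_ ?_
    · refine ((Set.Finite.pi fun _ => R0.finite_toSet).subset ?_)
      rintro _ ⟨x, ⟨hx, hxm⟩, rfl⟩ i -
      have hpow : ∀ l : ℕ, σ (x ^ l) (e i) = ev i x ^ l • e i := by
        intro l
        induction l with
        | zero => simp
        | succ l ih =>
          rw [pow_succ', map_mul, End.mul_apply, ih, map_smul, hact x hx, smul_smul, pow_succ]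
      have h1 := hpow m
      rw [hxm, map_one, End.one_apply] at h1
      have h2 : ev i x ^ m = 1 := smul_left_injective k (e.ne_zero i) (show ev i x ^ m • e i = (1 : k) • e i by
        rw [one_smul, ← h1])
      rw [SetLike.mem_coe, Multiset.mem_toFinset, Polynomial.mem_roots
        (Polynomial.X_pow_sub_C_ne_zero (Nat.pos_of_ne_zero fun h => hm (by rw [h, Nat.cast_zero])) 1)]
      simp [h2]
    · intro x hx x' hx' h
      exact hσ.faith (e.ext fun i => by rw [hact x hx.1, hact x' hx'.1, show ev i x = ev i x' from congrFun h i])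
  have hTS_eq : ∀ y ∈ TS, (y : C0) ∈ T'' := by
    have hsetS : (Subtype.val '' (TS : Set S) : Set C0) ⊆ T'' := by
      obtain ⟨a, ha⟩ := habs ((S.map C0.subtype))
        (Group.isSolvable_of_surjective (C0.subtype.subgroupMap_surjective S))
        (by rw [Subgroup.coe_map]; exact D.sirr_restrict.mp hSirr)
      have hmemB : ∀ y : S, a⁻¹ * ((y : C0) : Γ) * a ∈ B := fun y => ha _ ⟨y, y.2, rfl⟩
      let φ : S →* B := MonoidHom.mk' (fun y => ⟨_, hmemB y⟩) fun y y' => Subtype.ext (by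
        show a⁻¹ * (((y * y' : S) : C0) : Γ) * a = a⁻¹ * ((y : C0) : Γ) * a * (a⁻¹ * ((y' : C0) : Γ) * a)
        push_cast
        group)
      have hsame : ∀ y ∈ TS, (∃ m : ℕ, (m : k) ≠ 0 ∧ y ^ m = 1) → ((y : C0) : Γ) ∈ T' := by
        rintro y hy ⟨m, hm, hym⟩
        let A : Set Γ := {x | x ∈ T' ∧ x ^ m = 1}
        let A' : Set Γ := {x | ∃ z : S, z ∈ TS ∧ z ^ m = 1 ∧ ((z : C0) : Γ) = x}
        have hAA' : A ⊆ A' := by
          rintro x ⟨hx, hxm⟩
          let z : S := ⟨⟨x, hT'C0 hx⟩, hTS (show (⟨x, hT'C0 hx⟩ : C0) ∈ T'' from hx)⟩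
          have hzm : z ^ m = 1 := Subtype.ext (Subtype.ext (by
            rw [SubmonoidClass.coe_pow, SubmonoidClass.coe_pow]; exact hxm))
          exact ⟨z, htor1 z ⟨m, hm, hzm⟩ hx, hzm, rfl⟩
        have hc : ∀ x ∈ A', ∃ z : S, z ∈ TS ∧ z ^ m = 1 ∧ ((z : C0) : Γ) = x := fun x hx => hx
        choose! zf hz using hc
        let F : Γ → Γ := fun x => ((τ (φ (zf x)) : B) : Γ)
        have hmaps : Set.MapsTo F A' A := fun x hx => ⟨⟨_, hs.tau_mem _, rfl⟩, by
          show ((τ (φ (zf x)) : B) : Γ) ^ m = 1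
          rw [← SubmonoidClass.coe_pow, ← map_pow, ← map_pow, (hz x hx).2.1, map_one, map_one, OneMemClass.coe_one]⟩
        have hinj : Set.InjOn F A' := by
          intro x hx x' hx' h
          have h1 : τ (φ (zf x * (zf x')⁻¹)) = 1 := by
            rw [map_mul, map_mul, map_inv, map_inv, mul_inv_eq_one]
            exact Subtype.ext h
          have h2 : φ (zf x * (zf x')⁻¹) = 1 := by
            refine eq_one_of_nilp (σ := σ.comp B.subtype) (GenRep.Gen.restrict D hσ B hcl).faith hm ?_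
              ((hs.nilp _).mpr ((hs.tau_ker _).mp h1))
            have hc : Commute (zf x) (zf x') := hsS.comm _ (hz x hx).1 _ (hz x' hx').1
            rw [← map_pow, (hc.inv_right).mul_pow, inv_pow, (hz x hx).2.1, (hz x' hx').2.1, inv_one, mul_one, map_one]
          have h3 : zf x * (zf x')⁻¹ = 1 := by
            have h4 : a⁻¹ * (((zf x * (zf x')⁻¹ : S) : C0) : Γ) * a = 1 := congrArg Subtype.val h2
            refine Subtype.ext (Subtype.ext ?_)
            calc (((zf x * (zf x')⁻¹ : S) : C0) : Γ)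
                = a * (a⁻¹ * (((zf x * (zf x')⁻¹ : S) : C0) : Γ) * a) * a⁻¹ := by group
              _ = _ := by rw [h4]; simp
          rw [← (hz x hx).2.2, ← (hz x' hx').2.2, mul_inv_eq_one.mp h3]
        have hA : A.Finite := hfin m hm
        have hA' : A'.Finite := Set.Finite.of_finite_image (hA.subset hmaps.image_subset) hinj
        have heq : A = A' := Set.eq_of_subset_of_ncard_le hAA'
          (Set.ncard_le_ncard_of_injOn F hmaps hinj hA) hA'
        exact ((heq ▸ ⟨y, hy, hym, rfl⟩ : ((y : C0) : Γ) ∈ A)).1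
      rintro _ ⟨y, hy, rfl⟩
      show ((y : C0) : Γ) ∈ T'
      refine (hT'set ▸ D.isCl_image hs.clT : D.IsCl T') fun f hf => ?_
      exact hsS.dense _ ⟨_, ⟨f, f.2, rfl⟩, rfl⟩ (fun z hz htor => hf _ (hsame z hz htor)) y hy
    exact fun y hy => hsetS ⟨y, hy, rfl⟩
  haveI : Group.IsSolvable C0 := by
    refine Central.isSolvable DC hDC hσC hScl hSirr hScomp hTS hT''c fun s hsS' => ?_
    refine ⟨((τS ⟨s, hsS'⟩ : S) : C0), hTS_eq _ (hsS.tau_mem _), ?_⟩
    have h1 : τS ((τS ⟨s, hsS'⟩)⁻¹ * ⟨s, hsS'⟩) = 1 := by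
      rw [map_mul, map_inv, hsS.tau_fix _ (hsS.tau_mem _), inv_mul_cancel]
    exact (hsS.nilp _).mpr ((hsS.tau_ker _).mp h1)
  -- conjugating torsion of `B` into `T'`
  have hconjT : ∀ x ∈ B, x ^ m = 1 → ∃ u ∈ B, u * x * u⁻¹ ∈ T' := by
    intro x hx hxm
    let y : B := ⟨x, hx⟩
    have hym : y ^ m = 1 := Subtype.ext (by rw [SubmonoidClass.coe_pow]; exact hxm)
    haveI : Finite (Subgroup.zpowers y) := Nat.finite_of_card_ne_zero (by
      rw [Nat.card_zpowers]
      exact (orderOf_pos_iff.mpr (isOfFinOrder_iff_pow_eq_one.mpr ⟨m, Nat.pos_of_ne_zero fun h => hm (by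
        rw [h, Nat.cast_zero]), hym⟩)).ne')
    haveI : Fintype (Subgroup.zpowers y) := Fintype.ofFinite _
    obtain ⟨u, -, hu⟩ := hs.conj (Subgroup.zpowers y) (by
      rw [← Nat.card_eq_fintype_card, Nat.card_zpowers]
      obtain ⟨c, hc⟩ := orderOf_dvd_of_pow_eq_one hym
      intro h0
      exact hm (by rw [hc, Nat.cast_mul, h0, zero_mul])) (Subgroup.zpowers y).subtype
    exact ⟨u, u.2, _, hs.tau_mem _, congrArg Subtype.val (hu ⟨y, Subgroup.mem_zpowers y⟩)⟩
  -- a conjugate of `t₀` in `T'` has the same centraliser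
  have hnorm : ∀ b t', t' ∈ T' → b⁻¹ * t₀ * b = t' → ∀ g, g ∈ C ↔ b * g * b⁻¹ ∈ C := by
    intro b t' ht' hb
    have hsub : (fun g => b * g * b⁻¹) '' (C : Set Γ) ⊆ C := by
      rintro _ ⟨g, hg, rfl⟩
      rw [SetLike.mem_coe, hmemC]
      have h1 : t₀ = b * t' * b⁻¹ := by rw [← hb]; group
      have h2 := hcen g hg t' ht'
      calc b * g * b⁻¹ * t₀ = b * (g * t') * b⁻¹ := by rw [h1]; group
        _ = b * (t' * g) * b⁻¹ := by rw [h2]
        _ = t₀ * (b * g * b⁻¹) := by rw [h1]; group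
    intro g
    refine ⟨fun hg => hsub ⟨g, hg, rfl⟩, fun hg => ?_⟩
    have h3 : b * g * b⁻¹ ∈ (fun g => b * g * b⁻¹) '' (C : Set Γ) := by rw [D.conj_image_eq hCcl b hsub]; exact hg
    obtain ⟨g', hg', he'⟩ := h3
    have : g' = g := mul_left_cancel (mul_right_cancel he')
    exact this ▸ hg'
  obtain ⟨a, ha⟩ := habs C0 inferInstance hC0irr
  obtain ⟨u, huB, hu⟩ := hconjT _ (ha t₀ (hT'C0 ht₀)) (by
    have h := conj_pow (i := m) (a := a⁻¹) (b := t₀)
    rw [_root_.inv_inv] at h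
    rw [h, htm, mul_one, inv_mul_cancel])
  have hC0B : C0 ≤ B := by
    have hn := hnorm (a * u⁻¹) _ hu (by group)
    have hsub : (fun g => a * u⁻¹ * g * (a * u⁻¹)⁻¹) '' (C0 : Set Γ) ⊆ C0 := by
      have h := hC0max (C0.map (MulAut.conj (a * u⁻¹)).toMonoidHom) (Image.sirr_conj hC0irr _) fun x hx => by
        obtain ⟨c, hc, rfl⟩ := hx
        exact (hn c).mp (hC0C hc)
      rintro _ ⟨c, hc, rfl⟩
      exact h ⟨c, hc, rfl⟩
    intro g hg
    have h1 : (a * u⁻¹ * g * (a * u⁻¹)⁻¹) ∈ C0 := hsub ⟨g, hg, rfl⟩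
    have h2 := B.mul_mem (B.mul_mem huB (ha _ h1)) (B.inv_mem huB)
    rwa [show u * (a⁻¹ * (a * u⁻¹ * g * (a * u⁻¹)⁻¹) * a) * u⁻¹ = g by group] at h2
  let pick : Γ → Γ := fun t' => if h : ∃ q, q⁻¹ * t₀ * q = t' then h.choose else 1
  refine ⟨t₀, hT'B ht₀, ((hfin m hm).toFinset ×ˢ Qc).image (fun p => pick p.1 * p.2), fun x hx => ?_⟩
  obtain ⟨v, hvB, hv⟩ := hconjT _ hx (by
    have h := conj_pow (i := m) (a := x⁻¹) (b := t₀)
    rw [_root_.inv_inv] at h
    rw [h, htm, mul_one, inv_mul_cancel])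
  set t' := v * (x⁻¹ * t₀ * x) * v⁻¹ with ht'
  have hex : ∃ q, q⁻¹ * t₀ * q = t' := ⟨x * v⁻¹, by rw [ht']; group⟩
  have hq : (pick t')⁻¹ * t₀ * pick t' = t' := by simp only [pick, dif_pos hex]; exact hex.choose_spec
  have hz : (x * v⁻¹ * (pick t')⁻¹) ∈ C := by
    rw [hmemC]
    have h1 : t₀ = (x * v⁻¹) * t' * (x * v⁻¹)⁻¹ := by rw [ht']; group
    have h2 : pick t' * t' * (pick t')⁻¹ = t₀ :=
      calc pick t' * t' * (pick t')⁻¹ = pick t' * ((pick t')⁻¹ * t₀ * pick t') * (pick t')⁻¹ := by rw [hq]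
        _ = t₀ := by group
    calc x * v⁻¹ * (pick t')⁻¹ * t₀
        = x * v⁻¹ * (pick t')⁻¹ * (pick t' * t' * (pick t')⁻¹) := by rw [h2]
      _ = (x * v⁻¹) * t' * (x * v⁻¹)⁻¹ * (x * v⁻¹ * (pick t')⁻¹) := by group
      _ = t₀ * (x * v⁻¹ * (pick t')⁻¹) := by rw [← h1]
  have hc : (pick t')⁻¹ * (x * v⁻¹) ∈ C := (hnorm _ t' hv hq _).mpr (by
    rwa [show pick t' * ((pick t')⁻¹ * (x * v⁻¹)) * (pick t')⁻¹ = x * v⁻¹ * (pick t')⁻¹ by group])
  obtain ⟨q, hqQ, hqc⟩ := hQcov _ hc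
  refine ⟨pick t' * q, Finset.mem_image.mpr ⟨(t', q), Finset.mem_product.mpr ⟨?_, hqQ⟩, rfl⟩, ?_⟩
  · refine (hfin m hm).mem_toFinset.mpr ⟨hv, ?_⟩
    rw [← hq]
    have h := conj_pow (i := m) (a := (pick t')⁻¹) (b := t₀)
    rw [_root_.inv_inv] at h
    rw [h, htm, mul_one, inv_mul_cancel]
  · have h2 := B.mul_mem (hC0B hqc) hvB
    rwa [show q⁻¹ * ((pick t')⁻¹ * (x * v⁻¹)) * v = (pick t' * q)⁻¹ * x by group] at h2

end Groth.Agent.H1.Classical.Torus.Cartan
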