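import Groth.Agent.H1.Classical.Torus.Normalizer
import Groth.Agent.H1.Classical.Torus.Cartan

/-!
# A closed subgroup containing a Borel subgroup is connected and self-normalizing, on points
-/

universe u v w

namespace Groth.Agent.H1.Classical.Torus.ParabolicNorm

set_option linter.style.haveILetI false
set_option linter.unusedSectionVars false

open Module Kolchin Open Complete Centraliser Groth.Agent.Lib.Dim.Basic

variable {k : Type u} [Field k] [IsAlgClosed k] {Γ : Type v} [Group Γ] {D : Alg k Γ}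
  {W : Type w} [AddCommGroup W] [Module k W] [FiniteDimensional k W] {σ : Representation k Γ W}

/-- A closed subgroup containing a Borel subgroup is irreducible and equal to its normaliser. -/
theorem props (hirr : D.SIrr Set.univ) (hmul : HasMul D) (hσ : GenRep.Gen D σ) {B : Subgroup Γ} (hB : IsBor D B)
    {P : Subgroup Γ} (hP : D.IsCl P) (hBP : B ≤ P) :
    D.SIrr P ∧ ∀ n, (∀ p ∈ P, n * p * n⁻¹ ∈ P) → n ∈ P := by
  classical
  obtain ⟨C, hCP, hCcl, hCirr, hCmax, -⟩ := Cartan.exists_component_in P hP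
  have hBC : B ≤ C := hCmax B hB.irr hBP
  have hmaxB := Image.isMax_of_absorbing hB.cl hB.irr hB.solv hB.abs
  have hC' : (D.restrict C hCcl).SIrr Set.univ :=
    D.sirr_restrict.mpr (by rw [Set.image_univ, Subtype.range_coe_subtype]; exact hCirr)
  have hσC := GenRep.Gen.restrict D hσ C hCcl
  obtain ⟨B₁, h1cl, h1irr, ⟨m, hm⟩, h1abs, -⟩ :=
    Borel.exists_borel_complete _ (D.restrict C hCcl) hC' (σ.comp C.subtype) hσC.reg rfl
  have h1sol : Group.IsSolvable B₁ :=
    (Group.isSolvable_def _).mpr ⟨m, (Subgroup.eq_bot_iff_forall _).mpr fun a ha =>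
      Subtype.ext (hσC.faith ((hm a ha).trans (map_one _).symm))⟩
  have hset : ∀ X : Subgroup C, ((X.map C.subtype : Subgroup Γ) : Set Γ) = Subtype.val '' (X : Set C) :=
    fun X => Subgroup.coe_map _ _
  have hres : ∀ X : Subgroup Γ, X ≤ C → Image.IsMax D X → Image.IsMax (D.restrict C hCcl) (X.subgroupOf C) := by
    intro X hXC hX
    haveI := hX.solv
    refine ⟨fun g hg => hX.cl fun f hf => hg ⟨_, f, f.2, rfl⟩ fun c hc => hf _ hc, D.sirr_restrict.mpr ?_, ?_,
      fun S hS hSirr hle x hx => ?_⟩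
    · have : Subtype.val '' ((X.subgroupOf C : Subgroup C) : Set C) = (X : Set Γ) := by
        ext g
        exact ⟨fun ⟨p, hp, hpg⟩ => hpg ▸ hp, fun h => ⟨⟨g, hXC h⟩, h, rfl⟩⟩
      rw [this]
      exact hX.irr
    · exact Group.isSolvable_of_isSolvable_injective (f := (Subgroup.subgroupOfEquivOfLe hXC).toMonoidHom)
        (Subgroup.subgroupOfEquivOfLe hXC).injective
    · haveI := hS
      exact hX.max (S.map C.subtype) (Group.isSolvable_of_surjective (f := C.subtype.subgroupMap S)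
        (C.subtype.subgroupMap_surjective S)) (hset S ▸ D.sirr_restrict.mp hSirr)
        (fun y hy => ⟨⟨y, hXC hy⟩, hle hy, rfl⟩) ⟨x, hx, rfl⟩
  have key : ∀ n, (∀ b ∈ B, n * b * n⁻¹ ∈ P) → n ∈ C := by
    intro n hn
    have hle : B.map (MulAut.conj n).toMonoidHom ≤ C := hCmax _ (Image.sirr_conj hB.irr n) (by
      rintro _ ⟨b, hb, rfl⟩
      exact hn b hb)
    obtain ⟨a, ha⟩ := Image.exists_eq_conj h1irr h1sol h1abs (hres B hBC hmaxB)
    obtain ⟨a', ha'⟩ := Image.exists_eq_conj h1irr h1sol h1abs (hres _ hle (hmaxB.conj n))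
    have hmem : ∀ x ∈ B, ((a * a'⁻¹ : C) : Γ) * (n * x * n⁻¹) * ((a * a'⁻¹ : C) : Γ)⁻¹ ∈ B := by
      intro x hx
      have h1 : (⟨n * x * n⁻¹, hle ⟨x, hx, rfl⟩⟩ : C) ∈ (B.map (MulAut.conj n).toMonoidHom).subgroupOf C :=
        ⟨x, hx, rfl⟩
      rw [ha', Image.mem_map_conj] at h1
      have h2 : (a * a'⁻¹) * (⟨n * x * n⁻¹, hle ⟨x, hx, rfl⟩⟩ : C) * (a * a'⁻¹)⁻¹ ∈ B.subgroupOf C := by
        rw [ha, Image.mem_map_conj]
        generalize (⟨n * x * n⁻¹, _⟩ : C) = y at h1 ⊢
        rwa [show a⁻¹ * (a * a'⁻¹ * y * (a * a'⁻¹)⁻¹) * a = a'⁻¹ * y * a' by group]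
      exact h2
    have h3 : ((a * a'⁻¹ : C) : Γ) * n ∈ B :=
      Normalizer.mem_of_normalizes _ hσ hirr hmul rfl hB _ fun x hx => by
        have := hmem x hx
        rwa [show ∀ c : Γ, c * (n * x * n⁻¹) * c⁻¹ = c * n * x * (c * n)⁻¹ from fun c => by group] at this
    have h4 := C.mul_mem (C.inv_mem (a * a'⁻¹ : C).2) (hBC h3)
    rwa [inv_mul_cancel_left] at h4
  have hPC : P ≤ C := fun p hp => key p fun b hb => P.mul_mem (P.mul_mem hp (hBP hb)) (P.inv_mem hp)
  rw [le_antisymm hPC hCP]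
  exact ⟨hCirr, fun n hn => key n fun b hb => hCP (hn b (hBC hb))⟩

end Groth.Agent.H1.Classical.Torus.ParabolicNorm
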