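import Groth.Agent.H1.Classical.Torus.Product
import Mathlib.RingTheory.Ideal.KrullsHeightTheorem
import Mathlib.RingTheory.Ideal.Over

/-!
# Conjugates of a subgroup with an element having finitely many fixed cosets are dense
-/

universe u v

namespace Groth.Agent.H1.Classical.Torus.Dominant

set_option linter.style.haveILetI false
set_option linter.unusedSectionVars false

open Open Complete Groth.Agent.Lib.Dim.Basic

variable {k : Type u} [Field k] [IsAlgClosed k] {Γ : Type v} [Group Γ] (D : Alg k Γ)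

/-- A conjugation invariant family of functions. -/
theorem mem_conj (hmul : HasMul D) (B : Subgroup Γ) (hcl : D.IsCl B) {f : Γ → k} (hf : f ∈ D.R) :
    (fun x : Γ × B => f (x.1 * x.2 * x.1⁻¹)) ∈ Product.R D (D.restrict B hcl) := by
  obtain ⟨n, a, b, hab⟩ := hmul ⟨f, hf⟩
  choose m c d hcd using fun i => hmul (b i)
  have : (fun x : Γ × B => f (x.1 * x.2 * x.1⁻¹)) = ∑ i, (fun x : Γ × B => (a i : Γ → k) x.1) *
      ∑ j, (fun x : Γ × B => (c i j : Γ → k) x.2) * fun x : Γ × B => (d i j : Γ → k) x.1⁻¹ := by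
    funext x
    rw [mul_assoc, show f (x.1 * (x.2 * x.1⁻¹)) = _ from hab x.1 _, Finset.sum_apply]
    refine Finset.sum_congr rfl fun i _ => ?_
    rw [Pi.mul_apply, hcd i, Finset.sum_apply]
    rfl
  rw [this]
  refine sum_mem fun i _ => mul_mem (Product.mem_fst D _ (a i).2) (sum_mem fun j _ => mul_mem ?_ ?_)
  · exact Product.mem_snd D (D.restrict B hcl) (f := fun y : B => (c i j : Γ → k) y) ⟨_, (c i j).2, rfl⟩
  · exact Product.mem_fst D _ (D.inv _ (d i j).2)

/-- If some element of `B` fixes finitely many cosets, the conjugates of `B` are dense. -/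
theorem dense_conj (hirr : D.SIrr Set.univ) (hmul : HasMul D)
    (hsep : ∀ x y : Γ, (∀ f ∈ D.R, f x = f y) → x = y) {B : Subgroup Γ} (hcl : D.IsCl B) (hBirr : D.SIrr B)
    {t : Γ} (ht : t ∈ B) (Q : Finset Γ) (hQ : ∀ x, x⁻¹ * t * x ∈ B → ∃ q ∈ Q, q⁻¹ * x ∈ B)
    {f : Γ → k} (hf : f ∈ D.R) (hvan : ∀ g : Γ, ∀ b ∈ B, f (g * b * g⁻¹) = 0) : f = 0 := by
  classical
  let E := D.restrict B hcl
  have hE : E.SIrr Set.univ :=
    D.sirr_restrict.mpr (by rw [Set.image_univ, Subtype.range_coe_subtype]; exact hBirr)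
  let A := Product.prod D E
  have hA : A.SIrr Set.univ := Product.sirr D E hirr hE
  haveI := isDomain hirr
  haveI := isDomain hA
  haveI := isDomain hE
  haveI := D.finiteType
  haveI := A.finiteType
  haveI := E.finiteType
  haveI := A.isNoetherianRing
  haveI := D.isNoetherianRing
  let c : D.R →ₐ[k] A.R := ((Product.pre fun x : Γ × B => x.1 * (x.2 : Γ) * x.1⁻¹).comp D.R.val).codRestrict _
    fun F => mem_conj D hmul B hcl F.2
  let P := RingHom.ker c
  haveI : P.IsPrime := RingHom.ker_isPrime c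
  have hfP : (⟨f, hf⟩ : D.R) ∈ P := Subtype.ext (funext fun x => hvan x.1 x.2 x.2.2)
  by_contra hne
  have hbot : (⊥ : Ideal D.R) < P := bot_lt_iff_ne_bot.mpr fun h => hne (by
    rw [h, Submodule.mem_bot] at hfP
    exact congrArg Subtype.val hfP)
  have hlt := dimQ_lt_of_lt k hbot
  rw [dimQ_bot] at hlt
  have hadd := Product.add_le_trdegNat D E hirr hE
  let φ : (D.R ⧸ P) →ₐ[k] A.R := Ideal.kerLiftAlg c
  letI : Algebra (D.R ⧸ P) A.R := φ.toRingHom.toAlgebra
  haveI : IsNoetherianRing (D.R ⧸ P) := inferInstance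
  let χ : A.R →ₐ[k] k := evalR A ((1 : Γ), (⟨t, ht⟩ : B))
  let m : Ideal A.R := RingHom.ker χ.toRingHom
  haveI : m.IsMaximal := RingHom.ker_isMaximal_of_surjective χ.toRingHom fun a => ⟨algebraMap k A.R a, χ.commutes a⟩
  let p : Ideal (D.R ⧸ P) := m.comap (algebraMap (D.R ⧸ P) A.R)
  have hpker : p = RingHom.ker ((χ.comp φ).toRingHom) := rfl
  haveI : p.IsMaximal := by
    rw [hpker]
    exact RingHom.ker_isMaximal_of_surjective _ fun a => ⟨algebraMap k _ a, (χ.comp φ).commutes a⟩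
  haveI : m.LiesOver p := ⟨rfl⟩
  have hh := Ideal.height_le_height_add_of_liesOver p m
  rw [Groth.Agent.Lib.Dim.Local.height_maximal k m, Groth.Agent.Lib.Dim.Local.height_maximal k p] at hh
  let I := p.map (algebraMap (D.R ⧸ P) A.R)
  have hfib : ∀ Q₀ : Ideal A.R, Q₀.IsPrime → I ≤ Q₀ → dimQ k Q₀ ≤ trdegNat k E.R := by
    intro Q₀ hQ₀ hIQ
    haveI := hQ₀
    have hpt : ∀ x ∈ A.zero Q₀, x.1 * (x.2 : Γ) * x.1⁻¹ = t := by
      intro x hx
      refine hsep _ _ fun g hg => ?_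
      have h1 : Ideal.Quotient.mk P (⟨g, hg⟩ - algebraMap k D.R (g t)) ∈ p := by
        show χ (c (⟨g, hg⟩ - algebraMap k D.R (g t))) = 0
        show g (1 * t * 1⁻¹) - g t = 0
        rw [one_mul, inv_one, mul_one, sub_self]
      have h2 := hx _ (hIQ (Ideal.mem_map_of_mem (algebraMap (D.R ⧸ P) A.R) h1))
      have h3 : g (x.1 * (x.2 : Γ) * x.1⁻¹) - g t = 0 := h2
      exact sub_eq_zero.mp h3
    have hzero : (A.zero Q₀).Nonempty := by
      by_contra h
      rw [Set.not_nonempty_iff_eq_empty] at h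
      refine hQ₀.ne_top ((Ideal.eq_top_iff_one _).mpr ?_)
      rw [← A.vI_zero Q₀, h]
      exact fun _ hx => hx.elim
    have hirrQ : A.SIrr (A.zero Q₀) := fun F F' h => by
      rw [A.vI_zero Q₀] at h ⊢
      exact hQ₀.mem_or_mem h
    have hin : ∀ x ∈ A.zero Q₀, x.1⁻¹ * t * x.1 ∈ B := fun x hx => by
      rw [show x.1⁻¹ * t * x.1 = (x.2 : Γ) by rw [← hpt x hx]; group]
      exact x.2.2
    obtain ⟨q, -, hq⟩ := Alg.SIrr.exists_forall A hirrQ hzero Q
      (fun q => (fun h : D.R => fun x : Γ × B => (h : Γ → k) (q⁻¹ * x.1)) '' (D.vI (B : Set Γ) : Set D.R))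
      (fun q _ => by rintro _ ⟨h, -, rfl⟩; exact Product.mem_fst D E (D.lmul q⁻¹ _ h.2))
      (fun x hx => by
        obtain ⟨q, hq, hqx⟩ := hQ _ (hin x hx)
        exact ⟨q, hq, by rintro _ ⟨h, hh, rfl⟩; exact hh _ hqx⟩)
    have hmem : ∀ x ∈ A.zero Q₀, q⁻¹ * x.1 ∈ B := fun x hx => hcl fun h hh => hq x hx _ ⟨h, hh, rfl⟩
    obtain ⟨x₀, hx₀⟩ := hzero
    let t₁ : B := ⟨q⁻¹ * t * q, by
      have h := B.mul_mem (B.mul_mem (hmem x₀ hx₀) (hin x₀ hx₀)) (B.inv_mem (hmem x₀ hx₀))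
      rwa [show q⁻¹ * x₀.1 * (x₀.1⁻¹ * t * x₀.1) * (q⁻¹ * x₀.1)⁻¹ = q⁻¹ * t * q by group] at h⟩
    have hψmem : ∀ F ∈ A.R, (fun β : B => F (q * β, β⁻¹ * t₁ * β)) ∈ E.R := fun F hF =>
      Product.le_of_gens D E (S := E.R.comap (Product.pre fun β : B => (q * (β : Γ), β⁻¹ * t₁ * β)))
        (fun g hg => ⟨_, D.lmul q g hg, rfl⟩)
        (fun h hh => by
          obtain ⟨n, a, b, hab⟩ := hasMul_restrict D hmul B hcl ⟨h, hh⟩
          show (fun β : B => h (β⁻¹ * t₁ * β)) ∈ E.R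
          rw [show (fun β : B => h (β⁻¹ * t₁ * β)) =
              ∑ i, (fun β : B => (a i : B → k) (β⁻¹ * t₁)) * (b i : B → k) from funext fun β => by
            rw [show h (β⁻¹ * t₁ * β) = _ from hab _ _, Finset.sum_apply]
            rfl]
          exact sum_mem fun i _ => mul_mem (E.inv _ (E.rmul t₁ _ (a i).2)) (b i).2) hF
    let ψ : A.R →ₐ[k] E.R := ((Product.pre fun β : B => (q * (β : Γ), β⁻¹ * t₁ * β)).comp A.R.val).codRestrict _
      fun F => hψmem F F.2
    have hker : RingHom.ker ψ ≤ Q₀ := fun F hF => by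
      rw [← A.vI_zero Q₀]
      intro x hx
      let β : B := ⟨q⁻¹ * x.1, hmem x hx⟩
      have hxβ : x = (q * (β : Γ), β⁻¹ * t₁ * β) := Prod.ext (by simp [β]) (Subtype.ext (by
        show (x.2 : Γ) = (q⁻¹ * x.1)⁻¹ * (q⁻¹ * t * q) * (q⁻¹ * x.1)
        rw [← hpt x hx]
        group))
      rw [hxβ]
      exact congrArg (fun G : E.R => (G : B → k) β) (RingHom.mem_ker.mp hF)
    haveI : (RingHom.ker ψ).IsPrime := RingHom.ker_isPrime ψ
    refine (dimQ_anti k hker).trans ?_
    haveI : IsDomain (A.R ⧸ RingHom.ker ψ) := Ideal.Quotient.isDomain _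
    have hle := trdeg_le_of_injective (Ideal.kerLiftAlg ψ) (Ideal.kerLiftAlg_injective ψ)
    rw [trdeg_eq_trdegNat k, trdeg_eq_trdegNat k] at hle
    exact Nat.cast_le.mp hle
  have hfibh : (m.map (Ideal.Quotient.mk I)).height ≤ (trdegNat k E.R : ℕ∞) := by
    haveI : (m.map (Ideal.Quotient.mk I)).IsPrime := Ideal.map_isPrime_of_surjective Ideal.Quotient.mk_surjective (by
      rw [Ideal.mk_ker]
      exact Ideal.map_comap_le)
    rw [PrimeSpectrum.height_eq_orderHeight ⟨_, inferInstance⟩]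
    refine Order.height_le fun l _ => ?_
    let l' : LTSeries (PrimeSpectrum A.R) := l.map (fun J => PrimeSpectrum.comap (Ideal.Quotient.mk I) J) fun J J' hJ => by
      refine lt_of_le_of_ne (Ideal.comap_mono (le_of_lt hJ)) fun h => hJ.ne (PrimeSpectrum.ext ?_)
      exact Ideal.comap_injective_of_surjective _ Ideal.Quotient.mk_surjective (congrArg PrimeSpectrum.asIdeal h)
    have hhead : I ≤ l'.head.asIdeal := by
      intro F hF
      show Ideal.Quotient.mk I F ∈ l.head.asIdeal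
      rw [Ideal.Quotient.eq_zero_iff_mem.mpr hF]
      exact zero_mem _
    have h := (length_add_dimQ_le k l').trans (hfib _ l'.head.isPrime hhead)
    exact_mod_cast (Nat.le_add_right l'.length _).trans h
  have h1 : trdegNat k A.R ≤ dimQ k P + trdegNat k E.R := by
    have := hh.trans (add_le_add le_rfl hfibh)
    exact_mod_cast this
  change trdegNat k D.R + trdegNat k E.R ≤ trdegNat k A.R at hadd
  omega

end Groth.Agent.H1.Classical.Torus.Dominant
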