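import Groth.Agent.H1.Classical.Torus.Centraliser
import Groth.Agent.H1.Classical.Torus.Dominant

/-!
# Sub-tori, dimension drop, completeness of conjugates
-/

universe u v w

namespace Groth.Agent.H1.Classical.Torus.SubTorus

set_option linter.style.haveILetI false
set_option linter.unusedSectionVars false

open Module Kolchin Open Complete Centraliser Groth.Agent.Lib.Dim.Basic

variable {k : Type u} [Field k] [IsAlgClosed k] {Γ : Type v} [Group Γ] {D : Alg k Γ}
  {W : Type w} [AddCommGroup W] [Module k W] [FiniteDimensional k W] {σ : Representation k Γ W}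

/-- A closed connected subgroup of a diagonal commutative group is a torus. -/
theorem isTor_of_le (hσ : GenRep.Gen D σ) {T S : Subgroup Γ} (hT : IsTor D T) (hcl : D.IsCl S) (hirr : D.SIrr S)
    (hle : S ≤ T) : IsTor D S := by
  have hcomm : ∀ a ∈ S, ∀ b ∈ S, a * b = b * a := fun a ha b hb => hT.comm a (hle ha) b (hle hb)
  haveI := isSolvable_of_comm hcomm
  obtain ⟨T₁, U₁, τ, hs⟩ := Split.exists_split (D.restrict S hcl)
    (D.sirr_restrict.mpr (by rw [Set.image_univ, Subtype.range_coe_subtype]; exact hirr))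
    (σ.comp S.subtype) (GenRep.Gen.restrict D hσ S hcl)
  obtain ⟨e, he⟩ := exists_diag hT hσ.reg
  have hU : ∀ u ∈ U₁, u = 1 := by
    intro u hu
    obtain ⟨N, hN⟩ := (hs.nilp u).mpr hu
    refine Subtype.ext (hσ.faith (e.ext fun i => ?_))
    obtain ⟨c, hc⟩ := he u (hle u.2) i
    have h1 : ∀ m : ℕ, ((σ (u : Γ) - 1) ^ m) (e i) = (c - 1) ^ m • e i := by
      intro m
      induction m with
      | zero => simp
      | succ m ih =>
        rw [pow_succ', pow_succ', End.mul_apply, ih, map_smul, LinearMap.sub_apply, hc, End.one_apply, smul_sub,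
          smul_smul, mul_comm ((c - 1) ^ m) c, ← sub_smul]
        congr 1
        ring
    have h2 := h1 N
    rw [show (σ (u : Γ) - 1) ^ N = 0 from hN, LinearMap.zero_apply, eq_comm, smul_eq_zero] at h2
    have h3 : c = 1 := sub_eq_zero.mp (eq_zero_of_pow_eq_zero (h2.resolve_right (e.ne_zero i)))
    rw [hc, h3, one_smul]
    show e i = σ 1 (e i)
    rw [map_one, End.one_apply]
  have htop : ∀ s : S, s ∈ T₁ := fun s => by
    have h1 : (τ s)⁻¹ * s ∈ U₁ := (hs.tau_ker _).mp (by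
      rw [map_mul, map_inv, hs.tau_fix _ (hs.tau_mem s), inv_mul_cancel])
    rw [← inv_mul_eq_one.mp (hU _ h1)]
    exact hs.tau_mem s
  refine ⟨hcl, hirr, hcomm, fun f hf h t ht => hs.dense _ ⟨f, hf, rfl⟩ (fun s _ ⟨m, hm, hsm⟩ => h _ s.2 ⟨m, hm, ?_⟩)
    ⟨t, ht⟩ (htop _)⟩
  rw [← SubmonoidClass.coe_pow, hsm, OneMemClass.coe_one]

/-- A proper closed subgroup of a connected group has smaller dimension. -/
theorem trdegNat_lt (hirr : D.SIrr Set.univ) {C : Subgroup Γ} (hcl : D.IsCl C) (hC : D.SIrr C) (hne : C ≠ ⊤) :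
    trdegNat k (D.restrict C hcl).R < trdegNat k D.R := by
  haveI := isDomain hirr
  haveI := D.finiteType
  have hC' : (D.restrict C hcl).SIrr Set.univ :=
    D.sirr_restrict.mpr (by rw [Set.image_univ, Subtype.range_coe_subtype]; exact hC)
  haveI := isDomain hC'
  let π : D.R →ₐ[k] (D.restrict C hcl).R :=
    ((Alg.res C).comp D.R.val).codRestrict _ fun f => ⟨f, f.2, rfl⟩
  have hπ : Function.Surjective π := by
    rintro ⟨_, f, hf, rfl⟩
    exact ⟨⟨f, hf⟩, rfl⟩
  haveI : (RingHom.ker π).IsPrime := RingHom.ker_isPrime π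
  have hbot : (⊥ : Ideal D.R) < RingHom.ker π := bot_lt_iff_ne_bot.mpr fun h => hne (by
    refine eq_top_iff.mpr fun g _ => hcl fun f hf => ?_
    have : f ∈ RingHom.ker π := Subtype.ext (funext fun p => hf p p.2)
    rw [h, Submodule.mem_bot] at this
    rw [this]
    rfl)
  have hlt := dimQ_lt_of_lt k hbot
  rw [dimQ_bot] at hlt
  refine lt_of_le_of_lt ?_ hlt
  let eqv := Ideal.quotientKerAlgEquivOfSurjective hπ
  haveI : IsDomain (D.R ⧸ RingHom.ker π) := Ideal.Quotient.isDomain _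
  haveI := (D.restrict C hcl).finiteType
  have hle := trdeg_le_of_injective eqv.symm.toAlgHom eqv.symm.injective
  rw [trdeg_eq_trdegNat k, trdeg_eq_trdegNat k] at hle
  exact Nat.cast_le.mp hle

/-- Conjugates of subgroups with complete quotient. -/
theorem complete_conj {B B' : Subgroup Γ} (hB : Complete D B) {a : Γ} (h : ∀ b ∈ B, a⁻¹ * b * a ∈ B') :
    Complete D B' := by
  intro ι _ Cs hC hinv
  have hset : {y | ∃ g, (g, y) ∈ Cs} = {y | ∃ g, (g * a, y) ∈ Cs} := by
    ext y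
    exact ⟨fun ⟨g, hg⟩ => ⟨g * a⁻¹, by rwa [inv_mul_cancel_right]⟩, fun ⟨g, hg⟩ => ⟨_, hg⟩⟩
  rw [hset]
  refine hB ι {q | (q.1 * a, q.2) ∈ Cs} (pairCl_translate D hC a) fun g y hg b hb => ?_
  show (g * b * a, y) ∈ Cs
  have h1 := hinv _ y hg _ (h b hb)
  rwa [show g * a * (a⁻¹ * b * a) = g * b * a by group] at h1

/-- The Borel subgroup of a centraliser of a torus. -/
theorem isBor_centralizer (hirr : D.SIrr Set.univ) (hmul : HasMul D) (hσ : GenRep.Gen D σ) {B : Subgroup Γ}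
    (hB : IsBor D B) {S : Subgroup Γ} (hS : IsTor D S) (hSB : S ≤ B) :
    ∃ (hcl : D.IsCl (Subgroup.centralizer (S : Set Γ))), D.SIrr (Subgroup.centralizer (S : Set Γ)) ∧
      IsBor (D.restrict (Subgroup.centralizer (S : Set Γ)) hcl) (B.subgroupOf (Subgroup.centralizer (S : Set Γ))) := by
  obtain ⟨hcl, hCirr⟩ := sirr_centralizer hirr hmul hσ hB hS
  set C := Subgroup.centralizer (S : Set Γ)
  obtain ⟨hZirr, habs⟩ := centralizer_abs hmul hσ hB hS hSB
  let DC := D.restrict C hcl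
  have hC' : DC.SIrr Set.univ :=
    D.sirr_restrict.mpr (by rw [Set.image_univ, Subtype.range_coe_subtype]; exact hCirr)
  have hσC := GenRep.Gen.restrict D hσ C hcl
  obtain ⟨B₁, h1cl, h1irr, ⟨m, hm⟩, h1abs, h1comp⟩ := Borel.exists_borel_complete _ DC hC' (σ.comp C.subtype) hσC.reg rfl
  have h1sol : Group.IsSolvable B₁ :=
    (Group.isSolvable_def _).mpr ⟨m, (Subgroup.eq_bot_iff_forall _).mpr fun a ha =>
      Subtype.ext (hσC.faith ((hm a ha).trans (map_one _).symm))⟩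
  have hset : ∀ X : Subgroup C, ((X.map C.subtype : Subgroup Γ) : Set Γ) = Subtype.val '' (X : Set C) :=
    fun X => Subgroup.coe_map _ _
  haveI := h1sol
  obtain ⟨a, ha, hab⟩ := habs (B₁.map C.subtype) (Group.isSolvable_of_surjective (f := C.subtype.subgroupMap B₁)
      (C.subtype.subgroupMap_surjective B₁))
    (hset B₁ ▸ D.isCl_image h1cl) (hset B₁ ▸ D.sirr_restrict.mp h1irr)
    (fun x hx => by obtain ⟨p, -, rfl⟩ := hx; exact p.2)
  have hab' : ∀ b ∈ B₁, (⟨a, ha⟩ : C)⁻¹ * b * ⟨a, ha⟩ ∈ B.subgroupOf C := fun b hb => hab _ ⟨b, hb, rfl⟩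
  refine ⟨hcl, hCirr, ⟨?_, ?_, ?_, ?_, ?_⟩⟩
  · intro g hg
    exact hB.cl fun f hf => hg ⟨_, f, f.2, rfl⟩ fun c hc => hf _ hc
  · refine D.sirr_restrict.mpr ?_
    have : Subtype.val '' ((B.subgroupOf C : Subgroup C) : Set C) = ((B ⊓ C : Subgroup Γ) : Set Γ) := by
      ext g
      exact ⟨fun ⟨p, hp, hpg⟩ => hpg ▸ ⟨hp, p.2⟩, fun ⟨h1, h2⟩ => ⟨⟨g, h2⟩, h1, rfl⟩⟩
    rw [this]
    exact hZirr
  · haveI := hB.solv
    let f : (B.subgroupOf C : Subgroup C) →* B :=
      (C.subtype.comp (B.subgroupOf C).subtype).codRestrict B fun p => p.2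
    exact Group.isSolvable_of_isSolvable_injective (f := f) fun p q h =>
      Subtype.ext (Subtype.ext (congrArg (fun x : B => (x : Γ)) h))
  · intro S' hS' hS'irr
    obtain ⟨a', ha'⟩ := h1abs S' hS' hS'irr
    refine ⟨a' * ⟨a, ha⟩, fun s hs => ?_⟩
    have := hab' _ (ha' s hs)
    rwa [show (a' * ⟨a, ha⟩)⁻¹ * s * (a' * ⟨a, ha⟩) = (⟨a, ha⟩ : C)⁻¹ * (a'⁻¹ * s * a') * ⟨a, ha⟩ by group]
  · exact complete_conj (h1comp (hasMul_restrict D hmul C hcl)) hab'

end Groth.Agent.H1.Classical.Torus.SubTorus
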