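import Groth.Agent.H1.Classical.Torus.CartanDense
import Mathlib.GroupTheory.Nilpotent

/-!
# Nilpotency of Cartan subgroups, and tori of nilpotent groups, on points
-/

universe u v w

namespace Groth.Agent.H1.Classical.Torus.NilpotentPts

set_option linter.style.haveILetI false
set_option linter.unusedSectionVars false

open commutatorElement Module Kolchin Open Complete Centraliser MaxTorus WeylFinite CartanDense

section Group

variable {G : Type*} [Group G]

/-- Left normed iterated commutators. -/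
def IW : ℕ → Set G
  | 0 => Set.univ
  | n + 1 => {x | ∃ a ∈ IW n, ∃ b, x = ⁅a, b⁆}

theorem map_IW {H : Type*} [Group H] (f : G →* H) : ∀ (n : ℕ) {x : G}, x ∈ (IW n : Set G) → f x ∈ (IW n : Set H)
  | 0, _, _ => trivial
  | n + 1, _, ⟨a, ha, b, rfl⟩ => ⟨f a, map_IW f n ha, f b, map_commutatorElement f a b⟩

theorem upper_eq_top {n : ℕ} (h : ∀ x ∈ (IW n : Set G), x = 1) : Subgroup.upperCentralSeries G n = ⊤ := by
  have key : ∀ j i, i + j = n → ∀ x ∈ (IW i : Set G), x ∈ Subgroup.upperCentralSeries G j := by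
    intro j
    induction j with
    | zero =>
      intro i hi x hx
      rw [Nat.add_zero] at hi
      subst hi
      rw [Subgroup.upperCentralSeries_zero, Subgroup.mem_bot]
      exact h x hx
    | succ j ih =>
      intro i hi x hx
      rw [Subgroup.mem_upperCentralSeries_succ_iff]
      exact fun y => ih (i + 1) (by omega) _ ⟨x, hx, y, rfl⟩
  exact eq_top_iff.mpr fun x _ => key n 0 (Nat.zero_add n) x trivial

theorem eq_one_of_upper {n : ℕ} (h : Subgroup.upperCentralSeries G n = ⊤) : ∀ x ∈ (IW n : Set G), x = 1 := by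
  have key : ∀ i j, i + j = n → ∀ x ∈ (IW i : Set G), x ∈ Subgroup.upperCentralSeries G j := by
    intro i
    induction i with
    | zero =>
      intro j hj x _
      rw [show j = n by omega, h]
      trivial
    | succ i ih =>
      rintro j hj _ ⟨a, ha, b, rfl⟩
      exact (Subgroup.mem_upperCentralSeries_succ_iff.mp (ih (j + 1) (by omega) a ha)) b
  intro x hx
  have := key n 0 (Nat.add_zero n) x hx
  rwa [Subgroup.upperCentralSeries_zero, Subgroup.mem_bot] at this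

end Group

variable {k : Type u} [Field k] [IsAlgClosed k] {Γ : Type v} [Group Γ] {D : Alg k Γ}
  {W : Type w} [AddCommGroup W] [Module k W] [FiniteDimensional k W] {σ : Representation k Γ W}

/-- A Cartan subgroup is nilpotent. -/
theorem iw_centralizer (hirr : D.SIrr Set.univ) (hmul : HasMul D) (hσ : GenRep.Gen D σ) {B : Subgroup Γ}
    (hB : IsBor D B) {T : Subgroup Γ} (hT : IsMax D T) (hTB : T ≤ B) :
    ∃ N, ∀ x ∈ (IW N : Set (Subgroup.centralizer (T : Set Γ))), x = 1 := by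
  obtain ⟨hcl, hCirr⟩ := sirr_centralizer hirr hmul hσ hB hT.tor
  obtain ⟨htor, -⟩ := subset_torus hirr hmul hσ hB hT hTB
  have hle := centralizer_le hirr hmul hσ hB hT hTB
  set C := Subgroup.centralizer (T : Set Γ)
  haveI := hB.solv
  haveI : Group.IsSolvable C := Group.isSolvable_of_isSolvable_injective (f := Subgroup.inclusion hle)
    (Subgroup.inclusion_injective hle)
  have hC' : (D.restrict C hcl).SIrr Set.univ :=
    D.sirr_restrict.mpr (by rw [Set.image_univ, Subtype.range_coe_subtype]; exact hCirr)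
  have hσC := GenRep.Gen.restrict D hσ C hcl
  obtain ⟨T₁, U, τ, hs⟩ := Split.exists_split (D.restrict C hcl) hC' (σ.comp C.subtype) hσC
  have hcentral : ∀ x y : C, τ x * y = y * τ x := fun x y => Subtype.ext
    (Subgroup.mem_centralizer_iff.mp y.2 _ (htor _ (isTor_split hs) (fun a ha => by
      obtain ⟨p, -, rfl⟩ := ha
      exact p.2) ⟨τ x, hs.tau_mem x, rfl⟩))
  haveI := isDomain hC'
  obtain ⟨b, hb⟩ := Tri.exists_tri (D.restrict C hcl).R (finrank k W) (σ.comp C.subtype) hσC.reg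
    (GenRep.inv_regular _ hσC) rfl
  have hU : ∀ g ∈ U, g ∈ Tri.U hb 1 := fun g hg => (Tri.mem_U_one hb).mpr fun i => Units.ext (by
    obtain ⟨N, hN⟩ := (hs.nilp g).mpr hg
    have h1 : (Tri.E b (σ.comp C.subtype) g) ^ N = 0 := by
      rw [Tri.E, Tri.mat, show (1 : Matrix (Fin (finrank k W)) (Fin (finrank k W)) k) =
        LinearMap.toMatrixAlgEquiv b 1 from (map_one _).symm]
      show (LinearMap.toMatrixAlgEquiv b ((σ.comp C.subtype) g) - LinearMap.toMatrixAlgEquiv b 1) ^ N = 0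
      rw [← map_sub, ← map_pow, hN, map_zero]
    have h2 := (Split.pow_diag (N := Tri.E b (σ.comp C.subtype) g) ((hb g).sub Tri.band_zero_one) i N).2
    rw [h1, Matrix.zero_apply] at h2
    have h3 := eq_zero_of_pow_eq_zero h2.symm
    rw [Tri.E, Matrix.sub_apply, Matrix.one_apply_eq, sub_eq_zero] at h3
    rw [Tri.chi_apply, Units.val_one, h3])
  have hdec : ∀ y : C, (τ y)⁻¹ * y ∈ Tri.U hb 1 := fun y => hU _ ((hs.tau_ker _).mp (by
    rw [map_mul, map_inv, hs.tau_fix _ (hs.tau_mem y), inv_mul_cancel]))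
  have hcomm : ∀ x y : C, ⁅x, y⁆ = ⁅(τ x)⁻¹ * x, (τ y)⁻¹ * y⁆ := by
    intro x y
    have hl : ∀ z a c : C, (∀ w, z * w = w * z) → ⁅z * a, c⁆ = ⁅a, c⁆ := fun z a c hz => by
      rw [commutatorElement_def, commutatorElement_def, mul_inv_rev, show z * a * c * (a⁻¹ * z⁻¹) * c⁻¹ =
        z * (a * c * a⁻¹) * z⁻¹ * c⁻¹ from by group, hz, mul_inv_cancel_right]
    have hr : ∀ z a c : C, (∀ w, z * w = w * z) → ⁅c, z * a⁆ = ⁅c, a⁆ := fun z a c hz => by
      rw [← inv_inj, commutatorElement_inv, commutatorElement_inv, hl z a c hz]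
    conv_lhs => rw [← mul_inv_cancel_left (τ x) x, ← mul_inv_cancel_left (τ y) y]
    rw [hl _ _ _ (hcentral x), hr _ _ _ (hcentral y)]
  have hcm : ∀ j : ℕ, ∀ u ∈ Tri.U hb (j + 1), ∀ v ∈ Tri.U hb 1, ⁅u, v⁆ ∈ Tri.U hb (j + 1 + 1) := by
    intro j u hu v hv
    rw [commutatorElement_def, show u * v * u⁻¹ * v⁻¹ = u * v * (v * u)⁻¹ from by group]
    refine Tri.div_mem ?_
    rw [Tri.E_mul, Tri.E_mul, show ∀ x y p q : Matrix (Fin (finrank k W)) (Fin (finrank k W)) k,
      x + p + q - (y + q + p) = x - y from fun _ _ _ _ => by abel]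
    exact ((hu.mul hv).mono (by omega)).sub ((hv.mul hu).mono (by omega))
  have key : ∀ j, ∀ x ∈ (IW (j + 1) : Set C), x ∈ Tri.U hb (j + 1) := by
    intro j
    induction j with
    | zero =>
      rintro _ ⟨x, -, y, rfl⟩
      rw [hcomm]
      exact Tri.U_anti hb (by omega) (hcm 0 _ (hdec x) _ (hdec y))
    | succ j ih =>
      rintro _ ⟨x, hx, y, rfl⟩
      have h : ⁅x, y⁆ = ⁅x, (τ y)⁻¹ * y⁆ := by
        conv_lhs => rw [← mul_inv_cancel_left (τ y) y]
        rw [commutatorElement_def, commutatorElement_def, mul_inv_rev,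
          show x * (τ y * ((τ y)⁻¹ * y)) * x⁻¹ * (((τ y)⁻¹ * y)⁻¹ * (τ y)⁻¹) =
            x * τ y * (((τ y)⁻¹ * y) * x⁻¹ * ((τ y)⁻¹ * y)⁻¹) * (τ y)⁻¹ from by group, ← hcentral y x,
          show τ y * x * (((τ y)⁻¹ * y) * x⁻¹ * ((τ y)⁻¹ * y)⁻¹) * (τ y)⁻¹ =
            τ y * (x * ((τ y)⁻¹ * y) * x⁻¹ * ((τ y)⁻¹ * y)⁻¹) * (τ y)⁻¹ from by group, hcentral, mul_inv_cancel_right]
      rw [h]
      exact hcm j _ (ih x hx) _ (hdec y)
  exact ⟨finrank k W + 1, fun x hx => Subgroup.mem_bot.mp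
    ((Tri.U_eq_bot hb hσC.faith (Nat.le_succ _)).le (key _ x hx))⟩

/-- In a nilpotent connected group a torus is central. -/
theorem central_of_nilpotent (hirr : D.SIrr Set.univ) (hσ : GenRep.Gen D σ) {n : ℕ}
    (hn : ∀ x ∈ (IW n : Set Γ), x = 1) {T : Subgroup Γ} (hT : IsTor D T) : ∀ g, ∀ t ∈ T, g * t = t * g := by
  haveI : Group.IsNilpotent Γ := ⟨⟨n, upper_eq_top hn⟩⟩
  obtain ⟨T₁, U, τ, hs⟩ := Split.exists_split D hirr σ hσ
  have key : ∀ (t : Γ) (m : ℕ), (m : k) ≠ 0 → t ^ m = 1 → ∀ g, g * t = t * g := by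
    intro t m hm htm g
    let c : ℕ → Γ := fun j => Nat.rec g (fun _ x => ⁅x, t⁆) j
    have hIW : ∀ j, c j ∈ (IW j : Set Γ) := by
      intro j
      induction j with
      | zero => trivial
      | succ j ih => exact ⟨c j, ih, t, rfl⟩
    have hback : ∀ j, c (j + 2) = 1 → c (j + 1) = 1 := by
      intro j hj
      have hc : c (j + 1) * t = t * c (j + 1) := commutatorElement_eq_one_iff_mul_comm.mp hj
      have hker : c (j + 1) ∈ U := (hs.tau_ker _).mp (by
        show τ ⁅c j, t⁆ = 1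
        rw [map_commutatorElement, commutatorElement_eq_one_iff_mul_comm]
        exact hs.comm _ (hs.tau_mem _) _ (hs.tau_mem _))
      refine Cartan.eq_one_of_nilp hσ.faith hm ?_ ((hs.nilp _).mpr hker)
      have h1 : c (j + 1) * t = c j * t * (c j)⁻¹ := by
        show ⁅c j, t⁆ * t = _
        rw [commutatorElement_def]
        group
      have h2 : (c (j + 1) * t) ^ m = 1 := by
        rw [h1, conj_pow, htm, mul_one, mul_inv_cancel]
      rwa [(show Commute (c (j + 1)) t from hc).mul_pow, htm, mul_one] at h2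
    have hdown : ∀ i, c (i + 1) = 1 → c 1 = 1 := by
      intro i
      induction i with
      | zero => exact id
      | succ i ih => exact fun h => ih (hback i h)
    have h1 : c 1 = 1 := hdown n (by
      show ⁅c n, t⁆ = 1
      rw [hn _ (hIW n), commutatorElement_one_left])
    exact commutatorElement_eq_one_iff_mul_comm.mp h1
  intro g t ht
  have hcl := Diagonal.isCl_centralizer hσ.reg hσ.faith {g}
  have hmem : t ∈ {x | ∀ s ∈ ({g} : Set Γ), x * s = s * x} := hcl fun f hf => hT.dense f f.2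
    (fun s _ ⟨m, hm, hsm⟩ => hf s (fun r hr => by rw [Set.mem_singleton_iff] at hr; rw [hr]; exact (key s m hm hsm g).symm))
    t ht
  exact (hmem g rfl).symm

/-- A normal maximal torus is central, and then the whole group is its centraliser. -/
theorem centralizer_eq_top (hirr : D.SIrr Set.univ) (hmul : HasMul D) (hσ : GenRep.Gen D σ) {B : Subgroup Γ}
    (hB : IsBor D B) {T : Subgroup Γ} (hT : IsTor D T) (hnorm : ∀ n, ∀ t ∈ T, n * t * n⁻¹ ∈ T) :
    Subgroup.centralizer (T : Set Γ) = ⊤ := by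
  classical
  obtain ⟨hcl, -⟩ := sirr_centralizer hirr hmul hσ hB hT
  set C := Subgroup.centralizer (T : Set Γ)
  have hfin := finite_actions hσ hT
  let rep : {φ : T → Γ // φ ∈ hfin.toFinset} → Γ := fun φ => (hfin.mem_toFinset.mp φ.2).choose
  have hcover : ∀ x ∈ (Set.univ : Set Γ), ∃ φ ∈ hfin.toFinset.attach, ∀ f ∈ {F : Γ → k | ∃ f ∈ D.R, (∀ c ∈ C, f c = 0) ∧
      F = fun y => f ((rep φ)⁻¹ * y)}, f x = 0 := by
    intro x _
    have hφ : (fun s : T => x * s * x⁻¹) ∈ hfin.toFinset := hfin.mem_toFinset.mpr ⟨x, hnorm x, rfl⟩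
    refine ⟨⟨_, hφ⟩, Finset.mem_attach _ _, ?_⟩
    rintro _ ⟨f, -, hf, rfl⟩
    refine hf _ (Subgroup.mem_centralizer_iff.mpr fun s hs => ?_)
    obtain ⟨-, hn⟩ := (hfin.mem_toFinset.mp hφ).choose_spec
    have h : x * s * x⁻¹ = rep ⟨_, hφ⟩ * s * (rep ⟨_, hφ⟩)⁻¹ := congrFun hn ⟨s, hs⟩
    calc s * ((rep ⟨_, hφ⟩)⁻¹ * x) = (rep ⟨_, hφ⟩)⁻¹ * (rep ⟨_, hφ⟩ * s * (rep ⟨_, hφ⟩)⁻¹) * x := by group
      _ = (rep ⟨_, hφ⟩)⁻¹ * (x * s * x⁻¹) * x := by rw [h]
      _ = (rep ⟨_, hφ⟩)⁻¹ * x * s := by group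
  obtain ⟨φ, -, hφ⟩ := Alg.SIrr.exists_forall D hirr ⟨1, trivial⟩ _ _ (fun φ _ => by
    rintro _ ⟨f, hf, -, rfl⟩
    exact D.lmul _ f hf) hcover
  have hmem : ∀ x, (rep φ)⁻¹ * x ∈ C := fun x => hcl fun f hf => hφ x trivial _ ⟨f, f.2, hf, rfl⟩
  refine eq_top_iff.mpr fun x _ => ?_
  have h1 := hmem 1
  rw [mul_one] at h1
  have := C.mul_mem (C.inv_mem h1) (hmem x)
  rwa [show (rep φ)⁻¹⁻¹ * ((rep φ)⁻¹ * x) = x by group] at this

end Groth.Agent.H1.Classical.Torus.NilpotentPts
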