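import Groth.Agent.H1.Classical.Torus.Lift
import Groth.Agent.H1.Classical.Torus.GenRep
import Groth.Agent.H1.Classical.Fixed
import Mathlib.LinearAlgebra.Matrix.Block
import Mathlib.LinearAlgebra.Matrix.ToLin
import Mathlib.LinearAlgebra.Basis.Fin
import Mathlib.LinearAlgebra.Projection
import Mathlib.Algebra.CharP.Defs
import Mathlib.Data.ZMod.Basic
import Mathlib.GroupTheory.Solvable

/-!
# Connected solvable groups: diagonal characters and the filtration of the unipotent part
-/

universe u v w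

namespace Groth.Agent.H1.Classical.Torus.Tri

set_option linter.style.haveILetI false
set_option linter.unusedSectionVars false

open Module Kolchin

variable {k : Type u} [Field k] {n : ℕ}

/-- Vanishing below the `j`-th diagonal. -/
def Band (j : ℕ) (N : Matrix (Fin n) (Fin n) k) : Prop := ∀ i l : Fin n, (l : ℕ) < i + j → N i l = 0

theorem Band.mul {a b : ℕ} {N N' : Matrix (Fin n) (Fin n) k} (h : Band a N) (h' : Band b N') :
    Band (a + b) (N * N') := fun i l hl => by
  rw [Matrix.mul_apply]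
  refine Finset.sum_eq_zero fun x _ => ?_
  by_cases hx : (x : ℕ) < i + a
  · rw [h i x hx, zero_mul]
  · rw [h' x l (by omega), mul_zero]

theorem Band.add {a : ℕ} {N N' : Matrix (Fin n) (Fin n) k} (h : Band a N) (h' : Band a N') : Band a (N + N') :=
  fun i l hl => by simp [h i l hl, h' i l hl]

theorem Band.sub {a : ℕ} {N N' : Matrix (Fin n) (Fin n) k} (h : Band a N) (h' : Band a N') : Band a (N - N') :=
  fun i l hl => by simp [h i l hl, h' i l hl]

theorem Band.neg {a : ℕ} {N : Matrix (Fin n) (Fin n) k} (h : Band a N) : Band a (-N) :=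
  fun i l hl => by simp [h i l hl]

theorem Band.mono {a b : ℕ} {N : Matrix (Fin n) (Fin n) k} (h : Band b N) (hab : a ≤ b) : Band a N :=
  fun i l hl => h i l (by omega)

theorem Band.zero {a : ℕ} : Band a (0 : Matrix (Fin n) (Fin n) k) := fun _ _ _ => rfl

theorem band_zero_one : Band 0 (1 : Matrix (Fin n) (Fin n) k) := fun i l hl =>
  Matrix.one_apply_ne (by omega)

theorem Band.eq_zero {N : Matrix (Fin n) (Fin n) k} {a : ℕ} (ha : n ≤ a) (h : Band a N) : N = 0 :=
  Matrix.ext fun i l => h i l (by omega)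

theorem Band.pow_succ {N : Matrix (Fin n) (Fin n) k} (h : Band 1 N) : ∀ j, Band (j + 1) (N ^ (j + 1))
  | 0 => by simpa using h
  | j + 1 => by rw [_root_.pow_succ]; exact (Band.pow_succ h j).mul h

theorem mul_diag {N N' : Matrix (Fin n) (Fin n) k} (h : Band 0 N) (h' : Band 0 N') (i : Fin n) :
    (N * N') i i = N i i * N' i i := by
  rw [Matrix.mul_apply]
  refine Finset.sum_eq_single i (fun x _ hx => ?_) (fun h0 => absurd (Finset.mem_univ i) h0)
  rcases lt_or_gt_of_ne hx with h1 | h1
  · rw [h i x (by omega), zero_mul]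
  · rw [h' x i (by omega), mul_zero]

variable {Γ : Type v} [Group Γ] {W : Type w} [AddCommGroup W] [Module k W]

/-- The matrices of a representation. -/
noncomputable def mat (b : Basis (Fin n) k W) (σ : Representation k Γ W) : Γ →* Matrix (Fin n) (Fin n) k :=
  (LinearMap.toMatrixAlgEquiv b).toAlgHom.toRingHom.toMonoidHom.comp σ

theorem mat_apply (b : Basis (Fin n) k W) (σ : Representation k Γ W) (g : Γ) (i l : Fin n) :
    mat b σ g i l = b.coord i (σ g (b l)) :=
  LinearMap.toMatrixAlgEquiv_apply _ _ _ _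

/-- The representation is triangular in the basis. -/
def IsTri (b : Basis (Fin n) k W) (σ : Representation k Γ W) : Prop := ∀ g, Band 0 (mat b σ g)

variable {b : Basis (Fin n) k W} {σ : Representation k Γ W}

theorem regular {D : Alg k Γ} (hσ : EndFn D.R (fun g => σ g)) (i l : Fin n) :
    (fun g => mat b σ g i l) ∈ D.R := by
  simp only [mat_apply]
  exact hσ (b l) (b.coord i)

/-- The diagonal characters. -/
noncomputable def chi (h : IsTri b σ) (i : Fin n) : Γ →* kˣ :=
  MonoidHom.toHomUnits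
    { toFun := fun g => mat b σ g i i
      map_one' := by rw [map_one, Matrix.one_apply_eq]
      map_mul' := fun g g' => by rw [map_mul, mul_diag (h g) (h g')] }

theorem chi_apply (h : IsTri b σ) (i : Fin n) (g : Γ) : (chi h i g : k) = mat b σ g i i := rfl

/-- The distance to the unit. -/
noncomputable def E (b : Basis (Fin n) k W) (σ : Representation k Γ W) (g : Γ) : Matrix (Fin n) (Fin n) k :=
  mat b σ g - 1

theorem E_mul (g g' : Γ) : E b σ (g * g') = E b σ g * E b σ g' + E b σ g + E b σ g' := by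
  simp only [E, map_mul, sub_mul, mul_sub, one_mul, mul_one]
  abel

theorem E_div (x y : Γ) : E b σ (x * y⁻¹) = (E b σ x - E b σ y) * mat b σ y⁻¹ := by
  simp only [E, map_mul, sub_sub_sub_cancel_right, sub_mul]
  rw [← map_mul (mat b σ) y, mul_inv_cancel, map_one]

/-- The filtration. -/
noncomputable def U (h : IsTri b σ) (j : ℕ) : Subgroup Γ where
  carrier := {g | Band j (E b σ g)}
  one_mem' := by
    show Band j (E b σ 1)
    rw [E, map_one, sub_self]; exact Band.zero
  mul_mem' {g g'} hg hg' := by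
    show Band j (E b σ (g * g'))
    rw [E_mul]
    exact (((Band.mul hg hg').mono (by omega)).add hg).add hg'
  inv_mem' {g} hg := by
    show Band j (E b σ g⁻¹)
    have := E_div (b := b) (σ := σ) (1 : Γ) g
    rw [one_mul, show E b σ (1 : Γ) = 0 by rw [E, map_one, sub_self], zero_sub] at this
    rw [this]
    simpa using (Band.neg hg).mul (h g⁻¹)

theorem mem_U (h : IsTri b σ) {j : ℕ} {g : Γ} : g ∈ U h j ↔ Band j (E b σ g) := Iff.rfl

theorem U_anti (h : IsTri b σ) {i j : ℕ} (hij : i ≤ j) : U h j ≤ U h i := fun _ hg => hg.mono hij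

theorem U_normal (h : IsTri b σ) (j : ℕ) : (U h j).Normal := ⟨fun g hg a => by
  show Band j (E b σ (a * g * a⁻¹))
  have : E b σ (a * g * a⁻¹) = mat b σ a * E b σ g * mat b σ a⁻¹ := by
    simp only [E, map_mul, mul_sub, sub_mul, mul_one]
    rw [← map_mul _ a a⁻¹, mul_inv_cancel, map_one]
  rw [this]
  exact (((h a).mul hg).mul (h a⁻¹)).mono (by omega)⟩

theorem U_zero (h : IsTri b σ) : U h 0 = ⊤ := eq_top_iff.mpr fun g _ => (h g).sub band_zero_one

theorem mem_U_one (h : IsTri b σ) {g : Γ} : g ∈ U h 1 ↔ ∀ i, chi h i g = 1 := by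
  refine ⟨fun hg i => Units.ext ?_, fun hg i l hl => ?_⟩
  · have := hg i i (by omega)
    rw [E, Matrix.sub_apply, Matrix.one_apply_eq, sub_eq_zero] at this
    rwa [chi_apply, Units.val_one]
  · rcases Nat.lt_or_ge l i with h1 | h1
    · exact (h g).sub band_zero_one i l (by omega)
    · obtain rfl : i = l := Fin.ext (by omega)
      rw [E, Matrix.sub_apply, Matrix.one_apply_eq, sub_eq_zero, ← chi_apply h, hg, Units.val_one]

theorem U_eq_bot (h : IsTri b σ) (hf : Function.Injective σ) {j : ℕ} (hj : n ≤ j) : U h j = ⊥ :=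
  (Subgroup.eq_bot_iff_forall _).mpr fun g hg => hf <| (LinearMap.toMatrixAlgEquiv b).injective <| by
    show mat b σ g = LinearMap.toMatrixAlgEquiv b (σ 1)
    rw [sub_eq_zero.mp (Band.eq_zero hj hg)]
    rw [map_one, map_one]

theorem isCl_U {D : Alg k Γ} (h : IsTri b σ) (hσ : EndFn D.R (fun g => σ g)) (j : ℕ) : D.IsCl (U h j) := by
  refine D.isCl_of_forall {f | ∃ i l : Fin n, (l : ℕ) < i + j ∧ f = fun g => E b σ g i l} ?_ fun g => ?_
  · rintro _ ⟨i, l, -, rfl⟩
    exact D.R.sub_mem (regular hσ i l) (D.R.algebraMap_mem ((1 : Matrix (Fin n) (Fin n) k) i l))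
  · exact ⟨fun hg f ⟨i, l, hl, hf⟩ => hf ▸ hg i l hl, fun hg i l hl => hg _ ⟨i, l, hl, rfl⟩⟩

theorem isNilpotent_of_mem (h : IsTri b σ) {g : Γ} (hg : g ∈ U h 1) : IsNilpotent (σ g - 1) := by
  refine ⟨n + 1, (LinearMap.toMatrixAlgEquiv b).injective ?_⟩
  rw [map_pow, map_sub, map_one, map_zero]
  exact (Band.pow_succ hg n).eq_zero (Nat.le_succ n)

/-- Powers are additive on each layer. -/
theorem E_pow (h : IsTri b σ) {j : ℕ} (hj : 1 ≤ j) {g : Γ} (hg : g ∈ U h j) (m : ℕ) :
    Band (j + 1) (E b σ (g ^ m) - (m : k) • E b σ g) := by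
  induction m with
  | zero => simpa [E] using Band.zero
  | succ m ih =>
    rw [pow_succ, E_mul, Nat.cast_succ, add_smul, one_smul]
    have hgm : Band j (E b σ (g ^ m)) := (U h j).pow_mem hg m
    rw [show ∀ x y z w : Matrix (Fin n) (Fin n) k, x + y + z - (w + z) = x + (y - w) from fun _ _ _ _ => by abel]
    exact ((hgm.mul hg).mono (by omega)).add ih

theorem div_mem {h : IsTri b σ} {j : ℕ} {x y : Γ} (hxy : Band j (E b σ x - E b σ y)) : x * y⁻¹ ∈ U h j := by
  show Band j (E b σ (x * y⁻¹))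
  rw [E_div]
  simpa using hxy.mul (h y⁻¹)

theorem comm_mem (h : IsTri b σ) {j : ℕ} (hj : 1 ≤ j) {u v : Γ} (hu : u ∈ U h j) (hv : v ∈ U h j) :
    u * v * (v * u)⁻¹ ∈ U h (j + 1) := by
  refine div_mem ?_
  rw [E_mul, E_mul, show ∀ x y p q : Matrix (Fin n) (Fin n) k, x + p + q - (y + q + p) = x - y from fun _ _ _ _ => by abel]
  exact ((hu.mul hv).mono (by omega)).sub ((hv.mul hu).mono (by omega))

theorem inj_mem (h : IsTri b σ) {j : ℕ} (hj : 1 ≤ j) {m : ℕ} (hm : (m : k) ≠ 0) {v : Γ} (hv : v ∈ U h j)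
    (hvm : v ^ m ∈ U h (j + 1)) : v ∈ U h (j + 1) := fun i l hl => by
  have h1 : Band (j + 1) ((m : k) • E b σ v) := by
    simpa using Band.sub hvm (E_pow h hj hv m)
  exact (mul_eq_zero.mp (h1 i l hl)).resolve_left hm

theorem div_exists {D : Alg k Γ} (h : IsTri b σ) (hσ : GenRep.Gen D σ) {j : ℕ} (hj : 1 ≤ j) {m : ℕ} (hm : (m : k) ≠ 0)
    {u : Γ} (hu : u ∈ U h j) : ∃ v ∈ U h j, v ^ m * u⁻¹ ∈ U h (j + 1) := by
  rcases CharP.exists k with ⟨p, hp⟩
  rcases CharP.char_is_prime_or_zero k p with hpp | rfl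
  · haveI := Fact.mk hpp
    haveI := hp
    obtain ⟨s, hs⟩ : ∃ s : ℕ, ((m * s : ℕ) : k) = 1 := by
      refine ⟨((m : ZMod p)⁻¹).val, ?_⟩
      rw [← Nat.cast_one, CharP.natCast_eq_natCast k p, ← ZMod.natCast_eq_natCast_iff, Nat.cast_mul, ZMod.natCast_zmod_val,
        Nat.cast_one, ZMod.coe_mul_inv_eq_one m ?_]
      rw [Nat.coprime_comm, hpp.coprime_iff_not_dvd, ← CharP.cast_eq_zero_iff k p]
      exact hm
    refine ⟨u ^ s, (U h j).pow_mem hu s, ?_⟩
    rw [← pow_mul]
    refine div_mem ?_
    have h1 := E_pow h hj hu (s * m)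
    rwa [mul_comm s m, hs, one_smul, mul_comm m s] at h1
  · haveI := hp
    haveI := CharP.charP_to_charZero k
    obtain ⟨v, hv⟩ := GenRep.exists_pt D hσ (isNilpotent_of_mem h (U_anti h hj hu)) (m : k)⁻¹
    have hvj : v ∈ U h j := GenRep.mem_of_powers D (isCl_U h hσ.reg j) (fun N => (U h j).pow_mem hu N) hv
    refine ⟨v, hvj, div_mem fun i l hl => ?_⟩
    by_cases hlt : (l : ℕ) < i + j
    · rw [Matrix.sub_apply, (show Band j (E b σ (v ^ m)) from (U h j).pow_mem hvj m) i l hlt, hu i l hlt, sub_zero]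
    have key : ∀ (g : Γ), g ∈ U h j → ∀ N : ℕ, E b σ (g ^ N) i l = (N : k) * E b σ g i l := fun g hg N =>
      sub_eq_zero.mp (E_pow h hj hg N i l hl)
    have hf : (fun g => E b σ g i l) ∈ D.R :=
      D.R.sub_mem (regular hσ.reg i l) (D.R.algebraMap_mem ((1 : Matrix (Fin n) (Fin n) k) i l))
    have h2 : E b σ v i l = (Polynomial.C (E b σ u i l) * Polynomial.X).eval (m : k)⁻¹ :=
      hv _ hf _ fun N => by rw [Polynomial.eval_mul, Polynomial.eval_C, Polynomial.eval_X, key u hu N, mul_comm]
    rw [Matrix.sub_apply, key v hvj m, h2, Polynomial.eval_mul, Polynomial.eval_C, Polynomial.eval_X]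
    field_simp
    ring

/-- The filtration is uniquely divisible by integers invertible in `k`. -/
theorem filt {D : Alg k Γ} (h : IsTri b σ) (hσ : GenRep.Gen D σ) {m : ℕ} (hm : (m : k) ≠ 0) :
    Lift.Filt m (U h 1) := by
  have key : ∀ d j, 1 ≤ j → n ≤ j + d → Lift.Filt m (U h j) := by
    intro d
    induction d with
    | zero =>
      intro j _ hn
      rw [U_eq_bot h hσ.faith (by omega)]
      exact Lift.Filt.bot
    | succ d ih =>
      intro j hj hn
      exact Lift.Filt.step (U_normal h j) (U_normal h (j + 1)) (U_anti h (Nat.le_succ j))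
        (fun u hu v hv => comm_mem h hj hu hv) (fun u hu => div_exists h hσ hj hm hu)
        (fun v hv hvm => inj_mem h hj hm hv hvm) (ih (j + 1) (by omega) (by omega))
  exact key n 1 le_rfl (by omega)

section Exists

variable (R : Subalgebra k (Γ → k))

/-- A group all of whose representations have eigenvectors is triangular. -/
theorem exists_tri_of_eigvec (hev₀ : ∀ {W : Type w} [AddCommGroup W] [Module k W] [FiniteDimensional k W] [Nontrivial W]
      (σ : Representation k Γ W), EndFn R (fun g => σ g) → EndFn R (fun g => σ g⁻¹) →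
      ∃ v : W, v ≠ 0 ∧ ∀ g, ∃ c : k, σ g v = c • v) : ∀ (n : ℕ) {W : Type w} [AddCommGroup W] [Module k W] [FiniteDimensional k W]
    (σ : Representation k Γ W), EndFn R (fun g => σ g) → EndFn R (fun g => σ g⁻¹) → finrank k W = n →
    ∃ b : Basis (Fin n) k W, IsTri b σ := by
  intro n
  induction n with
  | zero =>
    intro W _ _ _ σ _ _ hn
    exact ⟨(Module.finBasis k W).reindex (finCongr hn), fun g i => i.elim0⟩
  | succ n ih =>
    intro W _ _ _ σ hσ hσ' hn
    haveI : Nontrivial W := Module.nontrivial_of_finrank_eq_succ hn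
    obtain ⟨v, hv, hev⟩ := hev₀ σ hσ hσ'
    let K := Submodule.span k {v}
    have hK : ∀ g, K ≤ K.comap (σ g) := fun g => Submodule.span_le.mpr (by
      rintro _ rfl
      obtain ⟨c, hc⟩ := hev g
      show σ g _ ∈ K
      rw [hc]
      exact K.smul_mem c (Submodule.mem_span_singleton_self _))
    let σq : Representation k Γ (W ⧸ K) :=
      { toFun := fun g => K.mapQ K (σ g) (hK g)
        map_one' := Submodule.linearMap_qext _ (LinearMap.ext fun w => by simp)
        map_mul' := fun g g' => Submodule.linearMap_qext _ (LinearMap.ext fun w => by simp) }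
    have hq : ∀ F : Γ → Γ, EndFn R (fun g => σ (F g)) → EndFn R (fun g => σq (F g)) := by
      intro F hF x l
      obtain ⟨w, rfl⟩ := K.mkQ_surjective x
      exact hF w (l.comp K.mkQ)
    have hdim : finrank k (W ⧸ K) = n := by
      have := K.finrank_quotient_add_finrank
      rw [finrank_span_singleton hv] at this
      omega
    obtain ⟨bq, hbq⟩ := ih σq (hq id hσ) (hq (·⁻¹) hσ') hdim
    obtain ⟨N, hN⟩ := K.exists_isCompl
    let bN : Basis (Fin n) k N := bq.map (Submodule.quotientEquivOfIsCompl K N hN)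
    have hli : ∀ (c : k), ∀ x ∈ N, c • v + x = 0 → c = 0 := by
      intro c x hx hcx
      by_contra hc
      have h1 : c • v ∈ K ⊓ N := ⟨K.smul_mem c (Submodule.mem_span_singleton_self v), by
        rw [eq_neg_of_add_eq_zero_left hcx]; exact N.neg_mem hx⟩
      rw [hN.inf_eq_bot, Submodule.mem_bot, smul_eq_zero] at h1
      exact h1.elim hc hv
    have hsp : ∀ z : W, ∃ c : k, z + c • v ∈ N := by
      intro z
      obtain ⟨a, ha, x, hx, rfl⟩ := Submodule.mem_sup.mp (hN.sup_eq_top ▸ Submodule.mem_top : z ∈ K ⊔ N)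
      obtain ⟨c, rfl⟩ := Submodule.mem_span_singleton.mp ha
      exact ⟨-c, by rwa [neg_smul, show c • v + x + -(c • v) = x by abel]⟩
    let b := Basis.mkFinCons v bN hli hsp
    have hb0 : b 0 = v := by simp [b, Basis.coe_mkFinCons]
    have hmk : ∀ i, K.mkQ (b (Fin.succ i)) = bq i := fun i => by
      have h1 : (Submodule.quotientEquivOfIsCompl K N hN).symm (bN i) = bq i := by simp [bN]
      rw [Submodule.quotientEquivOfIsCompl_symm_apply] at h1
      rw [← h1]
      simp [b, Basis.coe_mkFinCons]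
    have hrepr : ∀ (x : W) (i : Fin n), b.repr x (Fin.succ i) = bq.repr (K.mkQ x) i := by
      intro x i
      conv_rhs => rw [← b.sum_repr x, Fin.sum_univ_succ, map_add, map_smul, map_sum, hb0]
      rw [show K.mkQ v = 0 from (Submodule.Quotient.mk_eq_zero K).mpr (Submodule.mem_span_singleton_self v), smul_zero, zero_add]
      simp only [map_smul, hmk]
      rw [bq.repr_sum_self]
    refine ⟨b, fun g i l hl => ?_⟩
    rw [mat_apply, Basis.coord_apply]
    obtain ⟨i', rfl⟩ : ∃ i' : Fin n, i = Fin.succ i' := ⟨i.pred (fun h => by simp [h] at hl), (Fin.succ_pred _ _).symm⟩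
    rw [hrepr]
    by_cases hl0 : l = 0
    · subst hl0
      obtain ⟨c, hc⟩ := hev g
      rw [hb0, hc, map_smul, show K.mkQ v = 0 from (Submodule.Quotient.mk_eq_zero K).mpr (Submodule.mem_span_singleton_self v),
        smul_zero, map_zero, Finsupp.zero_apply]
    · obtain ⟨l', rfl⟩ := Fin.exists_succ_eq.mpr hl0
      have h1 := hbq g i' l' (by simp at hl ⊢; omega)
      rw [mat_apply, Basis.coord_apply] at h1
      rw [← h1, ← hmk]
      rfl

/-- A solvable irreducible group is triangular. -/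
theorem exists_tri [IsAlgClosed k] [NoZeroDivisors R] [Group.IsSolvable Γ] (n : ℕ) {W : Type w} [AddCommGroup W]
    [Module k W] [FiniteDimensional k W] (σ : Representation k Γ W) (hσ : EndFn R (fun g => σ g))
    (hσ' : EndFn R (fun g => σ g⁻¹)) (hn : finrank k W = n) : ∃ b : Basis (Fin n) k W, IsTri b σ :=
  exists_tri_of_eigvec R (fun σ hσ hσ' => Fixed.exists_eigvec R σ hσ hσ') n σ hσ hσ' hn

end Exists

section Solvable

/-- A faithful triangular group is solvable. -/
theorem isSolvable (h : IsTri b σ) (hf : Function.Injective σ) : Group.IsSolvable Γ := by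
  have key : ∀ j, derivedSeries Γ (j + 1) ≤ U h (j + 1) := by
    intro j
    induction j with
    | zero =>
      rw [derivedSeries_succ, Subgroup.commutator_le]
      intro g₁ _ g₂ _
      refine (mem_U_one h).mpr fun i => ?_
      rw [commutatorElement_def, map_mul, map_mul, map_mul, map_inv, map_inv, mul_right_comm (chi h i g₁) (chi h i g₂),
        mul_inv_cancel, one_mul, mul_inv_cancel]
    | succ j ih =>
      rw [derivedSeries_succ, Subgroup.commutator_le]
      intro g₁ h₁ g₂ h₂
      have := comm_mem h (j := j + 1) (Nat.le_add_left 1 j) (ih h₁) (ih h₂)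
      rwa [commutatorElement_def, show g₁ * g₂ * g₁⁻¹ * g₂⁻¹ = g₁ * g₂ * (g₂ * g₁)⁻¹ by group]
  exact (Group.isSolvable_def _).mpr ⟨n + 1, eq_bot_iff.mpr ((key n).trans (U_eq_bot h hf (Nat.le_succ n)).le)⟩

end Solvable

end Groth.Agent.H1.Classical.Torus.Tri
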