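import Groth.Agent.H1.Classical.Torus.Tri
import Groth.Agent.H1.Classical.Complete
import Mathlib.LinearAlgebra.Eigenspace.Pi
import Mathlib.LinearAlgebra.Eigenspace.Semisimple
import Mathlib.LinearAlgebra.Semisimple
import Mathlib.FieldTheory.Separable
import Mathlib.LinearAlgebra.Basis.VectorSpace

/-!
# Closures of subgroups and diagonalisation of commutative torsion subgroups
-/

universe u v w

namespace Groth.Agent.H1.Classical.Torus.Diagonal

set_option linter.style.haveILetI false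
set_option linter.unusedSectionVars false

open Module Kolchin

variable {k : Type u} [Field k] {Γ : Type v} [Group Γ] (D : Alg k Γ)

/-- The closure of a subgroup. -/
def closure (S : Subgroup Γ) : Subgroup Γ where
  carrier := D.zero (D.vI S)
  one_mem' := D.subset_zero_vI _ S.one_mem
  mul_mem' {a b} ha hb := fun f hf => by
    have h1 : D.rTrans b f ∈ D.vI S := fun s hs => by
      exact hb (D.lTrans s f) fun s' hs' => hf _ (S.mul_mem hs hs')
    exact ha (D.rTrans b f) h1
  inv_mem' {a} ha := fun f hf => ha ⟨_, D.inv _ f.2⟩ fun s hs => hf _ (S.inv_mem hs)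

theorem le_closure (S : Subgroup Γ) : S ≤ closure D S := D.subset_zero_vI _

theorem isCl_closure (S : Subgroup Γ) : D.IsCl (closure D S) := D.isCl_zero _

theorem closure_le {S : Subgroup Γ} {C : Set Γ} (hC : D.IsCl C) (h : (S : Set Γ) ⊆ C) :
    ((closure D S : Subgroup Γ) : Set Γ) ⊆ C := fun _ hg => hC (D.zero_anti (D.vI_anti h) hg)

variable {D} {W : Type w} [AddCommGroup W] [Module k W] {σ : Representation k Γ W}

theorem isCl_centralizer (hσ : EndFn D.R (fun g => σ g)) (hf : Function.Injective σ) (S : Set Γ) :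
    D.IsCl {g | ∀ s ∈ S, g * s = s * g} := by
  refine D.isCl_of_forall
    {f | ∃ s ∈ S, ∃ (w : W) (l : Dual k W), f = fun g => l (σ (g * s) w) - l (σ (s * g) w)} ?_ fun g => ?_
  · rintro _ ⟨s, -, w, l, rfl⟩
    exact D.R.sub_mem (D.rmul s _ (hσ w l)) (D.lmul s _ (hσ w l))
  · refine ⟨fun hg f ⟨s, hs, w, l, hf⟩ => by rw [hf]; simp [hg s hs], fun hg s hs => hf (LinearMap.ext fun w => ?_)⟩
    rw [← sub_eq_zero]
    refine (Module.forall_dual_apply_eq_zero_iff k _).mp fun l => ?_
    rw [map_sub]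
    exact hg _ ⟨s, hs, w, l, rfl⟩

theorem closure_comm (hσ : EndFn D.R (fun g => σ g)) (hf : Function.Injective σ) {S : Subgroup Γ}
    (h : ∀ a ∈ S, ∀ b ∈ S, a * b = b * a) : ∀ a ∈ closure D S, ∀ b ∈ closure D S, a * b = b * a := by
  have h1 : ∀ a ∈ closure D S, ∀ s ∈ (S : Set Γ), a * s = s * a := fun a ha =>
    closure_le D (isCl_centralizer hσ hf _) (fun x hx s hs => h x hx s hs) ha
  exact fun a ha b hb => (closure_le D (isCl_centralizer hσ hf (closure D S : Set Γ))
    (fun x hx s hs => (h1 s hs x hx).symm) ha) b hb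

/-- Eigenvectors of a whole subgroup pass to its closure. -/
theorem eigen_closure (hσ : EndFn D.R (fun g => σ g)) {S : Subgroup Γ} {v : W}
    (h : ∀ a ∈ S, ∃ c : k, σ a v = c • v) : ∀ a ∈ closure D S, ∃ c : k, σ a v = c • v := by
  have hcl : D.IsCl {g | ∀ l : Dual k W, l v = 0 → l (σ g v) = 0} :=
    D.isCl_of_forall {f | ∃ l : Dual k W, l v = 0 ∧ f = fun g => l (σ g v)}
      (by rintro _ ⟨l, -, rfl⟩; exact hσ v l)
      (fun g => ⟨fun hg f ⟨l, hl, hf⟩ => hf ▸ hg l hl, fun hg l hl => hg _ ⟨l, hl, rfl⟩⟩)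
  intro a ha
  have h1 := closure_le D hcl (fun x hx l hl => by
    obtain ⟨c, hc⟩ := h x hx
    simp [hc, hl]) ha
  by_contra hcon
  have hnot : σ a v ∉ Submodule.span k {v} := fun hm => hcon (by
    obtain ⟨c, hc⟩ := Submodule.mem_span_singleton.mp hm
    exact ⟨c, hc.symm⟩)
  obtain ⟨l, hl, hlv⟩ := Submodule.exists_dual_map_eq_bot_of_notMem hnot inferInstance
  exact hl (h1 l ((Submodule.mem_bot k).mp (hlv ▸ ⟨v, Submodule.mem_span_singleton_self v, rfl⟩)))

/-- A commutative group of elements of finite order prime to the characteristic is diagonalisable. -/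
theorem exists_diag [IsAlgClosed k] [FiniteDimensional k W] {A : Subgroup Γ} (hcomm : ∀ a ∈ A, ∀ b ∈ A, a * b = b * a)
    (htor : ∀ a ∈ A, ∃ m : ℕ, (m : k) ≠ 0 ∧ a ^ m = 1) :
    ∃ e : Basis (Fin (finrank k W)) k W, ∀ a ∈ A, ∀ i, ∃ c : k, σ a (e i) = c • e i := by
  classical
  let S : Set W := {v | ∀ a ∈ A, ∃ c : k, σ a v = c • v}
  have hss : ∀ a : A, End.IsSemisimple (σ (a : Γ)) := by
    intro a
    obtain ⟨m, hm, ham⟩ := htor a a.2
    refine End.isSemisimple_of_squarefree_aeval_eq_zero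
      (p := Polynomial.X ^ m - Polynomial.C 1) (Polynomial.separable_X_pow_sub_C 1 hm one_ne_zero).squarefree ?_
    rw [map_sub, map_pow, Polynomial.aeval_X, ← map_pow, ham, map_one, Polynomial.aeval_C, map_one, sub_self]
  have hspan : ⊤ ≤ Submodule.span k S := by
    rw [← End.iSup_iInf_maxGenEigenspace_eq_top_of_iSup_maxGenEigenspace_eq_top_of_commute
      (fun a : A => σ (a : Γ))
      (fun a a' _ => show σ (a : Γ) * σ (a' : Γ) = σ (a' : Γ) * σ (a : Γ) by
        rw [← map_mul, ← map_mul, hcomm a a.2 a' a'.2])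
      (fun a => End.iSup_maxGenEigenspace_eq_top _)]
    refine iSup_le fun χ v hv => Submodule.subset_span fun a ha => ⟨χ ⟨a, ha⟩, ?_⟩
    have h1 := (Submodule.mem_iInf _).mp hv ⟨a, ha⟩
    rw [((End.isFinitelySemisimple_iff_isSemisimple).mpr (hss ⟨a, ha⟩)).maxGenEigenspace_eq_eigenspace,
      End.mem_eigenspace_iff] at h1
    exact h1
  let e := Basis.ofSpan hspan
  refine ⟨e.reindex (e.indexEquiv (Module.finBasis k W)), fun a ha i => ?_⟩
  rw [Basis.reindex_apply]
  exact Basis.ofSpan_subset hspan ⟨_, rfl⟩ a ha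

end Groth.Agent.H1.Classical.Torus.Diagonal
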