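import Groth.Agent.H1.Classical.Torus.Centraliser
import Groth.Agent.H1.Classical.Absorb

/-!
# Subgroups whose characters are trivial on a Borel subgroup
-/

universe u v w

namespace Groth.Agent.H1.Classical.Torus.Weights

set_option linter.style.haveILetI false
set_option linter.unusedSectionVars false

open Module Kolchin Open Complete Centraliser

variable {k : Type u} [Field k] [IsAlgClosed k] {Γ : Type v} [Group Γ] {D : Alg k Γ}
  {W : Type w} [AddCommGroup W] [Module k W] [FiniteDimensional k W]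

/-- The weight space of a character of a subgroup. -/
def wspace (σ : Representation k Γ W) (S : Subgroup Γ) (ψ : Γ → k) : Submodule k W where
  carrier := {x | ∀ s ∈ S, σ s x = ψ s • x}
  add_mem' := fun {x y} hx hy s hs => by rw [map_add, hx s hs, hy s hs, smul_add]
  zero_mem' := fun s _ => by rw [map_zero, smul_zero]
  smul_mem' := fun c x hx s hs => by rw [map_smul, hx s hs, smul_comm]

/-- Maps between the weight parts of a stable subspace decide stability. -/
theorem mem_of_weights {σ : Representation k Γ W} {S : Subgroup Γ}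
    (e : Basis (Fin (finrank k W)) k W) (he : ∀ s ∈ S, ∀ i, ∃ c : k, σ s (e i) = c • e i) {U : Submodule k W}
    (hU : ∀ s ∈ S, ∀ u ∈ U, σ s u ∈ U) (A : W →ₗ[k] W)
    (h : ∀ ψ : Γ → k, ∀ x ∈ U, x ∈ wspace σ S ψ → A x ∈ U) : ∀ x ∈ U, A x ∈ U := by
  classical
  let ev : Fin (finrank k W) → Γ → k := fun i g => e.coord i (σ g (e i))
  have hact : ∀ s ∈ S, ∀ i, σ s (e i) = ev i s • e i := fun s hs i => by
    obtain ⟨c, hc⟩ := he s hs i
    show σ s (e i) = e.coord i (σ s (e i)) • e i
    rw [hc, map_smul, Basis.coord_apply, Basis.repr_self, Finsupp.single_eq_same, smul_eq_mul, mul_one]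
  have hdiag : ∀ s ∈ S, ∀ x : W, ∀ j, e.repr (σ s x) j = ev j s * e.repr x j := by
    intro s hs x j
    conv_lhs => rw [← e.sum_repr x, map_sum, map_sum, Finsupp.finsetSum_apply]
    rw [Finset.sum_eq_single j]
    · rw [map_smul, hact s hs, map_smul, map_smul, Basis.repr_self, Finsupp.smul_apply, Finsupp.smul_apply,
        Finsupp.single_eq_same, smul_eq_mul, smul_eq_mul]
      ring
    · intro l _ hl
      rw [map_smul, hact s hs, map_smul, map_smul, Basis.repr_self, Finsupp.smul_apply, Finsupp.smul_apply,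
        Finsupp.single_eq_of_ne (Ne.symm hl), smul_zero, smul_zero]
    · exact fun hh => absurd (Finset.mem_univ j) hh
  suffices ∀ (N : ℕ) (x : W), (e.repr x).support.card ≤ N → x ∈ U → A x ∈ U from
    fun x hx => this _ x le_rfl hx
  intro N
  induction N with
  | zero =>
    intro x hx hxU
    have : x = 0 := e.repr.injective (by
      rw [map_zero]
      exact Finsupp.support_eq_empty.mp (Finset.card_eq_zero.mp (Nat.le_zero.mp hx)))
    rw [this, map_zero]
    exact U.zero_mem
  | succ N ih =>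
    intro x hx hxU
    by_cases hsame : ∀ i ∈ (e.repr x).support, ∀ j ∈ (e.repr x).support, ∀ s ∈ S, ev i s = ev j s
    · by_cases h0 : (e.repr x).support = ∅
      · exact ih x (by rw [h0]; simp) hxU
      obtain ⟨i, hi⟩ := Finset.nonempty_iff_ne_empty.mpr h0
      refine h (ev i) x hxU fun s hs => e.repr.injective (Finsupp.ext fun j => ?_)
      rw [hdiag s hs, map_smul, Finsupp.smul_apply, smul_eq_mul]
      by_cases hj : j ∈ (e.repr x).support
      · rw [hsame j hj i hi s hs]
      · rw [Finsupp.notMem_support_iff.mp hj, mul_zero, mul_zero]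
    · push Not at hsame
      obtain ⟨i, hi, j, hj, s, hs, hne⟩ := hsame
      have key : ∀ l ∈ (e.repr x).support, A (σ s x) - ev l s • A x ∈ U := by
        intro l hl
        rw [← map_smul, ← map_sub]
        refine ih _ ?_ (U.sub_mem (hU s hs x hxU) (U.smul_mem _ hxU))
        have hsub : (e.repr (σ s x - ev l s • x)).support ⊆ (e.repr x).support.erase l := by
          intro p hp
          rw [Finsupp.mem_support_iff, map_sub, Finsupp.sub_apply, hdiag s hs, map_smul, Finsupp.smul_apply,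
            smul_eq_mul, ← sub_mul] at hp
          rw [Finset.mem_erase, Finsupp.mem_support_iff]
          exact ⟨fun hpl => left_ne_zero_of_mul hp (by rw [hpl, sub_self]), right_ne_zero_of_mul hp⟩
        have := Finset.card_le_card hsub
        rw [Finset.card_erase_of_mem hl] at this
        omega
      have h2 : (ev j s - ev i s) • A x ∈ U := by
        have := U.sub_mem (key i hi) (key j hj)
        rwa [sub_sub_sub_cancel_left, ← sub_smul] at this
      have h3 := U.smul_mem (ev j s - ev i s)⁻¹ h2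
      rwa [smul_smul, inv_mul_cancel₀ (sub_ne_zero.mpr (Ne.symm hne)), one_smul] at h3

/-- Subspaces stable under a subgroup with trivial characters on a Borel subgroup are stable. -/
theorem stable_of_characters (hirr : D.SIrr Set.univ) {B : Subgroup Γ} (hcomp : Complete D B)
    {M : Subgroup Γ} (hBM : B ≤ M) {S : Subgroup Γ} (hS : IsTor D S) (hSM : S ≤ M)
    (hSc : ∀ s ∈ S, ∀ g, g * s = s * g) {σ' : Representation k Γ W} (hσ' : EndFn D.R (fun g => σ' g))
    (U : Submodule k W) (hUm : ∀ g ∈ M, ∀ u ∈ U, σ' g u ∈ U)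
    (hchar : ∀ χ : M →* kˣ, (∃ f ∈ D.R, ∀ b : M, (b : Γ) ∈ B → f b = (χ b : k)) →
      (∀ s : M, (s : Γ) ∈ S → χ s = 1) → ∀ b : M, (b : Γ) ∈ B → χ b = 1) :
    ∀ g, ∀ u ∈ U, σ' g u ∈ U := by
  classical
  obtain ⟨e, he⟩ := exists_diag hS hσ'
  intro g₁
  refine mem_of_weights e he (fun s hs => hUm s (hSM hs)) (σ' g₁) fun ψ x hxU hxψ => ?_
  -- restrict to the weight space
  let W1 := wspace σ' S ψ
  have hW1 : ∀ g, ∀ y ∈ W1, σ' g y ∈ W1 := fun g y hy s hs => by
    rw [← End.mul_apply, ← map_mul, ← hSc s hs g, map_mul, End.mul_apply, hy s hs, map_smul]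
  let ρ : Representation k Γ W1 :=
    { toFun := fun g => (σ' g).restrict (hW1 g)
      map_one' := LinearMap.ext fun w => Subtype.ext (by
        show σ' 1 (w : W) = _
        rw [map_one]; rfl)
      map_mul' := fun a b => LinearMap.ext fun w => Subtype.ext (by
        show σ' (a * b) (w : W) = σ' a (σ' b w)
        rw [map_mul]; rfl) }
  have hρ : EndFn D.R (fun g => ρ g) := fun w l => by
    obtain ⟨l', hl'⟩ := LinearMap.exists_extend l
    have : (fun g => l (ρ g w)) = fun g => l' (σ' g (w : W)) := funext fun g => by rw [← hl']; rfl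
    rw [this]
    exact hσ' _ _
  let X : Submodule k W1 := U.comap W1.subtype
  have hX : ∀ g ∈ M, ∀ y ∈ X, ρ g y ∈ X := fun g hg y hy => hUm g hg _ hy
  let ρX : Representation k M X :=
    { toFun := fun g => (ρ g).restrict (hX g g.2)
      map_one' := LinearMap.ext fun w => Subtype.ext (by
        show ρ 1 (w : W1) = _
        rw [map_one]; rfl)
      map_mul' := fun a b => LinearMap.ext fun w => Subtype.ext (by
        show ρ ((a : Γ) * b) (w : W1) = ρ a (ρ b w)
        rw [map_mul]; rfl) }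
  let d := finrank k X
  let d₁ := finrank k W1
  let dX : M →* kˣ := (LinearMap.det.comp (show M →* End k X from ρX)).toHomUnits
  let dW : Γ →* kˣ := (LinearMap.det.comp (show Γ →* End k W1 from ρ)).toHomUnits
  let χ : M →* kˣ := dX ^ d₁ * ((dW.comp M.subtype)⁻¹) ^ d
  have hχ : ∀ m : M, (χ m : k) = LinearMap.det (ρX m) ^ d₁ * LinearMap.det (ρ (m : Γ)⁻¹) ^ d := by
    intro m
    show (((dX m) ^ d₁ * ((dW (m : Γ))⁻¹) ^ d : kˣ) : k) = _
    rw [Units.val_mul, Units.val_pow_eq_pow_val, Units.val_pow_eq_pow_val, ← map_inv dW]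
    rfl
  -- a projection
  obtain ⟨L, hL⟩ := X.subtype.exists_leftInverse_of_injective X.ker_subtype
  have hF : ∀ L : W1 →ₗ[k] X, (fun g => LinearMap.det (L.comp ((ρ g).comp X.subtype))) ∈ D.R := fun L =>
    Central.det_regular fun v l => hρ (v : W1) (l.comp L)
  have hS1 : ∀ s : M, (s : Γ) ∈ S → χ s = 1 := fun s hs => Units.ext (by
    have h1 : ρX s = ψ s • (1 : End k X) := LinearMap.ext fun w => Subtype.ext (Subtype.ext ((w : W1).2 s hs))
    have h2 : ρ (s : Γ)⁻¹ = ψ (s : Γ)⁻¹ • (1 : End k W1) := LinearMap.ext fun w => Subtype.ext (w.2 _ (S.inv_mem hs))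
    rw [hχ, h1, h2, LinearMap.det_smul, LinearMap.det_smul, map_one, map_one, mul_one, mul_one, ← pow_mul, ← pow_mul,
      mul_comm d₁ d, ← mul_pow, Units.val_one]
    rcases Nat.eq_zero_or_pos d with hd | hd
    · rw [show finrank k X = 0 from hd, zero_mul, pow_zero]
    · obtain ⟨w⟩ : Nonempty (Fin d) := ⟨⟨0, hd⟩⟩
      have h3 : ψ (s : Γ) * ψ (s : Γ)⁻¹ = 1 := by
        let y := (Module.finBasis k X w : X)
        have hy : (y : W1) ≠ 0 := fun h => (Module.finBasis k X).ne_zero w (Subtype.ext h)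
        have h4 := (y : W1).2 _ (S.inv_mem hs)
        have h5 := congrArg (σ' (s : Γ)) h4
        rw [map_smul, (y : W1).2 _ hs, smul_smul, ← End.mul_apply, ← map_mul, mul_inv_cancel, map_one,
          End.one_apply] at h5
        by_contra hne
        have h6 : (ψ (s : Γ) * ψ (s : Γ)⁻¹ - 1) • ((y : W1) : W) = 0 := by
          rw [sub_smul, one_smul, mul_comm, ← h5, sub_self]
        exact hy (Subtype.ext ((smul_eq_zero.mp h6).resolve_left (sub_ne_zero.mpr hne)))
      rw [h3, one_pow])
  have hB1 : ∀ b : M, (b : Γ) ∈ B → χ b = 1 := hchar χ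
    ⟨fun g => LinearMap.det (L.comp ((ρ g).comp X.subtype)) ^ d₁ * LinearMap.det (ρ g⁻¹) ^ d,
      D.R.mul_mem (D.R.pow_mem (hF L) _) (D.R.pow_mem (Central.det_regular fun v l => D.inv _ (hρ v l)) _),
      fun b _ => by
        rw [hχ]
        beta_reduce
        refine congrArg (fun f : End k X => LinearMap.det f ^ d₁ * LinearMap.det (ρ (b : Γ)⁻¹) ^ d) ?_
        ext w : 1
        show L (ρ (b : Γ) (w : W1)) = ρX b w
        exact LinearMap.congr_fun hL (ρX b w)⟩ hS1
  suffices hXst : ∀ y ∈ X, ρ g₁ y ∈ X from hXst ⟨x, hxψ⟩ hxU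
  intro y hy
  by_contra hny
  -- a projection killing `g₁ y`
  have hy0 : (⟨y, hy⟩ : X) ≠ 0 := fun h => hny (by
    have hh : y = 0 := congrArg Subtype.val h
    rw [hh, map_zero]
    exact X.zero_mem)
  obtain ⟨Y, hY⟩ := Submodule.exists_isCompl (X ⊔ Submodule.span k {ρ g₁ y})
  have hcompl : IsCompl X (Submodule.span k {ρ g₁ y} ⊔ Y) := by
    refine ⟨?_, ?_⟩
    · rw [Submodule.disjoint_def]
      intro z hzX hz
      obtain ⟨p, hp, q, hq, rfl⟩ := Submodule.mem_sup.mp hz
      obtain ⟨c, rfl⟩ := Submodule.mem_span_singleton.mp hp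
      have hq0 : q = 0 := Submodule.disjoint_def.mp hY.disjoint q
        (by
          have : q = (c • ρ g₁ y + q) - c • ρ g₁ y := (add_sub_cancel_left _ _).symm
          rw [this]
          exact Submodule.sub_mem _ (Submodule.mem_sup_left hzX)
            (Submodule.mem_sup_right (Submodule.smul_mem _ _ (Submodule.mem_span_singleton_self _)))) hq
      subst hq0
      rw [add_zero] at hzX ⊢
      by_cases hc : c = 0
      · rw [hc, zero_smul]
      · exact absurd (by simpa [smul_smul, inv_mul_cancel₀ hc] using X.smul_mem c⁻¹ hzX) hny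
    · rw [codisjoint_iff, ← sup_assoc]
      exact hY.sup_eq_top
  let L₀ : W1 →ₗ[k] X := X.projectionOnto _ hcompl
  let F : D.R := ⟨fun g => LinearMap.det (L₀.comp ((ρ g).comp X.subtype)) ^ d₁ * LinearMap.det (ρ g⁻¹) ^ d,
    D.R.mul_mem (D.R.pow_mem (hF L₀) _) (D.R.pow_mem (Central.det_regular fun v l => D.inv _ (hρ v l)) _)⟩
  have hinv : ∀ g, ∀ b ∈ B, (F : Γ → k) (g * b) = (F : Γ → k) g := by
    intro g b hb
    show LinearMap.det (L₀.comp ((ρ (g * b)).comp X.subtype)) ^ d₁ * LinearMap.det (ρ (g * b)⁻¹) ^ d = _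
    have h1 : L₀.comp ((ρ (g * b)).comp X.subtype) = (L₀.comp ((ρ g).comp X.subtype)).comp (ρX ⟨b, hBM hb⟩) := by
      ext w : 1
      show L₀ (ρ (g * b) (w : W1)) = L₀ (ρ g (ρ b (w : W1)))
      rw [map_mul, End.mul_apply]
    have h2 := hχ ⟨b, hBM hb⟩
    rw [hB1 _ hb, Units.val_one] at h2
    rw [h1, LinearMap.det_comp, mul_inv_rev, map_mul, map_mul, mul_pow, mul_pow]
    show _ = LinearMap.det (L₀.comp ((ρ g).comp X.subtype)) ^ d₁ * LinearMap.det (ρ g⁻¹) ^ d
    linear_combination -(LinearMap.det (L₀.comp ((ρ g).comp X.subtype)) ^ d₁ * LinearMap.det (ρ g⁻¹) ^ d) * h2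
  have h1 := Invariant.const_of_complete D hirr hcomp F hinv g₁
  have hone : (F : Γ → k) 1 = 1 := by
    show LinearMap.det (L₀.comp ((ρ 1).comp X.subtype)) ^ d₁ * LinearMap.det (ρ 1⁻¹) ^ d = 1
    have : L₀.comp ((ρ 1).comp X.subtype) = LinearMap.id := by
      ext w : 1
      show L₀ (ρ 1 (w : W1)) = w
      rw [map_one, End.one_apply]
      exact Submodule.projectionOnto_apply_left hcompl w
    rw [this, LinearMap.det_id, one_pow, inv_one, map_one, map_one, one_pow, one_mul]
  have hd₁ : d₁ ≠ 0 := fun h => by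
    haveI := Module.finrank_zero_iff (R := k) (M := W1) |>.mp h
    exact hy0 (Subsingleton.elim _ _)
  have hzero : LinearMap.det (L₀.comp ((ρ g₁).comp X.subtype)) = 0 := by
    by_contra hne
    have := (LinearMap.isUnit_iff_isUnit_det _).mpr (isUnit_iff_ne_zero.mpr hne)
    refine hy0 ((Module.End.isUnit_iff _).mp this |>.1 ?_)
    rw [map_zero]
    show L₀ (ρ g₁ y) = 0
    exact (Submodule.projectionOnto_apply_eq_zero_iff hcompl).mpr
      (Submodule.mem_sup_left (Submodule.mem_span_singleton_self _))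
  rw [hone] at h1
  have h7 : (F : Γ → k) g₁ = 0 := by
    show LinearMap.det (L₀.comp ((ρ g₁).comp X.subtype)) ^ d₁ * _ = 0
    rw [hzero, zero_pow hd₁, zero_mul]
  rw [h7] at h1
  exact zero_ne_one h1

/-- A closed subgroup with trivial characters on a Borel subgroup containing a central torus is everything. -/
theorem eq_top_of_characters (hirr : D.SIrr Set.univ) (hmul : HasMul D) {B : Subgroup Γ} (hcomp : Complete D B)
    {M : Subgroup Γ} (hMcl : D.IsCl M) (hBM : B ≤ M) {S : Subgroup Γ} (hS : IsTor D S) (hSM : S ≤ M)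
    (hSc : ∀ s ∈ S, ∀ g, g * s = s * g)
    (hchar : ∀ χ : M →* kˣ, (∃ f ∈ D.R, ∀ b : M, (b : Γ) ∈ B → f b = (χ b : k)) →
      (∀ s : M, (s : Γ) ∈ S → χ s = 1) → ∀ b : M, (b : Γ) ∈ B → χ b = 1) : M = ⊤ := by
  obtain ⟨W', _, σ', hσ', U, hU⟩ := Absorb.exists_stab_subspace D hmul M hMcl
  have hall := stable_of_characters hirr hcomp hBM hS hSM hSc hσ' U (fun g hg u hu => by
    have := Submodule.mem_map_of_mem (f := σ' g) hu
    rwa [(hU g).mp hg] at this) hchar
  refine eq_top_iff.mpr fun g _ => (hU g).mpr (le_antisymm ?_ ?_)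
  · rintro _ ⟨u, hu, rfl⟩
    exact hall g u hu
  · intro u hu
    exact ⟨σ' g⁻¹ u, hall _ u hu, by rw [← End.mul_apply, ← map_mul, mul_inv_cancel, map_one, End.one_apply]⟩

end Groth.Agent.H1.Classical.Torus.Weights
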