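import Groth.Agent.H1.Classical.Torus.MaxTorus

/-!
# Images of maximal tori, on points
-/

universe u v v' w w'

namespace Groth.Agent.H1.Classical.Torus.ImageTorus

set_option linter.style.haveILetI false
set_option linter.unusedSectionVars false

open Module Kolchin Open Complete Centraliser

variable {k : Type u} [Field k] {Γ : Type v} [Group Γ] {D : Alg k Γ}
  {W : Type w} [AddCommGroup W] [Module k W] {σ : Representation k Γ W}

/-- Differences of matrix coefficients. -/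
theorem coef_pow {X : Type*} [AddCommGroup X] [Module k X] (τ : Representation k Γ X) (u : Γ) (v : X) (l : Dual k X) (n : ℕ) :
    (((LinearMap.funLeft k k (fun g : Γ => g * u) - 1 : Module.End k (Γ → k))) ^ n) (fun g => l (τ g v)) =
      fun g => l (τ g (((τ u - 1) ^ n) v)) := by
  induction n with
  | zero => rfl
  | succ n ih =>
    rw [pow_succ', Module.End.mul_apply, ih]
    funext g
    show l (τ (g * u) _) - l (τ g _) = l (τ g (((τ u - 1) ^ (n + 1)) v))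
    rw [map_mul, pow_succ', Module.End.mul_apply, Module.End.mul_apply, LinearMap.sub_apply, map_sub, map_sub]
    rfl

/-- Unipotence does not depend on the representation. -/
theorem nilp_of_gen (hσ : GenRep.Gen D σ) {u : Γ} (hu : IsNilpotent (σ u - 1)) {V : Type w'} [AddCommGroup V]
    [Module k V] [FiniteDimensional k V] {ρ : Representation k Γ V} (hρ : EndFn D.R (fun g => ρ g)) :
    IsNilpotent (ρ u - 1) := by
  classical
  let R : Module.End k (Γ → k) := LinearMap.funLeft k k (fun g => g * u)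
  let Δ : Module.End k (Γ → k) := R - 1
  have hΔR : ∀ f, Δ (R f) = R (Δ f) := fun f => funext fun g => rfl
  have hmulrule : ∀ f g : Γ → k, Δ (f * g) = Δ f * R g + f * Δ g := fun f g => funext fun x => by
    show f (x * u) * g (x * u) - f x * g x = (f (x * u) - f x) * g (x * u) + f x * (g (x * u) - g x)
    ring
  have hpowR : ∀ (n : ℕ) f, (Δ ^ n) (R f) = R ((Δ ^ n) f) := by
    intro n
    induction n with
    | zero => intro f; rfl
    | succ n ih => intro f; rw [pow_succ, Module.End.mul_apply, Module.End.mul_apply, hΔR, ih]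
  have hprod : ∀ N a b : ℕ, a + b = N → ∀ f g : Γ → k, (Δ ^ a) f = 0 → (Δ ^ b) g = 0 → (Δ ^ N) (f * g) = 0 := by
    intro N
    induction N with
    | zero =>
      intro a b h f g hf _
      obtain ⟨rfl, rfl⟩ : a = 0 ∧ b = 0 := by omega
      rw [pow_zero, Module.End.one_apply] at hf ⊢
      rw [hf, zero_mul]
    | succ N ih =>
      intro a b h f g hf hg
      rcases Nat.eq_zero_or_pos a with rfl | ha
      · rw [pow_zero, Module.End.one_apply] at hf
        rw [hf, zero_mul, map_zero]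
      rcases Nat.eq_zero_or_pos b with rfl | hb
      · rw [pow_zero, Module.End.one_apply] at hg
        rw [hg, mul_zero, map_zero]
      obtain ⟨a', rfl⟩ := Nat.exists_eq_succ_of_ne_zero ha.ne'
      obtain ⟨b', rfl⟩ := Nat.exists_eq_succ_of_ne_zero hb.ne'
      rw [pow_succ, Module.End.mul_apply, hmulrule, map_add,
        ih a' (b' + 1) (by omega) _ _ (by rw [← Module.End.mul_apply, ← pow_succ]; exact hf) (by rw [hpowR, hg, map_zero]),
        ih (a' + 1) b' (by omega) _ _ hf (by rw [← Module.End.mul_apply, ← pow_succ]; exact hg), add_zero]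
  have hcoef : ∀ (v : W) (l : Dual k W) (n : ℕ), (Δ ^ n) (fun g => l (σ g v)) = fun g => l (σ g (((σ u - 1) ^ n) v)) :=
    fun v l n => coef_pow σ u v l n
  have hloc : ∀ f ∈ D.R, ∃ n, (Δ ^ n) f = 0 := by
    intro f hf
    have hf' := hσ.gen hf
    clear hf
    induction hf' using Algebra.adjoin_induction with
    | mem f hf =>
      obtain ⟨w, l, rfl⟩ := hf
      obtain ⟨N, hN⟩ := hu
      exact ⟨N, by rw [hcoef, hN]; exact funext fun g => by rw [LinearMap.zero_apply, map_zero, map_zero]; rfl⟩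
    | algebraMap c => exact ⟨1, by rw [pow_one]; exact funext fun g => sub_self c⟩
    | add f f' _ _ h h' =>
      obtain ⟨n, hn⟩ := h
      obtain ⟨m, hm⟩ := h'
      refine ⟨n + m, ?_⟩
      rw [map_add, add_comm n, pow_add, Module.End.mul_apply, hn, map_zero, zero_add, ← pow_add, add_comm m,
        pow_add, Module.End.mul_apply, hm, map_zero]
    | mul f f' _ _ h h' =>
      obtain ⟨n, hn⟩ := h
      obtain ⟨m, hm⟩ := h'
      exact ⟨n + m, hprod _ n m rfl f f' hn hm⟩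
  let e := Module.finBasis k V
  have hN : ∀ i j, ∃ n : ℕ, ∀ g, e.coord j (ρ g (((ρ u - 1) ^ n) (e i))) = 0 := by
    intro i j
    obtain ⟨n, hn⟩ := hloc _ (hρ (e i) (e.coord j))
    refine ⟨n, fun g => ?_⟩
    exact congrFun ((coef_pow ρ u (e i) (e.coord j) n).symm.trans hn) g
  choose n hn using hN
  refine ⟨Finset.univ.sup fun p : _ × _ => n p.1 p.2, e.ext fun i => e.ext_elem fun j => ?_⟩
  have hle : n i j ≤ Finset.univ.sup fun p : _ × _ => n p.1 p.2 := Finset.le_sup (f := fun p : _ × _ => n p.1 p.2) (Finset.mem_univ (i, j))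
  rw [LinearMap.zero_apply, map_zero, Finsupp.zero_apply, ← Nat.sub_add_cancel hle, pow_add, Module.End.mul_apply]
  have key : ∀ (d : ℕ) g, e.coord j (ρ g (((ρ u - 1) ^ d) (((ρ u - 1) ^ n i j) (e i)))) = 0 := by
    intro d
    induction d with
    | zero => exact hn i j
    | succ d ih =>
      intro g
      rw [pow_succ', Module.End.mul_apply, LinearMap.sub_apply, Module.End.one_apply, map_sub, map_sub,
        ← Module.End.mul_apply, ← map_mul, ih, ih, sub_zero]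
  have := key (Finset.univ.sup (fun p : _ × _ => n p.1 p.2) - n i j) 1
  rwa [map_one, Module.End.one_apply] at this

variable [IsAlgClosed k] [FiniteDimensional k W]
variable {Γ' : Type v'} [Group Γ'] {D' : Alg k Γ'} {W' : Type w'} [AddCommGroup W'] [Module k W'] [FiniteDimensional k W']
  {σ' : Representation k Γ' W'} (r : Γ →* Γ') (hr : ∀ f ∈ D'.R, (fun g => f (r g)) ∈ D.R)
  (hsep' : ∀ x y : Γ', (∀ f ∈ D'.R, f x = f y) → x = y)

include hr hsep' in
/-- The image of a torus is a torus. -/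
theorem isTor_map {S : Subgroup Γ} (hS : IsTor D S) : IsTor D' (S.map r) := by
  refine ⟨Image.isCl_map r hr hsep' hS.cl hS.irr, Image.sirr_map r hr hS.irr, ?_, ?_⟩
  · rintro _ ⟨a, ha, rfl⟩ _ ⟨b, hb, rfl⟩
    rw [← map_mul, hS.comm a ha b hb, map_mul]
  · rintro f hf h _ ⟨t, ht, rfl⟩
    exact hS.dense (fun g => f (r g)) (hr f hf)
      (fun s hs ⟨m, hm, hsm⟩ => h _ ⟨s, hs, rfl⟩ ⟨m, hm, by rw [← map_pow, hsm, map_one]⟩) t ht

include hr hsep' in
/-- The image of a maximal torus is a maximal torus. -/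
theorem isMax_map (hmul : HasMul D) (hmul' : HasMul D') (hσ : GenRep.Gen D σ) (hσ' : GenRep.Gen D' σ')
    {B : Subgroup Γ} (hB : IsBor D B) {B' : Subgroup Γ'} (hB' : IsBor D' B') (hmaxB : Image.IsMax D' (B.map r))
    {S : Subgroup Γ} (hS : MaxTorus.IsMax D S) : MaxTorus.IsMax D' (S.map r) := by
  classical
  refine ⟨isTor_map r hr hsep' hS.tor, fun S' hS' hle => ?_⟩
  haveI := hB.solv
  obtain ⟨T₁, U, τ, hs⟩ := Split.exists_split (D.restrict B hB.cl)
    (D.sirr_restrict.mpr (by rw [Set.image_univ, Subtype.range_coe_subtype]; exact hB.irr))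
    (σ.comp B.subtype) (GenRep.Gen.restrict D hσ B hB.cl)
  have hT₁ : IsTor D (T₁.map B.subtype) := by
    have hset : ((T₁.map B.subtype : Subgroup Γ) : Set Γ) = Subtype.val '' (T₁ : Set B) := Subgroup.coe_map _ _
    refine ⟨hset ▸ D.isCl_image hs.clT, hset ▸ D.sirr_restrict.mp hs.irrT, ?_, ?_⟩
    · rintro _ ⟨a, ha, rfl⟩ _ ⟨b, hb, rfl⟩
      rw [← map_mul, hs.comm a ha b hb, map_mul]
    · rintro f hf h _ ⟨t, ht, rfl⟩
      refine hs.dense _ ⟨f, hf, rfl⟩ (fun s hsT ⟨m, hm, hsm⟩ => h _ ⟨s, hsT, rfl⟩ ⟨m, hm, ?_⟩) t ht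
      show ((s : Γ)) ^ m = 1
      rw [← SubmonoidClass.coe_pow, hsm, OneMemClass.coe_one]
  -- the maximal torus is conjugate onto the torus of the split
  obtain ⟨x, hx⟩ := hB.abs S (MaxTorus.solvable_tor hS.tor) hS.tor.irr
  obtain ⟨y, -, hy⟩ := MaxTorus.conj_into_borel hmul hσ hB.cl hs (MaxTorus.IsTor.map_conj hS.tor x⁻¹) (by
    rintro _ ⟨s, hsS, rfl⟩
    show x⁻¹ * s * x⁻¹⁻¹ ∈ B
    rw [_root_.inv_inv]
    exact hx s hsS)
  have hST : T₁.map B.subtype ≤ S.map (MulAut.conj (y * x⁻¹)).toMonoidHom := by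
    refine (hS.map_conj (y * x⁻¹)).max _ hT₁ ?_
    rintro _ ⟨s, hsS, rfl⟩
    have := hy _ ⟨s, hsS, rfl⟩
    show y * x⁻¹ * s * (y * x⁻¹)⁻¹ ∈ _
    rwa [show y * x⁻¹ * s * (y * x⁻¹)⁻¹ = y * (x⁻¹ * s * x⁻¹⁻¹) * y⁻¹ by group]
  -- the bigger torus is conjugate into the image of the Borel subgroup
  obtain ⟨c, hc⟩ := Image.exists_eq_conj hB'.irr hB'.solv hB'.abs hmaxB
  obtain ⟨b, hb⟩ := hB'.abs S' (MaxTorus.solvable_tor hS') hS'.irr
  have hS'' := MaxTorus.IsTor.map_conj hS' (c * b⁻¹)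
  have hS''le : S'.map (MulAut.conj (c * b⁻¹)).toMonoidHom ≤ B.map r := by
    rintro _ ⟨s, hs', rfl⟩
    rw [hc, Image.mem_map_conj]
    show c⁻¹ * (c * b⁻¹ * s * (c * b⁻¹)⁻¹) * c ∈ B'
    rw [show c⁻¹ * (c * b⁻¹ * s * (c * b⁻¹)⁻¹) * c = b⁻¹ * s * b by group]
    exact hb s hs'
  -- split of the image
  have hclB : D'.IsCl (B.map r) := hmaxB.cl
  haveI := hmaxB.solv
  obtain ⟨T₃, U₃, τ₃, hs₃⟩ := Split.exists_split (D'.restrict (B.map r) hclB)
    (D'.sirr_restrict.mpr (by rw [Set.image_univ, Subtype.range_coe_subtype]; exact hmaxB.irr))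
    (σ'.comp (B.map r).subtype) (GenRep.Gen.restrict D' hσ' _ hclB)
  have hrT : IsTor D' ((T₁.map B.subtype).map r) := isTor_map r hr hsep' hT₁
  have hrTle : (T₁.map B.subtype).map r ≤ B.map r := Subgroup.map_mono fun _ ⟨t, _, ht⟩ => ht ▸ t.2
  obtain ⟨p, hpB, hp⟩ := MaxTorus.conj_into_borel hmul' hσ' hclB hs₃ hrT hrTle
  obtain ⟨q, hqB, hq⟩ := MaxTorus.conj_into_borel hmul' hσ' hclB hs₃ hS'' hS''le
  have hT₃ : ∀ z ∈ T₃, ∃ a : Γ, a ∈ T₁.map B.subtype ∧ p * r a * p⁻¹ = z := by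
    intro z hz
    obtain ⟨g, hg, hgz⟩ := z.2
    refine ⟨((τ ⟨g, hg⟩ : B) : Γ), ⟨τ ⟨g, hg⟩, hs.tau_mem _, rfl⟩, ?_⟩
    set a : Γ := ((τ ⟨g, hg⟩ : B) : Γ) with ha
    have haT : a ∈ T₁.map B.subtype := ⟨τ ⟨g, hg⟩, hs.tau_mem _, rfl⟩
    have hu : IsNilpotent (σ (a⁻¹ * g) - 1) :=
      (hs.nilp ((τ ⟨g, hg⟩)⁻¹ * ⟨g, hg⟩)).mpr ((hs.tau_ker _).mp (by
        rw [map_mul, map_inv, hs.tau_fix _ (hs.tau_mem _), inv_mul_cancel]))
    have hu' := nilp_of_gen hσ hu (ρ := σ'.comp r) fun w l => hr _ (hσ'.reg w l)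
    have haB : r a ∈ B.map r := hrTle ⟨a, haT, rfl⟩
    let pB : B.map r := ⟨p, hpB⟩
    have hker : τ₃ ((⟨r a, haB⟩ : B.map r)⁻¹ * z) = 1 := (hs₃.tau_ker _).mpr ((hs₃.nilp _).mp (by
      show IsNilpotent (σ' ((r a)⁻¹ * (z : Γ')) - 1)
      rw [← map_inv, ← hgz, ← map_mul]
      exact hu'))
    rw [map_mul, map_inv, hs₃.tau_fix z hz, inv_mul_eq_one] at hker
    obtain ⟨w', hw', hwa⟩ := hp (r a) ⟨a, haT, rfl⟩
    have hwa' : pB * ⟨r a, haB⟩ * pB⁻¹ = w' := Subtype.ext hwa.symm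
    have h2 : τ₃ (pB * ⟨r a, haB⟩ * pB⁻¹) = τ₃ ⟨r a, haB⟩ := by
      rw [map_mul, map_mul, map_inv, hs₃.comm _ (hs₃.tau_mem pB) _ (hs₃.tau_mem _), mul_inv_cancel_right]
    rw [hwa', hs₃.tau_fix w' hw', hker] at h2
    show p * r a * p⁻¹ = z
    rw [← h2]
    exact hwa.symm
  have hfinal : ∀ s ∈ S', ((r (y * x⁻¹))⁻¹ * p⁻¹ * q * (c * b⁻¹)) * s *
      ((r (y * x⁻¹))⁻¹ * p⁻¹ * q * (c * b⁻¹))⁻¹ ∈ S.map r := by
    intro s hs'
    obtain ⟨z, hz, hzs⟩ := hq _ ⟨s, hs', rfl⟩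
    obtain ⟨a, ha, haz⟩ := hT₃ z hz
    obtain ⟨s₀, hs₀, rfl⟩ := hST ha
    refine ⟨s₀, hs₀, ?_⟩
    have hzs' : (z : Γ') = q * (c * b⁻¹ * s * (c * b⁻¹)⁻¹) * q⁻¹ := hzs
    have haz' : p * r (y * x⁻¹ * s₀ * (y * x⁻¹)⁻¹) * p⁻¹ = (z : Γ') := haz
    rw [hzs', map_mul r (y * x⁻¹ * s₀), map_mul r (y * x⁻¹), map_inv] at haz'
    calc r s₀ = (r (y * x⁻¹))⁻¹ * p⁻¹ * (p * (r (y * x⁻¹) * r s₀ * (r (y * x⁻¹))⁻¹) * p⁻¹) * p * r (y * x⁻¹) := by group
      _ = _ := by rw [haz']; group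
  intro s hs'
  have heq := D'.conj_image_eq hS'.cl ((r (y * x⁻¹))⁻¹ * p⁻¹ * q * (c * b⁻¹))
    (by rintro _ ⟨t, ht, rfl⟩; exact hle (hfinal t ht))
  obtain ⟨t, ht, hts⟩ := heq.symm.subset hs'
  exact hts ▸ hfinal t ht

end Groth.Agent.H1.Classical.Torus.ImageTorus
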