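import Groth.Agent.H1.Classical.Torus.Normalizer

/-!
# Maximal tori on points
-/

universe u v w

namespace Groth.Agent.H1.Classical.Torus.MaxTorus

set_option linter.style.haveILetI false
set_option linter.unusedSectionVars false

open Module Kolchin Open Complete Centraliser

variable {k : Type u} [Field k] [IsAlgClosed k] {Γ : Type v} [Group Γ] {D : Alg k Γ}
  {W : Type w} [AddCommGroup W] [Module k W] [FiniteDimensional k W] {σ : Representation k Γ W}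

/-- A maximal torus, on points. -/
structure IsMax (D : Alg k Γ) (T : Subgroup Γ) : Prop where
  tor : IsTor D T
  max : ∀ S : Subgroup Γ, IsTor D S → T ≤ S → S ≤ T

/-- A torus of a connected solvable group is conjugate into any of its tori `T`. -/
theorem conj_into (hσ : GenRep.Gen D σ) {T U : Subgroup Γ} {τ : Γ →* Γ} (hs : Split.IsSplit D σ T U τ) (hmul : HasMul D)
    {S : Subgroup Γ} (hS : IsTor D S) : ∃ u ∈ U, ∀ s ∈ S, u * s * u⁻¹ ∈ T := by
  classical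
  haveI := D.isNoetherianRing
  let E := {F : Subgroup Γ // F ≤ tors hS ∧ Finite F}
  let Φ : E → Set Γ := fun F => {u | u ∈ U ∧ ∀ a ∈ F.1, u * a * u⁻¹ = τ a}
  have hcard : ∀ F : E, ((Nat.card F.1 : ℕ) : k) ≠ 0 := by
    intro F h
    haveI := F.2.2
    obtain ⟨p, hp⟩ := CharP.exists k
    rw [CharP.cast_eq_zero_iff k p] at h
    have hp0 : p ≠ 0 := fun hp0 => Nat.card_pos.ne' (Nat.eq_zero_of_zero_dvd (hp0 ▸ h))
    haveI : Fact p.Prime := ⟨(CharP.char_is_prime_or_zero k p).resolve_right hp0⟩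
    obtain ⟨a, ha⟩ := exists_prime_orderOf_dvd_card' (G := F.1) p h
    obtain ⟨m, hm, ham⟩ := (F.2.1 a.2).2
    have hdvd : p ∣ m := ha ▸ orderOf_dvd_of_pow_eq_one (Subtype.ext (by rw [SubmonoidClass.coe_pow]; exact ham))
    exact hm ((CharP.cast_eq_zero_iff k p m).mpr hdvd)
  have hne : ∀ F : E, (Φ F).Nonempty := by
    intro F
    haveI := F.2.2
    letI : Fintype F.1 := Fintype.ofFinite _
    obtain ⟨u, hu, h⟩ := hs.conj F.1 (by rw [← Nat.card_eq_fintype_card]; exact hcard F) F.1.subtype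
    exact ⟨u, hu, fun a ha => (h ⟨a, ha⟩).symm⟩
  haveI : Nonempty E := ⟨⟨⊥, bot_le, inferInstance⟩⟩
  obtain ⟨J, ⟨F₀, rfl⟩, hmax⟩ := WellFounded.has_min (r := (· > ·)) wellFounded_gt
    (Set.range fun F => D.vI (Φ F)) (Set.range_nonempty _)
  have hΦcl : ∀ F : E, D.IsCl (Φ F) := by
    intro F g hg
    refine ⟨hs.clU (D.zero_anti (D.vI_anti fun x hx => hx.1) hg), fun a ha => ?_⟩
    obtain ⟨u₀, hu₀⟩ := hne F
    have key : ∀ f ∈ D.R, f (g * a * g⁻¹) = f (τ a) := by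
      intro f hf
      have h1 : (fun x => f (x * a * x⁻¹)) ∈ D.R := by
        simpa using D.inv _ (conj_fn_mem hmul a hf)
      have h2 := hg ⟨_, D.R.sub_mem h1 (D.R.algebraMap_mem (f (τ a)))⟩ fun x hx => by
        show f (x * a * x⁻¹) - f (τ a) = 0
        rw [hx.2 a ha, sub_self]
      exact sub_eq_zero.mp h2
    exact Union.sep D hσ _ _ key
  obtain ⟨u₁, hu₁⟩ := hne F₀
  refine ⟨u₁, hu₁.1, ?_⟩
  have htor : ∀ a ∈ tors hS, u₁ * a * u₁⁻¹ = τ a := by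
    intro a ha
    obtain ⟨m, hm, ham⟩ := ha.2
    have hfa : Finite (Subgroup.zpowers a) := Nat.finite_of_card_ne_zero (by
      rw [Nat.card_zpowers]
      exact (orderOf_pos_iff.mpr (isOfFinOrder_iff_pow_eq_one.mpr ⟨m, Nat.pos_of_ne_zero fun h => hm (by
        rw [h, Nat.cast_zero]), ham⟩)).ne')
    haveI := F₀.2.2
    let mp : F₀.1 × Subgroup.zpowers a →* Γ :=
      { toFun := fun p => (p.1 : Γ) * p.2
        map_one' := by simp
        map_mul' := fun p q => by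
          have hpc : Commute (q.1 : Γ) (p.2 : Γ) := hS.comm _ (F₀.2.1 q.1.2).1 _ ((Subgroup.zpowers_le.mpr ha) p.2.2).1
          simp only [Prod.fst_mul, Prod.snd_mul, Subgroup.coe_mul]
          rw [mul_assoc (p.1 : Γ), ← mul_assoc (q.1 : Γ), hpc.eq]
          group }
    haveI := hfa
    let F : E := ⟨mp.range, by
      rintro _ ⟨p, rfl⟩
      exact (tors hS).mul_mem (F₀.2.1 p.1.2) ((Subgroup.zpowers_le.mpr ha) p.2.2), Finite.of_surjective mp.rangeRestrict mp.rangeRestrict_surjective⟩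
    have hsub : Φ F ⊆ Φ F₀ := fun x hx => ⟨hx.1, fun b hb => hx.2 b ⟨(⟨b, hb⟩, 1), by simp [mp]⟩⟩
    have heq : D.vI (Φ F₀) = D.vI (Φ F) := by
      by_contra hne'
      exact hmax _ ⟨F, rfl⟩ (lt_of_le_of_ne (D.vI_anti hsub) hne')
    have hu₁F : u₁ ∈ Φ F := hΦcl F (heq ▸ D.subset_zero_vI _ hu₁)
    exact hu₁F.2 a ⟨(1, ⟨a, Subgroup.mem_zpowers a⟩), by simp [mp]⟩
  intro s hsS
  refine hs.clT fun f hf => ?_
  refine hS.dense (fun x => (f : Γ → k) (u₁ * x * u₁⁻¹)) ?_ (fun a ha hat => ?_) s hsS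
  · exact (funext fun x => D.cTrans_apply u₁ f x : (D.cTrans u₁ f : Γ → k) = _) ▸ (D.cTrans u₁ f).2
  · show (f : Γ → k) (u₁ * a * u₁⁻¹) = 0
    rw [htor a ⟨ha, hat⟩]
    exact hf _ (hs.tau_mem a)

theorem mem_map {B : Subgroup Γ} {a : Γ} {x : Γ} :
    x ∈ B.map (MulAut.conj a).toMonoidHom ↔ a⁻¹ * x * a ∈ B := Image.mem_map_conj a B x

/-- Conjugates of tori are tori. -/
theorem IsTor.map_conj {S : Subgroup Γ} (hS : IsTor D S) (a : Γ) :
    IsTor D (S.map (MulAut.conj a).toMonoidHom) := by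
  refine ⟨?_, Image.sirr_conj hS.irr a, ?_, ?_⟩
  · have : ((S.map (MulAut.conj a).toMonoidHom : Subgroup Γ) : Set Γ) = (fun g => a⁻¹ * g * a⁻¹⁻¹) ⁻¹' S := by
      ext x
      rw [SetLike.mem_coe, mem_map, Set.mem_preimage, _root_.inv_inv]
      rfl
    rw [this]
    exact Alg.IsCl.preimage D hS.cl _ _ (D.cTrans_apply a⁻¹)
  · rintro _ ⟨x, hx, rfl⟩ _ ⟨y, hy, rfl⟩
    rw [← map_mul, hS.comm x hx y hy, map_mul]
  · rintro f hf h _ ⟨x, hx, rfl⟩
    refine hS.dense (fun g => f (a * g * a⁻¹)) ((funext fun g => D.cTrans_apply a ⟨f, hf⟩ g :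
      (D.cTrans a ⟨f, hf⟩ : Γ → k) = _) ▸ (D.cTrans a ⟨f, hf⟩).2)
      (fun t ht ⟨m, hm, htm⟩ => h _ ⟨t, ht, rfl⟩ ⟨m, hm, by rw [conj_pow, htm, mul_one, mul_inv_cancel]⟩) x hx

theorem solvable_tor {S : Subgroup Γ} (hS : IsTor D S) : Group.IsSolvable S := isSolvable_of_comm hS.comm

/-- Restriction of a torus. -/
theorem IsTor.restrict {B : Subgroup Γ} (hcl : D.IsCl B) {S : Subgroup Γ} (hS : IsTor D S) (h : S ≤ B) :
    IsTor (D.restrict B hcl) (S.subgroupOf B) := by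
  refine ⟨fun g hg => hS.cl fun f hf => hg ⟨_, f, f.2, rfl⟩ fun c hc => hf _ hc, ?_, fun a ha b hb =>
    Subtype.ext (hS.comm _ ha _ hb), ?_⟩
  · refine D.sirr_restrict.mpr ?_
    rw [show Subtype.val '' ((S.subgroupOf B : Subgroup B) : Set B) = (S : Set Γ) from Set.ext fun g =>
      ⟨fun ⟨p, hp, hpg⟩ => hpg ▸ hp, fun hg => ⟨⟨g, h hg⟩, hg, rfl⟩⟩]
    exact hS.irr
  · rintro _ ⟨f, hf, rfl⟩ hvan t ht
    exact hS.dense f hf (fun s hs ⟨m, hm, hsm⟩ => hvan ⟨s, h hs⟩ hs ⟨m, hm, Subtype.ext (by simpa using hsm)⟩) _ ht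

/-- A torus of a Borel subgroup is, up to conjugation in it, inside the given one. -/
theorem conj_into_borel (hmul : HasMul D) (hσ : GenRep.Gen D σ) {B : Subgroup Γ} (hcl : D.IsCl B) {T U : Subgroup B}
    {τ : B →* B} (hs : Split.IsSplit (D.restrict B hcl) (σ.comp B.subtype) T U τ) {S : Subgroup Γ} (hS : IsTor D S)
    (hSB : S ≤ B) : ∃ u ∈ B, ∀ s ∈ S, u * s * u⁻¹ ∈ T.map B.subtype := by
  obtain ⟨u, -, hu⟩ := conj_into (GenRep.Gen.restrict D hσ B hcl) hs (hasMul_restrict D hmul B hcl)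
    (IsTor.restrict hcl hS hSB)
  exact ⟨u, u.2, fun s hsS => ⟨_, hu ⟨s, hSB hsS⟩ hsS, rfl⟩⟩

/-- Maximal tori exist in a Borel subgroup and all maximal tori are conjugate to one. -/
theorem exists_max (hmul : HasMul D) (hσ : GenRep.Gen D σ) {B : Subgroup Γ} (hB : IsBor D B) :
    ∃ T : Subgroup Γ, T ≤ B ∧ IsMax D T ∧ (∀ S, IsTor D S → ∃ a, ∀ s ∈ S, a * s * a⁻¹ ∈ T) ∧
      ∀ S, IsTor D S → S ≤ B → ∃ a ∈ B, ∀ s ∈ S, a * s * a⁻¹ ∈ T := by
  haveI := hB.solv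
  obtain ⟨T, U, τ, hs⟩ := Split.exists_split (D.restrict B hB.cl)
    (D.sirr_restrict.mpr (by rw [Set.image_univ, Subtype.range_coe_subtype]; exact hB.irr))
    (σ.comp B.subtype) (GenRep.Gen.restrict D hσ B hB.cl)
  have hset : ((T.map B.subtype : Subgroup Γ) : Set Γ) = Subtype.val '' (T : Set B) := Subgroup.coe_map _ _
  have hT : IsTor D (T.map B.subtype) := by
    refine ⟨hset ▸ D.isCl_image hs.clT, hset ▸ D.sirr_restrict.mp hs.irrT, ?_, ?_⟩
    · rintro _ ⟨a, ha, rfl⟩ _ ⟨b, hb, rfl⟩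
      rw [← map_mul, hs.comm a ha b hb, map_mul]
    · rintro f hf h _ ⟨t, ht, rfl⟩
      refine hs.dense _ ⟨f, hf, rfl⟩ (fun s hsT ⟨m, hm, hsm⟩ => h _ ⟨s, hsT, rfl⟩ ⟨m, hm, ?_⟩) t ht
      show ((s : Γ)) ^ m = 1
      rw [← SubmonoidClass.coe_pow, hsm, OneMemClass.coe_one]
  have hinto : ∀ S, IsTor D S → ∃ a, ∀ s ∈ S, a * s * a⁻¹ ∈ T.map B.subtype := by
    intro S hS
    obtain ⟨x, hx⟩ := hB.abs S (solvable_tor hS) hS.irr
    obtain ⟨u, -, hu⟩ := conj_into_borel hmul hσ hB.cl hs (IsTor.map_conj hS x⁻¹) fun y hy => by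
      obtain ⟨s, hsS, rfl⟩ := hy
      show x⁻¹ * s * x⁻¹⁻¹ ∈ B
      rw [_root_.inv_inv]
      exact hx s hsS
    refine ⟨u * x⁻¹, fun s hsS => ?_⟩
    have := hu _ ⟨s, hsS, rfl⟩
    rwa [show u * x⁻¹ * s * (u * x⁻¹)⁻¹ = u * (x⁻¹ * s * x⁻¹⁻¹) * u⁻¹ by group]
  refine ⟨_, fun g hg => by obtain ⟨b, -, rfl⟩ := hg; exact b.2, ⟨hT, fun S hS hle => ?_⟩, hinto,
    fun S hS hSB => conj_into_borel hmul hσ hB.cl hs hS hSB⟩
  obtain ⟨a, ha⟩ := hinto S hS
  have heq := D.conj_image_eq hS.cl a (by rintro _ ⟨s, hsS, rfl⟩; exact hle (ha s hsS))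
  intro s hsS
  obtain ⟨s', hs', h⟩ := heq.symm.subset hsS
  exact h ▸ ha s' hs'

/-- A torus containing a conjugate of a maximal torus. -/
theorem IsMax.map_conj {T : Subgroup Γ} (hT : IsMax D T) (a : Γ) : IsMax D (T.map (MulAut.conj a).toMonoidHom) := by
  refine ⟨IsTor.map_conj hT.tor a, fun S hS hle s hsS => mem_map.mpr ?_⟩
  refine hT.max _ (IsTor.map_conj hS a⁻¹) (fun t ht => mem_map.mpr ?_) (mem_map.mpr (by
    rwa [show a⁻¹⁻¹ * (a⁻¹ * s * a) * a⁻¹ = s by group]))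
  rw [_root_.inv_inv]
  exact hle ⟨t, ht, rfl⟩

/-- Maximal tori are conjugate. -/
theorem conj (hmul : HasMul D) (hσ : GenRep.Gen D σ) {B : Subgroup Γ} (hB : IsBor D B) {T T' : Subgroup Γ}
    (hT : IsMax D T) (hT' : IsMax D T') : ∃ g, T.map (MulAut.conj g).toMonoidHom = T' := by
  obtain ⟨T₀, -, hT₀, hinto, -⟩ := exists_max hmul hσ hB
  have key : ∀ T, IsMax D T → ∃ g, T.map (MulAut.conj g).toMonoidHom = T₀ := fun T hT => by
    obtain ⟨a, ha⟩ := hinto T hT.tor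
    have h1 : T.map (MulAut.conj a).toMonoidHom ≤ T₀ := by rintro _ ⟨t, ht, rfl⟩; exact ha t ht
    exact ⟨a, le_antisymm h1 ((hT.map_conj a).max T₀ hT₀.tor h1)⟩
  obtain ⟨a, ha⟩ := key T hT
  obtain ⟨a', ha'⟩ := key T' hT'
  refine ⟨a'⁻¹ * a, SetLike.ext fun x => ?_⟩
  rw [mem_map, show (a'⁻¹ * a)⁻¹ * x * (a'⁻¹ * a) = a⁻¹ * (a' * x * a'⁻¹) * a by group, ← mem_map, ha, ← ha', mem_map,
    show a'⁻¹ * (a' * x * a'⁻¹) * a' = x by group]

/-- Maximal tori of a Borel subgroup are conjugate inside it. -/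
theorem conj_borel (hmul : HasMul D) (hσ : GenRep.Gen D σ) {B : Subgroup Γ} (hB : IsBor D B) {T T' : Subgroup Γ}
    (hT : IsMax D T) (hT' : IsMax D T') (hTB : T ≤ B) (hTB' : T' ≤ B) :
    ∃ b ∈ B, T.map (MulAut.conj b).toMonoidHom = T' := by
  obtain ⟨T₀, -, hT₀, -, hinto⟩ := exists_max hmul hσ hB
  have key : ∀ T, IsMax D T → T ≤ B → ∃ g ∈ B, T.map (MulAut.conj g).toMonoidHom = T₀ := fun T hT hTB => by
    obtain ⟨a, haB, ha⟩ := hinto T hT.tor hTB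
    have h1 : T.map (MulAut.conj a).toMonoidHom ≤ T₀ := by rintro _ ⟨t, ht, rfl⟩; exact ha t ht
    exact ⟨a, haB, le_antisymm h1 ((hT.map_conj a).max T₀ hT₀.tor h1)⟩
  obtain ⟨a, haB, ha⟩ := key T hT hTB
  obtain ⟨a', haB', ha'⟩ := key T' hT' hTB'
  refine ⟨a'⁻¹ * a, B.mul_mem (B.inv_mem haB') haB, SetLike.ext fun x => ?_⟩
  rw [mem_map, show (a'⁻¹ * a)⁻¹ * x * (a'⁻¹ * a) = a⁻¹ * (a' * x * a'⁻¹) * a by group, ← mem_map, ha, ← ha', mem_map,
    show a'⁻¹ * (a' * x * a'⁻¹) * a' = x by group]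

/-- A split of a connected solvable group with prescribed maximal torus: an element normalising the torus centralises it. -/
theorem centralizes_of_mem (hσ : GenRep.Gen D σ) (hmul : HasMul D) {B : Subgroup Γ} (hB : IsBor D B) {T : Subgroup Γ}
    (hT : IsMax D T) (hTB : T ≤ B) {n : Γ} (hnB : n ∈ B) (hn : ∀ t ∈ T, n * t * n⁻¹ ∈ T) :
    ∀ t ∈ T, n * t = t * n := by
  haveI := hB.solv
  obtain ⟨T₁, U, τ, hs⟩ := Split.exists_split (D.restrict B hB.cl)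
    (D.sirr_restrict.mpr (by rw [Set.image_univ, Subtype.range_coe_subtype]; exact hB.irr))
    (σ.comp B.subtype) (GenRep.Gen.restrict D hσ B hB.cl)
  obtain ⟨w, hwB, hw⟩ := conj_into_borel hmul hσ hB.cl hs hT.tor hTB
  intro t ht
  obtain ⟨a, ha, haw⟩ := hw t ht
  obtain ⟨a', ha', haw'⟩ := hw _ (hn t ht)
  have h1 : a' = (⟨w * n * w⁻¹, B.mul_mem (B.mul_mem hwB hnB) (B.inv_mem hwB)⟩ : B) * a *
      (⟨w * n * w⁻¹, B.mul_mem (B.mul_mem hwB hnB) (B.inv_mem hwB)⟩ : B)⁻¹ := Subtype.ext (by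
    show (a' : Γ) = w * n * w⁻¹ * (a : Γ) * (w * n * w⁻¹)⁻¹
    change (a : Γ) = _ at haw
    change (a' : Γ) = _ at haw'
    rw [haw, haw']
    group)
  have h2 := congrArg τ h1
  rw [map_mul, map_mul, map_inv, hs.tau_fix a' ha', hs.tau_fix a ha, hs.comm _ (hs.tau_mem _) _ ha,
    mul_inv_cancel_right] at h2
  have h4 : w * (n * t * n⁻¹) * w⁻¹ = w * t * w⁻¹ := by
    have := congrArg Subtype.val h2
    change (a : Γ) = _ at haw
    change (a' : Γ) = _ at haw'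
    rw [← haw, ← haw']
    exact this
  have h5 : n * t * n⁻¹ = t := mul_left_cancel (mul_right_cancel h4)
  calc n * t = n * t * n⁻¹ * n := by group
    _ = t * n := by rw [h5]

/-- The centraliser of a maximal torus lies in every Borel subgroup containing the torus. -/
theorem centralizer_le (hirr : D.SIrr Set.univ) (hmul : HasMul D) (hσ : GenRep.Gen D σ) {B : Subgroup Γ}
    (hB : IsBor D B) {T : Subgroup Γ} (hT : IsMax D T) (hTB : T ≤ B) : Subgroup.centralizer (T : Set Γ) ≤ B := by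
  classical
  obtain ⟨hcl, hCirr, hBC⟩ := SubTorus.isBor_centralizer hirr hmul hσ hB hT.tor hTB
  set C := Subgroup.centralizer (T : Set Γ)
  let DC := D.restrict C hcl
  have hC' : DC.SIrr Set.univ :=
    D.sirr_restrict.mpr (by rw [Set.image_univ, Subtype.range_coe_subtype]; exact hCirr)
  have hσC := GenRep.Gen.restrict D hσ C hcl
  have hTC : T ≤ C := fun t ht => Subgroup.mem_centralizer_iff.mpr fun s hsT => hT.tor.comm s hsT t ht
  haveI := hBC.solv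
  haveI := hB.solv
  obtain ⟨T₁, U, τ, hs⟩ := Split.exists_split (D.restrict B hB.cl)
    (D.sirr_restrict.mpr (by rw [Set.image_univ, Subtype.range_coe_subtype]; exact hB.irr))
    (σ.comp B.subtype) (GenRep.Gen.restrict D hσ B hB.cl)
  obtain ⟨w, hwB, hw⟩ := conj_into_borel hmul hσ hB.cl hs hT.tor hTB
  have hTtor : IsTor D (T₁.map B.subtype) := by
    have hset : ((T₁.map B.subtype : Subgroup Γ) : Set Γ) = Subtype.val '' (T₁ : Set B) := Subgroup.coe_map _ _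
    refine ⟨hset ▸ D.isCl_image hs.clT, hset ▸ D.sirr_restrict.mp hs.irrT, ?_, ?_⟩
    · rintro _ ⟨a, ha, rfl⟩ _ ⟨b, hb, rfl⟩
      rw [← map_mul, hs.comm a ha b hb, map_mul]
    · rintro f hf h _ ⟨t, ht, rfl⟩
      refine hs.dense _ ⟨f, hf, rfl⟩ (fun s hsT ⟨m, hm, hsm⟩ => h _ ⟨s, hsT, rfl⟩ ⟨m, hm, ?_⟩) t ht
      show ((s : Γ)) ^ m = 1
      rw [← SubmonoidClass.coe_pow, hsm, OneMemClass.coe_one]
  have hTw : T₁.map B.subtype ≤ T.map (MulAut.conj w).toMonoidHom :=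
    (hT.map_conj w).max _ hTtor (by rintro _ ⟨t, ht, rfl⟩; exact hw t ht)
  haveI : Group.IsSolvable C := Central.isSolvable DC hC' hσC hBC.cl hBC.irr hBC.comp
    (T := T.subgroupOf C) (fun t ht => hTB ht)
    (fun t ht g => Subtype.ext (Subgroup.mem_centralizer_iff.mp g.2 _ ht))
    (fun b hb => by
      let b' : B := ⟨w * (b : Γ) * w⁻¹, B.mul_mem (B.mul_mem hwB hb) (B.inv_mem hwB)⟩
      obtain ⟨t, ht, htw⟩ := hTw ⟨τ b', hs.tau_mem b', rfl⟩
      have htw' : w * t * w⁻¹ = ((τ b' : B) : Γ) := htw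
      refine ⟨⟨t, hTC ht⟩, ht, ?_⟩
      have hnil := (hs.nilp ((τ b')⁻¹ * b')).mpr ((hs.tau_ker _).mp (by
        rw [map_mul, map_inv, hs.tau_fix _ (hs.tau_mem b'), inv_mul_cancel]))
      obtain ⟨N, hN⟩ := hnil
      refine ⟨N, ?_⟩
      have he : (σ.comp C.subtype) ((⟨t, hTC ht⟩ : C)⁻¹ * b) - 1 =
          σ w⁻¹ * ((σ.comp B.subtype) ((τ b')⁻¹ * b') - 1) * σ w := by
        show σ (t⁻¹ * (b : Γ)) - 1 = σ w⁻¹ * (σ (((τ b' : B) : Γ)⁻¹ * (w * (b : Γ) * w⁻¹)) - 1) * σ w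
        rw [mul_sub, sub_mul, mul_one, ← map_mul, ← map_mul, ← map_mul, inv_mul_cancel, map_one, ← htw']
        congr 2
        group
      rw [he]
      have hconj : ∀ (X : End k W) (m : ℕ), (σ w⁻¹ * X * σ w) ^ m = σ w⁻¹ * X ^ m * σ w := by
        intro X m
        induction m with
        | zero => rw [pow_zero, pow_zero, mul_one, ← map_mul, inv_mul_cancel, map_one]
        | succ m ih =>
          have hw1 : σ w * σ w⁻¹ = 1 := by rw [← map_mul, mul_inv_cancel, map_one]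
          rw [pow_succ, ih, pow_succ, show σ w⁻¹ * X ^ m * σ w * (σ w⁻¹ * X * σ w) =
            σ w⁻¹ * X ^ m * (σ w * σ w⁻¹) * X * σ w by simp only [mul_assoc], hw1, mul_one, mul_assoc (σ w⁻¹)]
      rw [hconj, hN, mul_zero, zero_mul])
  -- the solvable group `C` is conjugate into its Borel subgroup
  haveI : Group.IsSolvable (⊤ : Subgroup C) := inferInstance
  obtain ⟨a, ha⟩ := hBC.abs ⊤ inferInstance (by rw [Subgroup.coe_top]; exact hC')
  intro c hc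
  have := ha (a * ⟨c, hc⟩ * a⁻¹) (Subgroup.mem_top _)
  rwa [show a⁻¹ * (a * (⟨c, hc⟩ : C) * a⁻¹) * a = ⟨c, hc⟩ by group] at this

end Groth.Agent.H1.Classical.Torus.MaxTorus
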