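import Groth.Agent.H1.Classical.Absorb

/-!
# Absorption inside an invariant closed set
-/

universe u v w

namespace Groth.Agent.H1.Classical.Absorb

set_option linter.style.haveILetI false
set_option linter.unusedSectionVars false

open Module Kolchin Open Complete

variable {k : Type u} [Field k] [IsAlgClosed k] {Γ : Type v} [Group Γ] (D : Alg k Γ)


/-- A solvable group stabilising a closed invariant set fixes a coset in it. -/
theorem exists_conj_le_in (hmul : HasMul D) (P : Subgroup Γ) (hP : D.IsCl P) (hc : Complete D P) (S : Subgroup Γ)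
    (hScl : D.IsCl S) (hS : D.SIrr S) [Group.IsSolvable S] {Φ : Set Γ}
    (hΦ : D.IsCl Φ) (hΦP : ∀ x ∈ Φ, ∀ p ∈ P, x * p ∈ Φ) (hΦS : ∀ s ∈ S, ∀ x ∈ Φ, s * x ∈ Φ) {g₀ : Γ} (hg₀ : g₀ ∈ Φ) :
    ∃ g ∈ Φ, ∀ s ∈ S, g⁻¹ * s * g ∈ P := by
  classical
  obtain ⟨W, _, σ, hσ, U, hU⟩ := exists_stab_subspace D hmul P hP
  let 𝒮 : Set (Submodule k W) := {F | (∀ s ∈ S, ∀ w ∈ F, σ s w ∈ F) ∧ ∃ g ∈ Φ, F ≤ U.map (σ g)}
  obtain ⟨F, ⟨hFS, g, hgΦ, hFg⟩, hmax⟩ := WellFounded.has_min (r := (· > ·)) wellFounded_gt 𝒮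
    ⟨⊥, fun s _ w hw => by rw [(Submodule.mem_bot k).mp hw, map_zero]; exact Submodule.zero_mem _, g₀, hg₀, bot_le⟩
  have hmem : ∀ (h : Γ) (x : W), x ∈ U.map (σ h) ↔ σ h⁻¹ x ∈ U := by
    intro h x
    constructor
    · rintro ⟨u, hu, rfl⟩
      rwa [Invariant.rho_inv_apply]
    · intro hx
      exact ⟨_, hx, by rw [← End.mul_apply, ← map_mul, mul_inv_cancel, map_one, End.one_apply]⟩
  by_cases heq : F = U.map (σ g)
  · refine ⟨g, hgΦ, fun s hs => (hU _).mpr (le_antisymm ?_ ?_)⟩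
    · rintro _ ⟨u, hu, rfl⟩
      obtain ⟨u', hu', h'⟩ := heq ▸ hFS s hs (σ g u) (heq ▸ ⟨u, hu, rfl⟩)
      rw [map_mul, map_mul, End.mul_apply, End.mul_apply, ← h', Invariant.rho_inv_apply]
      exact hu'
    · intro u hu
      obtain ⟨u', hu', h'⟩ := heq ▸ hFS s⁻¹ (S.inv_mem hs) (σ g u) (heq ▸ ⟨u, hu, rfl⟩)
      refine ⟨u', hu', ?_⟩
      rw [map_mul, map_mul, End.mul_apply, End.mul_apply, h', ← End.mul_apply (σ s), ← map_mul σ s, mul_inv_cancel,
        map_one, End.one_apply, Invariant.rho_inv_apply]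
  exfalso
  obtain ⟨w, hw, hwF⟩ := SetLike.exists_of_lt (lt_of_le_of_ne hFg heq)
  obtain ⟨sec, hsec⟩ := F.mkQ.exists_rightInverse_of_surjective F.range_mkQ
  have hsecv : ∀ x, F.mkQ (sec x) = x := LinearMap.congr_fun hsec
  let b := Module.finBasis k (W ⧸ F)
  let DS := D.restrict S hScl
  let τ : Representation k S (W ⧸ F) :=
    { toFun := fun s => F.mapQ F (σ (s : Γ)) fun x hx => hFS s s.2 x hx
      map_one' := Submodule.linearMap_qext _ (LinearMap.ext fun x => by simp)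
      map_mul' := fun s t => Submodule.linearMap_qext _ (LinearMap.ext fun x => by simp) }
  have hτ : EndFn DS.R (fun s => τ s) := by
    intro y l
    obtain ⟨x, rfl⟩ := Submodule.mkQ_surjective F y
    exact ⟨_, hσ x (l.comp F.mkQ), rfl⟩
  let Cs : Set (Γ × (Fin (finrank k (W ⧸ F)) → k)) :=
    {q | (q.1 ∈ Φ ∧ F ≤ U.map (σ q.1)) ∧ sec (b.equivFun.symm q.2) ∈ U.map (σ q.1)}
  have hUl : ∀ x : W, x ∈ U ↔ ∀ l : Dual k W, l ∈ U.dualAnnihilator → l x = 0 := by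
    intro x
    refine ⟨fun hx l hl => (Submodule.mem_dualAnnihilator l).mp hl x hx, fun h => ?_⟩
    by_contra hx
    obtain ⟨l, hl, hlU⟩ := Submodule.exists_dual_map_eq_bot_of_notMem hx inferInstance
    exact hl (h l ((Submodule.mem_dualAnnihilator l).mpr fun u hu => (Submodule.mem_bot k).mp (hlU ▸ ⟨u, hu, rfl⟩)))
  have hCs : PairCl D Cs := by
    rintro ⟨h, y⟩ hq
    constructor
    · refine ⟨hΦ fun f hf => ?_, ?_⟩
      · have h0 := hq (MvPolynomial.C f) fun c hc => by rw [pev_C]; exact hf _ hc.1.1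
        rwa [pev_C] at h0
      intro x hx
      rw [hmem, hUl]
      intro l hl
      have h0 := hq (MvPolynomial.C ⟨_, D.inv _ (hσ x l)⟩) fun c hc => by
        rw [pev_C]
        exact (hUl _).mp ((hmem _ _).mp (hc.1.2 hx)) l hl
      rwa [pev_C] at h0
    · rw [hmem, hUl]
      intro l hl
      have key : ∀ c : Γ × (Fin (finrank k (W ⧸ F)) → k),
          pev D c.1 c.2 (∑ i, MvPolynomial.X i * MvPolynomial.C ⟨_, D.inv _ (hσ (sec (b i)) l)⟩) =
            l (σ c.1⁻¹ (sec (b.equivFun.symm c.2))) := by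
        intro c
        simp only [map_sum, map_mul, pev_X, pev_C, Basis.equivFun_symm_apply, map_smul, smul_eq_mul]
      rw [← key (h, y)]
      exact hq _ fun c hc => (key c).trans ((hUl _).mp ((hmem _ _).mp hc.2) l hl)
  have hinv : ∀ h y, (h, y) ∈ Cs → ∀ p ∈ P, (h * p, y) ∈ Cs := by
    intro h y hq p hp
    have : U.map (σ (h * p)) = U.map (σ h) := by
      rw [map_mul, End.mul_eq_comp, Submodule.map_comp, (hU p).mp hp]
    show (h * p ∈ Φ ∧ F ≤ U.map (σ (h * p))) ∧ sec _ ∈ U.map (σ (h * p))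
    rw [this]
    exact ⟨⟨hΦP _ hq.1.1 p hp, hq.1.2⟩, hq.2⟩
  have hY := hc _ Cs hCs hinv
  let Z : Set (W ⧸ F) := {x | ∃ h, (h ∈ Φ ∧ F ≤ U.map (σ h)) ∧ sec x ∈ U.map (σ h)}
  have hYZ : ∀ x, b.equivFun x ∈ {y | ∃ h, (h, y) ∈ Cs} ↔ x ∈ Z := fun x => by
    refine exists_congr fun h => ?_
    show (_ ∧ F ≤ _) ∧ sec (b.equivFun.symm (b.equivFun x)) ∈ _ ↔ _
    rw [LinearEquiv.symm_apply_apply]
  have hcone : Fixed.IsCone b τ Z := by
    refine ⟨fun x hx => (hYZ x).mp (hY _ fun p hp => hx p fun z hz => hp _ ((hYZ z).mpr hz)),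
      fun c x ⟨h, h1, h2⟩ => ⟨h, h1, by rw [map_smul]; exact Submodule.smul_mem _ c h2⟩, ?_⟩
    rintro s x ⟨h, ⟨h1', h1⟩, h2⟩
    refine ⟨(s : Γ) * h, ?_⟩
    have h3 : U.map (σ ((s : Γ) * h)) = (U.map (σ h)).map (σ (s : Γ)) := by
      rw [map_mul, End.mul_eq_comp, Submodule.map_comp]
    have h4 : F ≤ U.map (σ ((s : Γ) * h)) := by
      rw [h3]
      intro y hy
      exact ⟨σ (s : Γ)⁻¹ y, h1 (hFS _ (S.inv_mem s.2) y hy), by
        rw [← End.mul_apply, ← map_mul, mul_inv_cancel, map_one, End.one_apply]⟩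
    refine ⟨⟨hΦS _ s.2 _ h1', h4⟩, ?_⟩
    have h5 : sec (τ s x) - σ (s : Γ) (sec x) ∈ F := by
      rw [← Submodule.Quotient.eq]
      show F.mkQ (sec _) = F.mkQ _
      rw [hsecv]
      conv_lhs => rw [← hsecv x]
      rfl
    have h6 := Submodule.add_mem _ (h4 h5) (h3 ▸ Submodule.mem_map_of_mem h2 :
      σ (s : Γ) (sec x) ∈ U.map (σ ((s : Γ) * h)))
    rwa [sub_add_cancel] at h6
  haveI : Group.IsSolvable (⊤ : Subgroup S) :=
    Group.isSolvable_of_isSolvable_injective (f := (⊤ : Subgroup S).subtype) (Subgroup.subtype_injective _)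
  obtain ⟨x, ⟨h, ⟨h1', h1⟩, h2⟩, hx0, hxS⟩ := Fixed.exists_fixed b τ hτ hcone
    ⟨F.mkQ w, ⟨g, ⟨hgΦ, hFg⟩, by
      have h5 : sec (F.mkQ w) - w ∈ F := (Submodule.Quotient.eq F).mp (hsecv _)
      have h6 := Submodule.add_mem _ (hFg h5) hw
      rwa [sub_add_cancel] at h6⟩, fun h0 => hwF ((Submodule.Quotient.mk_eq_zero F).mp h0)⟩ ⊤
    (by
      rw [Subgroup.coe_top]
      exact D.sirr_restrict.mpr (by rw [Set.image_univ, Subtype.range_coe_subtype]; exact hS))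
  refine hmax ((Submodule.span k {x}).comap F.mkQ) ⟨?_, h, h1', ?_⟩ ?_
  · intro s hs y hy
    obtain ⟨c, hc⟩ := Submodule.mem_span_singleton.mp hy
    obtain ⟨e, he⟩ := hxS ⟨s, hs⟩ (Subgroup.mem_top _)
    refine Submodule.mem_span_singleton.mpr ⟨c * e, ?_⟩
    show (c * e) • x = τ ⟨s, hs⟩ (F.mkQ y)
    rw [← hc, map_smul, he, smul_smul]
  · intro y hy
    obtain ⟨c, hc⟩ := Submodule.mem_span_singleton.mp hy
    have h5 : y - c • sec x ∈ F := (Submodule.Quotient.eq F).mp (by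
      show F.mkQ y = F.mkQ (c • sec x)
      rw [map_smul, hsecv, hc])
    have h6 := Submodule.add_mem _ (h1 h5) (Submodule.smul_mem _ c h2)
    rwa [sub_add_cancel] at h6
  · refine lt_of_le_of_ne (fun y hy => ?_) fun heq' => hx0 ?_
    · show F.mkQ y ∈ Submodule.span k {x}
      rw [Submodule.mkQ_apply, (Submodule.Quotient.mk_eq_zero F).mpr hy]
      exact Submodule.zero_mem _
    · have : sec x ∈ F := heq'.ge (Submodule.mem_comap.mpr (by rw [hsecv]; exact Submodule.mem_span_singleton_self x))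
      rw [← hsecv x]
      exact (Submodule.Quotient.mk_eq_zero F).mpr this

end Groth.Agent.H1.Classical.Absorb
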