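import Groth.Agent.H1.Classical.Torus.Tri

/-!
# The centraliser of an element of finite order in the unipotent part is connected
-/

universe u v w

namespace Groth.Agent.H1.Classical.Torus.Retract

set_option linter.style.haveILetI false
set_option linter.unusedSectionVars false

open Module Kolchin Tri

variable {k : Type u} [Field k] {Γ : Type v} [Group Γ] {W : Type w} [AddCommGroup W] [Module k W] {n : ℕ}
  {b : Basis (Fin n) k W} {σ : Representation k Γ W} {D : Alg k Γ}

theorem E_add (h : IsTri b σ) {j : ℕ} (hj : 1 ≤ j) {u v : Γ} (hu : u ∈ U h j) (hv : v ∈ U h j) :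
    Band (j + 1) (E b σ (u * v) - (E b σ u + E b σ v)) := by
  rw [E_mul, show ∀ x p q : Matrix (Fin n) (Fin n) k, x + p + q - (p + q) = x from fun _ _ _ => by abel]
  exact (Band.mul hu hv).mono (by omega)

theorem E_one : E b σ (1 : Γ) = 0 := by rw [E, map_one, sub_self]

theorem E_conj (y v : Γ) : E b σ (y * v * y⁻¹) = mat b σ y * E b σ v * mat b σ y⁻¹ := by
  simp only [E, map_mul, mul_sub, sub_mul, mul_one]
  rw [← map_mul _ y y⁻¹, mul_inv_cancel, map_one]

theorem band_smul {a : ℕ} {N : Matrix (Fin n) (Fin n) k} (c : k) (h : Band a N) : Band a (c • N) :=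
  fun i l hl => by simp [h i l hl]

theorem band_of_smul {a : ℕ} {N : Matrix (Fin n) (Fin n) k} {c : k} (hc : c ≠ 0) (h : Band a (c • N)) : Band a N :=
  fun i l hl => (mul_eq_zero.mp (h i l hl)).resolve_left hc

variable (hb : IsTri b σ) (hσ : GenRep.Gen D σ)

/-- The functions on the unipotent part. -/
noncomputable abbrev DU : Alg k (U hb 1) := D.restrict (U hb 1) (isCl_U hb hσ.reg 1)

/-- A regular self map of the unipotent part. -/
def Reg (F : U hb 1 → U hb 1) : Prop := ∀ f ∈ D.R, (fun u => f (F u : Γ)) ∈ (DU hb hσ).R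

theorem reg_of_endFn {F : U hb 1 → U hb 1} (h : EndFn (DU hb hσ).R (fun u => σ (F u : Γ))) : Reg hb hσ F := by
  intro f hf
  have hf' := hσ.gen hf
  clear hf
  induction hf' using Algebra.adjoin_induction with
  | mem f hf => obtain ⟨x, l, rfl⟩ := hf; exact h x l
  | algebraMap c => exact (DU hb hσ).R.algebraMap_mem c
  | add f f' _ _ h h' => exact (DU hb hσ).R.add_mem h h'
  | mul f f' _ _ h h' => exact (DU hb hσ).R.mul_mem h h'

theorem Reg.endFn {F : U hb 1 → U hb 1} (h : Reg hb hσ F) : EndFn (DU hb hσ).R (fun u => σ (F u : Γ)) :=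
  fun x l => h _ (hσ.reg x l)

theorem Reg.id' : Reg hb hσ (fun u => u) := fun f hf => ⟨f, hf, rfl⟩

theorem Reg.one : Reg hb hσ (fun _ => 1) := fun f _ => (DU hb hσ).R.algebraMap_mem (f (1 : Γ))

theorem Reg.inv {F : U hb 1 → U hb 1} (h : Reg hb hσ F) : Reg hb hσ (fun u => (F u)⁻¹) := fun f hf => h _ (D.inv f hf)

theorem Reg.comp {F G : U hb 1 → U hb 1} (hF : Reg hb hσ F) (hG : Reg hb hσ G) : Reg hb hσ (fun u => F (G u)) := by
  intro f hf
  obtain ⟨f', hf', he⟩ := hF f hf
  rw [show (fun u => f (F (G u) : Γ)) = fun u => f' (G u : Γ) from funext fun u => (congrFun he (G u)).symm]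
  exact hG f' hf'

theorem Reg.mul [FiniteDimensional k W] {F G : U hb 1 → U hb 1} (hF : Reg hb hσ F) (hG : Reg hb hσ G) :
    Reg hb hσ (fun u => F u * G u) := by
  refine reg_of_endFn hb hσ fun x l => ?_
  simp only [Subgroup.coe_mul, map_mul]
  exact (EndFn.mul (hF.endFn hb hσ) (hG.endFn hb hσ)) x l

theorem Reg.pow [FiniteDimensional k W] {F : U hb 1 → U hb 1} (hF : Reg hb hσ F) :
    ∀ s : ℕ, Reg hb hσ (fun u => F u ^ s)
  | 0 => by simpa using Reg.one hb hσ
  | s + 1 => by simpa [pow_succ] using (Reg.pow hF s).mul hb hσ hF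

/-- Conjugation. -/
noncomputable def conj (y : Γ) (u : U hb 1) : U hb 1 := ⟨y * u * y⁻¹, (U_normal hb 1).conj_mem u u.2 y⟩

theorem Reg.conj {F : U hb 1 → U hb 1} (h : Reg hb hσ F) (y : Γ) : Reg hb hσ (fun u => conj hb y (F u)) := fun f hf =>
  h _ (D.lmul y _ (D.rmul y⁻¹ f hf))

/-- A regular `m`-th root modulo each layer. -/
theorem exists_root [FiniteDimensional k W] {m : ℕ} (hm : (m : k) ≠ 0) :
    ∃ r : U hb 1 → U hb 1, Reg hb hσ r ∧ r 1 = 1 ∧ ∀ j, 1 ≤ j → ∀ u : U hb 1, (u : Γ) ∈ U hb j →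
      (r u : Γ) ∈ U hb j ∧ Band (j + 1) ((m : k) • E b σ (r u : Γ) - E b σ (u : Γ)) := by
  classical
  rcases CharP.exists k with ⟨p, hp⟩
  rcases CharP.char_is_prime_or_zero k p with hpp | rfl
  · haveI := Fact.mk hpp
    haveI := hp
    obtain ⟨s, hs⟩ : ∃ s : ℕ, ((m * s : ℕ) : k) = 1 := by
      refine ⟨((m : ZMod p)⁻¹).val, ?_⟩
      rw [← Nat.cast_one, CharP.natCast_eq_natCast k p, ← ZMod.natCast_eq_natCast_iff, Nat.cast_mul, ZMod.natCast_zmod_val,
        Nat.cast_one, ZMod.coe_mul_inv_eq_one m ?_]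
      rw [Nat.coprime_comm, hpp.coprime_iff_not_dvd, ← CharP.cast_eq_zero_iff k p]
      exact hm
    refine ⟨fun u => u ^ s, (Reg.id' hb hσ).pow hb hσ s, one_pow s, fun j hj u hu => ⟨(U hb j).pow_mem hu s, ?_⟩⟩
    have h1 := band_smul (m : k) (E_pow hb hj hu s)
    rwa [smul_sub, smul_smul, ← Nat.cast_mul, hs, one_smul, ← SubmonoidClass.coe_pow] at h1
  · haveI := hp
    haveI := CharP.charP_to_charZero k
    have hN : ∀ u : U hb 1, (σ (u : Γ) - 1) ^ (n + 1) = 0 := fun u => (LinearMap.toMatrixAlgEquiv b).injective (by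
      rw [map_pow, map_sub, map_one, map_zero]
      exact (Band.pow_succ (show Band 1 (E b σ (u : Γ)) from u.2) n).eq_zero (Nat.le_succ n))
    choose v hv using fun u : U hb 1 => GenRep.exists_pt D hσ ⟨n + 1, hN u⟩ (m : k)⁻¹
    have hvj : ∀ j, ∀ u : U hb 1, (u : Γ) ∈ U hb j → v u ∈ U hb j := fun j u hu =>
      GenRep.mem_of_powers D (isCl_U hb hσ.reg j) (fun N => (U hb j).pow_mem hu N) (hv u)
    have hcoef : ∀ (u : U hb 1) (x : W) (l : Dual k W), l (σ (v u) x) = ∑ i ∈ Finset.range (n + 1),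
        l (((σ (u : Γ) - 1) ^ i) x) * (((i.factorial : k))⁻¹ * (descPochhammer k i).eval (m : k)⁻¹) := fun u x l => by
      rw [hv u _ (hσ.reg x l) _ (GenRep.coeff_pow (hN u) x l), Polynomial.eval_finsetSum]
      refine Finset.sum_congr rfl fun i _ => ?_
      rw [Polynomial.eval_mul, Polynomial.eval_C, mul_assoc]
    let r : U hb 1 → U hb 1 := fun u => ⟨v u, hvj 1 u u.2⟩
    have hr : Reg hb hσ r := by
      refine reg_of_endFn hb hσ fun x l => ?_
      have hpow : ∀ i, EndFn (DU hb hσ).R (fun u : U hb 1 => (σ (u : Γ) - 1) ^ i) := by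
        intro i
        induction i with
        | zero => simpa using EndFn.const (1 : End k W)
        | succ i ih =>
          simp only [pow_succ]
          exact ih.mul (((Reg.id' hb hσ).endFn hb hσ).sub (EndFn.const 1))
      have he : (fun u => l (σ (r u : Γ) x)) = ∑ i ∈ Finset.range (n + 1),
          (((i.factorial : k))⁻¹ * (descPochhammer k i).eval (m : k)⁻¹) • fun u : U hb 1 => l (((σ (u : Γ) - 1) ^ i) x) := by
        funext u
        rw [Finset.sum_apply]
        refine (hcoef u x l).trans (Finset.sum_congr rfl fun i _ => ?_)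
        rw [Pi.smul_apply, smul_eq_mul, mul_comm]
      rw [he]
      exact sum_mem fun i _ => (DU hb hσ).R.smul_mem (hpow i x l) _
    refine ⟨r, hr, ?_, fun j hj u hu => ⟨hvj j u hu, fun i l hl => ?_⟩⟩
    · refine Subtype.ext (hσ.faith (LinearMap.ext fun x => sub_eq_zero.mp
        ((Module.forall_dual_apply_eq_zero_iff k _).mp fun l => ?_)))
      show l (σ (v 1) x - σ (1 : Γ) x) = 0
      rw [map_sub, hcoef, Finset.sum_eq_single 0]
      · simp
      · intro i _ hi
        simp [zero_pow hi]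
      · simp
    · by_cases hlt : (l : ℕ) < i + j
      · rw [Matrix.sub_apply, Matrix.smul_apply, (show Band j (E b σ (v u)) from hvj j u hu) i l hlt, hu i l hlt,
          smul_zero, sub_zero]
      have key : ∀ N : ℕ, E b σ ((u : Γ) ^ N) i l = (N : k) * E b σ (u : Γ) i l := fun N =>
        sub_eq_zero.mp (E_pow hb hj hu N i l hl)
      have hf : (fun g => E b σ g i l) ∈ D.R :=
        D.R.sub_mem (regular hσ.reg i l) (D.R.algebraMap_mem ((1 : Matrix (Fin n) (Fin n) k) i l))
      have h2 : E b σ (v u) i l = (Polynomial.C (E b σ (u : Γ) i l) * Polynomial.X).eval (m : k)⁻¹ :=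
        hv u _ hf _ fun N => by rw [Polynomial.eval_mul, Polynomial.eval_C, Polynomial.eval_X, key N, mul_comm]
      rw [Matrix.sub_apply, Matrix.smul_apply, smul_eq_mul, h2, Polynomial.eval_mul, Polynomial.eval_C, Polynomial.eval_X]
      field_simp
      ring

/-- Partial products. -/
noncomputable def prodSeq (d : ℕ → U hb 1 → U hb 1) : ℕ → U hb 1 → U hb 1
  | 0 => fun _ => 1
  | i + 1 => fun u => prodSeq d i u * d i u

/-- Improving commutation by one layer. -/
theorem exists_step [FiniteDimensional k W] {y : Γ} {m : ℕ} (hm : (m : k) ≠ 0) (hy : y ^ m = 1) {j : ℕ} (hj : 1 ≤ j) :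
    ∃ F : U hb 1 → U hb 1, Reg hb hσ F ∧
      (∀ u : U hb 1, y * u * y⁻¹ * (u : Γ)⁻¹ ∈ U hb j → y * F u * y⁻¹ * (F u : Γ)⁻¹ ∈ U hb (j + 1)) ∧
      ∀ u : U hb 1, y * u = u * y → F u = u := by
  classical
  obtain ⟨r, hr, hr1, hrj⟩ := exists_root hb hσ hm
  let d : ℕ → U hb 1 → U hb 1 := fun i u => conj hb (y ^ i) u * u⁻¹
  have hd : ∀ i, Reg hb hσ (d i) := fun i => ((Reg.id' hb hσ).conj hb hσ (y ^ i)).mul hb hσ ((Reg.id' hb hσ).inv hb hσ)
  let P : ℕ → U hb 1 → U hb 1 := prodSeq hb d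
  have hP : ∀ i, Reg hb hσ (P i) := by
    intro i
    induction i with
    | zero => exact Reg.one hb hσ
    | succ i ih => exact ih.mul hb hσ (hd i)
  refine ⟨fun u => r (P m u) * u, (hr.comp hb hσ (hP m)).mul hb hσ (Reg.id' hb hσ), fun u hu => ?_, fun u hu => ?_⟩
  · have hdd : ∀ i, (d i u : Γ) = y ^ i * (u : Γ) * (y ^ i)⁻¹ * (u : Γ)⁻¹ := fun i => rfl
    have hd0 : (d 0 u : Γ) = 1 := by rw [hdd]; group
    have hdm : (d m u : Γ) = 1 := by rw [hdd, hy]; group
    have hdsucc : ∀ i : ℕ, (d (i + 1) u : Γ) = y * (d i u : Γ) * y⁻¹ * (y * u * y⁻¹ * (u : Γ)⁻¹) := fun i => by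
      rw [hdd, hdd, pow_succ']; group
    have hdmem : ∀ i : ℕ, (d i u : Γ) ∈ U hb j := by
      intro i
      induction i with
      | zero => rw [hd0]; exact (U hb j).one_mem
      | succ i ih => rw [hdsucc]; exact (U hb j).mul_mem ((U_normal hb j).conj_mem _ ih y) hu
    have hP1eq : ∀ i, P (i + 1) u = P i u * d i u := fun _ => rfl
    have hPsucc : ∀ i : ℕ, Subtype.val (P (i + 1) u) = Subtype.val (P i u) * Subtype.val (d i u) := fun i => by rw [hP1eq, Subgroup.coe_mul]
    have hPmem : ∀ i : ℕ, (Subtype.val (P i u)) ∈ U hb j := by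
      intro i
      induction i with
      | zero => exact (U hb j).one_mem
      | succ i ih => rw [hPsucc]; exact (U hb j).mul_mem ih (hdmem i)
    set c := y * u * y⁻¹ * (u : Γ)⁻¹
    let φ : Matrix (Fin n) (Fin n) k → Matrix (Fin n) (Fin n) k := fun X => mat b σ y * X * mat b σ y⁻¹
    have hφadd : ∀ X Y, φ (X + Y) = φ X + φ Y := fun X Y => by simp only [φ, mul_add, add_mul]
    have hφsub : ∀ X Y, φ (X - Y) = φ X - φ Y := fun X Y => by simp only [φ, mul_sub, sub_mul]
    have hφsmul : ∀ (a : k) X, φ (a • X) = a • φ X := fun a X => by simp only [φ, mul_smul_comm, smul_mul_assoc]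
    have hφband : ∀ {X}, Band (j + 1) X → Band (j + 1) (φ X) := fun {X} hX => (((hb y).mul hX).mul (hb y⁻¹)).mono (by omega)
    have key : ∀ i : ℕ, Band (j + 1) (φ (E b σ (Subtype.val (P i u))) - (E b σ (Subtype.val (P (i + 1) u)) - (i : k) • E b σ c)) := by
      intro i
      induction i with
      | zero =>
        rw [hPsucc, show (Subtype.val (P 0 u)) = 1 from rfl, hd0, mul_one, E_one]
        simp [φ, Band.zero]
      | succ i ih =>
        have hA := hφband (E_add hb hj (hPmem i) (hdmem i))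
        rw [← hPsucc, hφsub, hφadd] at hA
        have hC := E_add hb hj ((U_normal hb j).conj_mem _ (hdmem i) y) hu
        rw [← hdsucc, E_conj] at hC
        have hD := E_add hb hj (hPmem (i + 1)) (hdmem (i + 1))
        rw [← hPsucc] at hD
        have h := (((hA.add ih).sub hD).sub hC)
        convert h using 1
        rw [Nat.cast_succ, add_smul, one_smul]
        abel
    have hkm : Band (j + 1) (φ (E b σ (Subtype.val (P m u))) - (E b σ (Subtype.val (P m u)) - (m : k) • E b σ c)) := by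
      have h := key m
      rwa [show (Subtype.val (P (m + 1) u)) = (Subtype.val (P m u)) by rw [hPsucc, hdm, mul_one]] at h
    obtain ⟨hw, hwm⟩ := hrj j hj (P m u) (hPmem m)
    set w := (r (P m u) : Γ)
    have hgoal : Band (j + 1) (E b σ (y * w * y⁻¹ * c) - E b σ w) := by
      have h1 : Band (j + 1) (φ (E b σ w) - E b σ w + E b σ c) := by
        refine band_of_smul hm ?_
        have h := ((hφband hwm).sub hwm).add hkm
        convert h using 1
        rw [hφsub, hφsmul, smul_add, smul_sub]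
        abel
      have h2 := E_add hb hj ((U_normal hb j).conj_mem _ hw y) hu
      rw [E_conj] at h2
      convert h2.add h1 using 1
      abel
    have := div_mem (h := hb) hgoal
    rwa [show y * w * y⁻¹ * c * w⁻¹ = y * ((r (P m u) * u : U hb 1) : Γ) * y⁻¹ * ((r (P m u) * u : U hb 1) : Γ)⁻¹ by
      simp only [Subgroup.coe_mul, w, c]; group] at this
  · have hd1 : ∀ i, d i u = 1 := fun i => Subtype.ext (by
      show y ^ i * (u : Γ) * (y ^ i)⁻¹ * (u : Γ)⁻¹ = 1
      rw [((show Commute y (u : Γ) from hu).pow_left i).eq]; group)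
    have hP1 : ∀ i : ℕ, P i u = 1 := by
      intro i
      induction i with
      | zero => rfl
      | succ i ih => show P i u * d i u = 1; rw [ih, hd1, one_mul]
    show r (P m u) * u = u
    rw [hP1, hr1, one_mul]

include hσ in
/-- The centraliser in the unipotent part of an element of finite order is irreducible. -/
theorem sirr_centraliser [FiniteDimensional k W] (hirr : D.SIrr (U hb 1)) {y : Γ} {m : ℕ} (hm : (m : k) ≠ 0)
    (hy : y ^ m = 1) : D.SIrr {g | g ∈ U hb 1 ∧ y * g = g * y} := by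
  classical
  have h : ∀ j, ∃ F : U hb 1 → U hb 1, Reg hb hσ F ∧
      (∀ u : U hb 1, y * F u * y⁻¹ * (F u : Γ)⁻¹ ∈ U hb (j + 1)) ∧ ∀ u : U hb 1, y * u = u * y → F u = u := by
    intro j
    induction j with
    | zero =>
      exact ⟨fun u => u, Reg.id' hb hσ, fun u => (U hb 1).mul_mem ((U_normal hb 1).conj_mem _ u.2 y)
        ((U hb 1).inv_mem u.2), fun _ _ => rfl⟩
    | succ j ih =>
      obtain ⟨F, hF, hFc, hFf⟩ := ih
      obtain ⟨G, hG, hGc, hGf⟩ := exists_step hb hσ hm hy (j := j + 1) (by omega)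
      exact ⟨fun u => G (F u), hG.comp hb hσ hF, fun u => hGc _ (hFc u), fun u hu => by show G (F u) = u; rw [hFf u hu, hGf u hu]⟩
  obtain ⟨F, hF, hFc, hFf⟩ := h n
  have hcomm : ∀ u, y * (F u : Γ) = F u * y := fun u => by
    have := hFc u
    rw [U_eq_bot hb hσ.faith (Nat.le_succ n), Subgroup.mem_bot, mul_inv_eq_one, mul_inv_eq_iff_eq_mul] at this
    exact this
  intro f f' hff
  obtain ⟨φ, hφ, he⟩ := hF _ f.2
  obtain ⟨φ', hφ', he'⟩ := hF _ f'.2
  have key : ∀ (f : D.R) (φ : Γ → k), (Alg.res (U hb 1) φ = fun u => (f : Γ → k) (F u : Γ)) → (∀ c ∈ (U hb 1 : Set Γ), φ c = 0) →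
      f ∈ D.vI {g | g ∈ U hb 1 ∧ y * g = g * y} := by
    rintro f φ he hv g ⟨hg, hgy⟩
    have h1 := congrFun he ⟨g, hg⟩
    rw [hFf ⟨g, hg⟩ hgy] at h1
    exact h1.symm.trans (hv g hg)
  exact (hirr ⟨φ, hφ⟩ ⟨φ', hφ'⟩ fun c hc => by
    show φ c * φ' c = 0
    rw [show φ c = _ from congrFun he ⟨c, hc⟩, show φ' c = _ from congrFun he' ⟨c, hc⟩]
    exact hff _ ⟨(F ⟨c, hc⟩).2, hcomm _⟩).imp (key f φ he) (key f' φ' he')

end Groth.Agent.H1.Classical.Torus.Retract
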