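import Groth.Agent.H1.Classical.Torus.Union
import Groth.Agent.H1.Classical.Torus.Retract
import Groth.Agent.H1.Classical.Torus.AbsorbIn
import Groth.Agent.H1.Classical.BorelConj

/-!
# Centralisers of tori are connected, and their Borel subgroups
-/

universe u v w

namespace Groth.Agent.H1.Classical.Torus.Centraliser

set_option linter.style.haveILetI false
set_option linter.unusedSectionVars false

open Module Kolchin Open Complete

variable {k : Type u} [Field k] [IsAlgClosed k] {Γ : Type v} [Group Γ]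

/-- A torus, on points. -/
structure IsTor (D : Alg k Γ) (S : Subgroup Γ) : Prop where
  cl : D.IsCl S
  irr : D.SIrr S
  comm : ∀ a ∈ S, ∀ b ∈ S, a * b = b * a
  dense : ∀ f ∈ D.R, (∀ t ∈ S, (∃ m : ℕ, (m : k) ≠ 0 ∧ t ^ m = 1) → f t = 0) → ∀ t ∈ S, f t = 0

/-- A Borel subgroup, on points. -/
structure IsBor (D : Alg k Γ) (B : Subgroup Γ) : Prop where
  cl : D.IsCl B
  irr : D.SIrr B
  solv : Group.IsSolvable B
  abs : ∀ S : Subgroup Γ, Group.IsSolvable S → D.SIrr S → ∃ a : Γ, ∀ s ∈ S, a⁻¹ * s * a ∈ B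
  comp : Complete D B

variable {D : Alg k Γ} {W : Type w} [AddCommGroup W] [Module k W] [FiniteDimensional k W] {σ : Representation k Γ W}

/-- The torsion of a torus. -/
def tors {S : Subgroup Γ} (hS : IsTor D S) : Subgroup Γ where
  carrier := {g | g ∈ S ∧ ∃ m : ℕ, (m : k) ≠ 0 ∧ g ^ m = 1}
  one_mem' := ⟨S.one_mem, 1, by rw [Nat.cast_one]; exact one_ne_zero, one_pow _⟩
  mul_mem' := by
    rintro a b ⟨ha, m, hm, ham⟩ ⟨hb, l, hl, hbl⟩
    refine ⟨S.mul_mem ha hb, m * l, by rw [Nat.cast_mul]; exact mul_ne_zero hm hl, ?_⟩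
    rw [(show Commute a b from hS.comm a ha b hb).mul_pow, pow_mul, ham, one_pow, mul_comm, pow_mul, hbl, one_pow, one_mul]
  inv_mem' := by
    rintro a ⟨ha, m, hm, ham⟩
    exact ⟨S.inv_mem ha, m, hm, by rw [inv_pow, ham, inv_one]⟩

/-- A torus is diagonalisable. -/
theorem exists_diag {S : Subgroup Γ} (hS : IsTor D S) {V : Type*} [AddCommGroup V] [Module k V] [FiniteDimensional k V]
    {ρ : Representation k Γ V} (hρ : EndFn D.R (fun g => ρ g)) :
    ∃ e : Basis (Fin (finrank k V)) k V, ∀ s ∈ S, ∀ i, ∃ c : k, ρ s (e i) = c • e i := by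
  classical
  obtain ⟨e, he⟩ := Diagonal.exists_diag (σ := ρ) (A := tors hS) (fun a ha b hb => hS.comm a ha.1 b hb.1)
    (fun a ha => ha.2)
  refine ⟨e, fun s hs i => ⟨e.coord i (ρ s (e i)), e.repr.injective (Finsupp.ext fun j => ?_)⟩⟩
  rw [map_smul, Basis.repr_self, Finsupp.smul_apply, smul_eq_mul]
  have := hS.dense (fun g => e.coord j (ρ g (e i)) - e.coord i (ρ g (e i)) * Finsupp.single i (1 : k) j)
    (D.R.sub_mem (hρ (e i) (e.coord j)) (D.R.mul_mem (hρ (e i) (e.coord i)) (D.R.algebraMap_mem _)))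
    (fun t ht htor => by
      obtain ⟨c, hc⟩ := he t ⟨ht, htor⟩ i
      show e.coord j (ρ t (e i)) - _ = 0
      rw [hc, map_smul, map_smul, Basis.coord_apply, Basis.coord_apply, Basis.repr_self, Finsupp.single_eq_same,
        smul_eq_mul, smul_eq_mul, mul_one, sub_self]) s hs
  exact sub_eq_zero.mp this

/-- A regular element of a torus. -/
theorem exists_regular (hσ : GenRep.Gen D σ) {S : Subgroup Γ} (hS : IsTor D S) :
    ∃ t ∈ S, (∃ m : ℕ, (m : k) ≠ 0 ∧ t ^ m = 1) ∧ ∀ g, g * t = t * g → ∀ s ∈ S, g * s = s * g := by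
  classical
  obtain ⟨e, he⟩ := exists_diag hS hσ.reg
  let ev : Fin (finrank k W) → Γ → k := fun i g => e.coord i (σ g (e i))
  have hevreg : ∀ i, ev i ∈ D.R := fun i => hσ.reg (e i) (e.coord i)
  have hact : ∀ t ∈ S, ∀ i, σ t (e i) = ev i t • e i := fun t ht i => by
    obtain ⟨c, hc⟩ := he t ht i
    show σ t (e i) = e.coord i (σ t (e i)) • e i
    rw [hc, map_smul, Basis.coord_apply, Basis.repr_self, Finsupp.single_eq_same, smul_eq_mul, mul_one]
  let P := Finset.univ.filter fun p : Fin (finrank k W) × Fin (finrank k W) => ∃ t ∈ S, ev p.1 t ≠ ev p.2 t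
  obtain ⟨t₀, ht₀, htor, hreg⟩ : ∃ t ∈ S, (∃ m : ℕ, (m : k) ≠ 0 ∧ t ^ m = 1) ∧
      ∀ p ∈ P, ev p.1 t ≠ ev p.2 t := by
    by_contra hcon
    push Not at hcon
    have h0 : ∀ t ∈ S, (∏ p ∈ P, (ev p.1 - ev p.2)) t = 0 :=
      hS.dense _ (Subalgebra.prod_mem _ fun p _ => D.R.sub_mem (hevreg _) (hevreg _)) fun t ht htor => by
        obtain ⟨p, hp, hpe⟩ := hcon t ht htor
        rw [Finset.prod_apply]
        exact Finset.prod_eq_zero hp (by rw [Pi.sub_apply, hpe, sub_self])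
    obtain ⟨p, hp, hpz⟩ := Alg.SIrr.exists_forall D hS.irr ⟨1, S.one_mem⟩ P (fun p => {ev p.1 - ev p.2})
      (fun p _ => Set.singleton_subset_iff.mpr (D.R.sub_mem (hevreg _) (hevreg _))) fun t ht => by
        have h1 := h0 t ht
        rw [Finset.prod_apply, Finset.prod_eq_zero_iff] at h1
        obtain ⟨p, hp, hpe⟩ := h1
        exact ⟨p, hp, by rintro f rfl; exact hpe⟩
    obtain ⟨t, ht, hne⟩ := (Finset.mem_filter.mp hp).2
    exact hne (sub_eq_zero.mp (hpz t ht _ rfl))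
  refine ⟨t₀, ht₀, htor, fun g hg t ht => hσ.faith (e.ext fun i => e.repr.injective (Finsupp.ext fun j => ?_))⟩
  have hdiag : ∀ s ∈ S, ∀ x : W, e.repr (σ s x) j = ev j s * e.repr x j := by
    intro s hs x
    conv_lhs => rw [← e.sum_repr x, map_sum, map_sum, Finsupp.finsetSum_apply]
    rw [Finset.sum_eq_single j]
    · rw [map_smul, hact s hs, map_smul, map_smul, Basis.repr_self, Finsupp.smul_apply, Finsupp.smul_apply,
        Finsupp.single_eq_same, smul_eq_mul, smul_eq_mul]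
      ring
    · intro l _ hl
      rw [map_smul, hact s hs, map_smul, map_smul, Basis.repr_self, Finsupp.smul_apply, Finsupp.smul_apply,
        Finsupp.single_eq_of_ne (Ne.symm hl), smul_zero, smul_zero]
    · exact fun h => absurd (Finset.mem_univ j) h
  rw [map_mul, map_mul, End.mul_apply, End.mul_apply, hact t ht, map_smul, map_smul, Finsupp.smul_apply, smul_eq_mul,
    hdiag t ht]
  have h0 := congrArg (fun y => e.repr (σ y (e i)) j) hg
  simp only [map_mul, End.mul_apply, hact t₀ ht₀, map_smul, Finsupp.smul_apply, smul_eq_mul, hdiag t₀ ht₀] at h0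
  by_cases hp : (i, j) ∈ P
  · rw [mul_eq_mul_right_iff] at h0
    rw [h0.resolve_left (hreg _ hp), mul_zero, mul_zero]
  · have : ev i t = ev j t := by
      by_contra h
      exact hp (Finset.mem_filter.mpr ⟨Finset.mem_univ _, t, ht, h⟩)
    rw [this]

/-- Torsion of a connected solvable group is conjugate into its torus. -/
theorem conj_torsion {T U : Subgroup Γ} {τ : Γ →* Γ} (hs : Split.IsSplit D σ T U τ) {y : Γ} {m : ℕ}
    (hm : (m : k) ≠ 0) (hym : y ^ m = 1) : ∃ u ∈ U, τ y = u * y * u⁻¹ := by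
  haveI : Finite (Subgroup.zpowers y) := Nat.finite_of_card_ne_zero (by
    rw [Nat.card_zpowers]
    exact (orderOf_pos_iff.mpr (isOfFinOrder_iff_pow_eq_one.mpr ⟨m, Nat.pos_of_ne_zero fun h => hm (by
      rw [h, Nat.cast_zero]), hym⟩)).ne')
  haveI : Fintype (Subgroup.zpowers y) := Fintype.ofFinite _
  obtain ⟨u, hu, h⟩ := hs.conj (Subgroup.zpowers y) (by
    rw [← Nat.card_eq_fintype_card, Nat.card_zpowers]
    obtain ⟨c, hc⟩ := orderOf_dvd_of_pow_eq_one hym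
    intro h0
    exact hm (by rw [hc, Nat.cast_mul, h0, zero_mul])) (Subgroup.zpowers y).subtype
  exact ⟨u, hu, h ⟨y, Subgroup.mem_zpowers y⟩⟩

/-- In a connected solvable group the centraliser of an element of order prime to `p` is connected. -/
theorem sirr_centraliser_solvable (hσ : GenRep.Gen D σ) (hirr : D.SIrr Set.univ) [Group.IsSolvable Γ] {y : Γ}
    {m : ℕ} (hm : (m : k) ≠ 0) (hym : y ^ m = 1) : D.SIrr {g | g * y = y * g} := by
  classical
  haveI := isDomain hirr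
  obtain ⟨T, U, τ, hs⟩ := Split.exists_split D hirr σ hσ
  obtain ⟨b, hb⟩ := Tri.exists_tri D.R (finrank k W) σ hσ.reg (GenRep.inv_regular D hσ) rfl
  have hU : Tri.U hb 1 = U := le_antisymm (fun g hg => (hs.nilp g).mp (Tri.isNilpotent_of_mem hb hg))
    fun g hg => (Tri.mem_U_one hb).mpr fun i =>
      Central.char_eq_one D hσ ((hs.nilp g).mpr hg) (Tri.regular hσ.reg i i)
  obtain ⟨u, -, hu⟩ := conj_torsion hs hm hym
  set y' := τ y
  have hy' : y' ^ m = 1 := by rw [← map_pow, hym, map_one]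
  have hset : {g | g * y = y * g} = (fun g => u⁻¹ * g * u⁻¹⁻¹) '' {g | g * y' = y' * g} := by
    ext g
    rw [Set.mem_image]
    constructor
    · intro hg
      refine ⟨u * g * u⁻¹, ?_, by group⟩
      show u * g * u⁻¹ * y' = y' * (u * g * u⁻¹)
      calc u * g * u⁻¹ * y' = u * (g * y) * u⁻¹ := by rw [hu]; group
        _ = u * (y * g) * u⁻¹ := by rw [show g * y = y * g from hg]
        _ = y' * (u * g * u⁻¹) := by rw [hu]; group
    · rintro ⟨h, hh, rfl⟩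
      show u⁻¹ * h * u⁻¹⁻¹ * y = y * (u⁻¹ * h * u⁻¹⁻¹)
      have hy : y = u⁻¹ * y' * u := by rw [hu]; group
      calc u⁻¹ * h * u⁻¹⁻¹ * y = u⁻¹ * (h * y') * u := by rw [hy]; group
        _ = u⁻¹ * (y' * h) * u := by rw [show h * y' = y' * h from hh]
        _ = y * (u⁻¹ * h * u⁻¹⁻¹) := by rw [hy]; group
  rw [hset]
  refine Alg.SIrr.image D ?_ _ _ (D.cTrans_apply u⁻¹)
  -- the centraliser of `y'` is `T` times the centraliser in `U`
  have hZ := Retract.sirr_centraliser hb hσ (hU ▸ hs.irrU) hm hy'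
  rw [hU] at hZ
  have hdec : ∀ g, g * y' = y' * g → ∃ a ∈ T, ∃ w ∈ U, y' * w = w * y' ∧ g = a * w := fun g hg => by
    refine ⟨τ g, hs.tau_mem g, (τ g)⁻¹ * g, (hs.tau_ker _).mp (by
      rw [map_mul, map_inv, hs.tau_fix _ (hs.tau_mem g), inv_mul_cancel]), ?_, by group⟩
    have h1 : (τ g)⁻¹ * y' = y' * (τ g)⁻¹ := hs.comm _ (T.inv_mem (hs.tau_mem g)) _ (hs.tau_mem y)
    rw [← mul_assoc, ← h1, mul_assoc, ← hg, mul_assoc]
  intro f f' hff
  have key : ∀ a ∈ T, (∀ w, w ∈ U ∧ y' * w = w * y' → (f : Γ → k) (a * w) = 0) ∨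
      ∀ w, w ∈ U ∧ y' * w = w * y' → (f' : Γ → k) (a * w) = 0 := fun a ha =>
    hZ (D.lTrans a f) (D.lTrans a f') fun w hw => hff (a * w) (by
      show a * w * y' = y' * (a * w)
      rw [mul_assoc, ← hw.2, ← mul_assoc, hs.comm a ha y' (hs.tau_mem y), mul_assoc])
  obtain ⟨i, -, hi⟩ := Alg.SIrr.exists_forall D hs.irrT ⟨1, T.one_mem⟩ (Finset.univ : Finset Bool)
    (fun i => Set.range fun w : {w // w ∈ U ∧ y' * w = w * y'} => fun a => ((cond i f f' : D.R) : Γ → k) (a * w.1))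
    (fun i _ => by rintro _ ⟨w, rfl⟩; exact D.rmul w.1 _ (cond i f f').2)
    (fun a ha => (key a ha).elim (fun h => ⟨true, Finset.mem_univ _, by rintro _ ⟨w, rfl⟩; exact h w.1 w.2⟩)
      (fun h => ⟨false, Finset.mem_univ _, by rintro _ ⟨w, rfl⟩; exact h w.1 w.2⟩))
  cases i
  · refine Or.inr fun g hg => ?_
    obtain ⟨a, ha, w, hw, hwy, rfl⟩ := hdec g hg
    exact hi a ha _ ⟨⟨w, hw, hwy⟩, rfl⟩
  · refine Or.inl fun g hg => ?_
    obtain ⟨a, ha, w, hw, hwy, rfl⟩ := hdec g hg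
    exact hi a ha _ ⟨⟨w, hw, hwy⟩, rfl⟩

/-- The same, for a subgroup. -/
theorem sirr_centraliser_sub (hσ : GenRep.Gen D σ) {B : Subgroup Γ} (hcl : D.IsCl B) (hirr : D.SIrr B)
    [Group.IsSolvable B] {y : Γ} (hy : y ∈ B) {m : ℕ} (hm : (m : k) ≠ 0) (hym : y ^ m = 1) :
    D.SIrr {g | g ∈ B ∧ g * y = y * g} := by
  have h := sirr_centraliser_solvable (D := D.restrict B hcl) (GenRep.Gen.restrict D hσ B hcl)
    (D.sirr_restrict.mpr (by rw [Set.image_univ, Subtype.range_coe_subtype]; exact hirr))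
    (y := ⟨y, hy⟩) hm (Subtype.ext (by rw [SubmonoidClass.coe_pow]; exact hym))
  have hset : ({g | g ∈ B ∧ g * y = y * g} : Set Γ) = Subtype.val '' {g : B | g * ⟨y, hy⟩ = ⟨y, hy⟩ * g} := by
    ext g
    exact ⟨fun ⟨hg, hgy⟩ => ⟨⟨g, hg⟩, Subtype.ext hgy, rfl⟩, fun ⟨p, hp, hpg⟩ => hpg ▸ ⟨p.2, congrArg Subtype.val hp⟩⟩
  rw [hset]
  exact D.sirr_restrict.mp h

theorem conj_fn_mem (hmul : HasMul D) (c : Γ) {f : Γ → k} (hf : f ∈ D.R) : (fun x => f (x⁻¹ * c * x)) ∈ D.R := by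
  obtain ⟨l, a, b, hab⟩ := hmul ⟨f, hf⟩
  have : (fun x => f (x⁻¹ * c * x)) = ∑ i, (fun x => (a i : Γ → k) x⁻¹) * fun x => (b i : Γ → k) (c * x) := funext fun x => by
    rw [mul_assoc, show f (x⁻¹ * (c * x)) = _ from hab x⁻¹ _, Finset.sum_apply]
    rfl
  rw [this]
  exact sum_mem fun i _ => mul_mem (D.inv _ (a i).2) (D.lmul c _ (b i).2)

theorem isCl_conj_set (hmul : HasMul D) {B : Subgroup Γ} (hcl : D.IsCl B) (c : Γ) :
    D.IsCl {x | x⁻¹ * c * x ∈ B} := by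
  refine D.isCl_of_forall {F | ∃ f ∈ D.vI (B : Set Γ), F = fun x => (f : Γ → k) (x⁻¹ * c * x)}
    (by rintro _ ⟨f, -, rfl⟩; exact conj_fn_mem hmul c f.2) fun x => ?_
  exact ⟨fun hx F ⟨f, hf, hF⟩ => by rw [hF]; exact hf _ hx, fun h => hcl fun f hf => h _ ⟨f, hf, rfl⟩⟩

theorem isSolvable_of_comm {S : Subgroup Γ} (h : ∀ a ∈ S, ∀ b ∈ S, a * b = b * a) : Group.IsSolvable S :=
  (Group.isSolvable_def _).mpr ⟨1, by
    rw [derivedSeries_one, eq_bot_iff, commutator_def, Subgroup.commutator_le]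
    intro a _ b _
    rw [Subgroup.mem_bot, commutatorElement_eq_one_iff_mul_comm]
    exact Subtype.ext (h a a.2 b b.2)⟩

/-- Centralisers of tori are connected. -/
theorem sirr_centralizer (hirr : D.SIrr Set.univ) (hmul : HasMul D) (hσ : GenRep.Gen D σ) {B : Subgroup Γ}
    (hB : IsBor D B) {S : Subgroup Γ} (hS : IsTor D S) :
    D.IsCl (Subgroup.centralizer (S : Set Γ)) ∧ D.SIrr (Subgroup.centralizer (S : Set Γ)) := by
  classical
  obtain ⟨t, ht, ⟨m, hm, htm⟩, hreg⟩ := exists_regular hσ hS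
  let C := Subgroup.centralizer (S : Set Γ)
  have hC : ∀ g, g ∈ C ↔ ∀ s ∈ S, g * s = s * g := fun g => by
    rw [Subgroup.mem_centralizer_iff]
    exact ⟨fun h s hs => (h s hs).symm, fun h s hs => (h s hs).symm⟩
  have hCcl : D.IsCl C := by
    have : (C : Set Γ) = {g | ∀ s ∈ (S : Set Γ), g * s = s * g} := Set.ext hC
    rw [this]
    exact Diagonal.isCl_centralizer hσ.reg hσ.faith _
  obtain ⟨C0, hC0C, hC0cl, hC0irr, hC0max, -⟩ := Cartan.exists_component_in C hCcl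
  refine ⟨hCcl, ?_⟩
  suffices C ≤ C0 by
    show D.SIrr (C : Set Γ)
    rw [le_antisymm this hC0C]
    exact hC0irr
  intro c hc
  haveI := hB.solv
  haveI := isSolvable_of_comm hS.comm
  obtain ⟨x₀, hx₀⟩ := Union.exists_conj_mem D hσ hirr hmul hB.cl hB.irr hB.abs hB.comp c
  obtain ⟨x, hxc, hxS⟩ := Absorb.exists_conj_le_in D hmul B hB.cl hB.comp S hS.cl hS.irr
    (isCl_conj_set hmul hB.cl c)
    (fun y hy p hp => by
      show (y * p)⁻¹ * c * (y * p) ∈ B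
      rw [show (y * p)⁻¹ * c * (y * p) = p⁻¹ * (y⁻¹ * c * y) * p by group]
      exact B.mul_mem (B.mul_mem (B.inv_mem hp) hy) hp)
    (fun s hs y hy => by
      show (s * y)⁻¹ * c * (s * y) ∈ B
      rw [show (s * y)⁻¹ * c * (s * y) = y⁻¹ * (s⁻¹ * (c * s)) * y by group, (hC c).mp hc s hs, inv_mul_cancel_left]
      exact hy) hx₀
  obtain ⟨B', hB', hB'cl, hB'irr, hB'sol⟩ := Scheme'.conj_subgroup D B hB.cl hB.irr x
  haveI := hB'sol
  have hirrZ := sirr_centraliser_sub hσ hB'cl hB'irr ((hB' t).mpr (hxS t ht)) hm htm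
  have hset : {g | g ∈ B' ∧ g * t = t * g} = ((B' ⊓ C : Subgroup Γ) : Set Γ) := by
    ext g
    exact ⟨fun ⟨h1, h2⟩ => ⟨h1, (hC g).mpr (hreg g h2)⟩, fun ⟨h1, h2⟩ => ⟨h1, (hC g).mp h2 t ht⟩⟩
  rw [hset] at hirrZ
  exact hC0max _ hirrZ inf_le_right ⟨(hB' c).mpr hxc, hc⟩

/-- The Borel subgroup of the centraliser of a torus. -/
theorem centralizer_abs (hmul : HasMul D) (hσ : GenRep.Gen D σ) {B : Subgroup Γ} (hB : IsBor D B) {S : Subgroup Γ}
    (hS : IsTor D S) (hSB : S ≤ B) :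
    D.SIrr ((B ⊓ Subgroup.centralizer (S : Set Γ) : Subgroup Γ) : Set Γ) ∧
    ∀ S' : Subgroup Γ, Group.IsSolvable S' → D.IsCl S' → D.SIrr S' → S' ≤ Subgroup.centralizer (S : Set Γ) →
      ∃ a ∈ Subgroup.centralizer (S : Set Γ), ∀ s ∈ S', a⁻¹ * s * a ∈ B := by
  classical
  obtain ⟨t, ht, ⟨m, hm, htm⟩, hreg⟩ := exists_regular hσ hS
  let C := Subgroup.centralizer (S : Set Γ)
  have hC : ∀ g, g ∈ C ↔ g * t = t * g := fun g => by
    rw [Subgroup.mem_centralizer_iff]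
    exact ⟨fun h => (h t ht).symm, fun h s hs => (hreg g h s hs).symm⟩
  haveI := hB.solv
  refine ⟨?_, fun S' hS' hS'cl hS'irr hS'C => ?_⟩
  · have hset : {g | g ∈ B ∧ g * t = t * g} = ((B ⊓ C : Subgroup Γ) : Set Γ) := by
      ext g
      exact ⟨fun ⟨h1, h2⟩ => ⟨h1, (hC g).mpr h2⟩, fun ⟨h1, h2⟩ => ⟨h1, (hC g).mp h2⟩⟩
    rw [← hset]
    exact sirr_centraliser_sub hσ hB.cl hB.irr (hSB ht) hm htm
  obtain ⟨T, U, τ, hs⟩ := Split.exists_split (D.restrict B hB.cl)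
    (D.sirr_restrict.mpr (by rw [Set.image_univ, Subtype.range_coe_subtype]; exact hB.irr))
    (σ.comp B.subtype) (GenRep.Gen.restrict D hσ B hB.cl)
  let CB : Set Γ := {x | ∃ c ∈ C, ∃ b ∈ B, x = c * b}
  have hCB : D.IsCl CB := by
    intro y hy
    have h1 : y⁻¹ * t * y ∈ B := isCl_conj_set hmul hB.cl t fun f hf => hy f fun x hx => hf x (by
      obtain ⟨c, hc, b, hb, rfl⟩ := hx
      show (c * b)⁻¹ * t * (c * b) ∈ B
      rw [show (c * b)⁻¹ * t * (c * b) = b⁻¹ * (c⁻¹ * (t * c)) * b by group, ← (hC c).mp hc, inv_mul_cancel_left]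
      exact B.mul_mem (B.mul_mem (B.inv_mem hb) (hSB ht)) hb)
    have h2 : τ ⟨_, h1⟩ = τ ⟨t, hSB ht⟩ := by
      refine Union.sep (D.restrict B hB.cl) (GenRep.Gen.restrict D hσ B hB.cl) _ _ fun f hf => ?_
      obtain ⟨f', hf', he⟩ := hs.tau_reg f hf
      have h3 : f' (y⁻¹ * t * y) - f (τ ⟨t, hSB ht⟩) = 0 :=
        hy ⟨_, D.R.sub_mem (conj_fn_mem hmul t hf') (D.R.algebraMap_mem (f (τ ⟨t, hSB ht⟩)))⟩ fun x hx => by
          obtain ⟨c, hc, b, hb, rfl⟩ := hx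
          show f' ((c * b)⁻¹ * t * (c * b)) - f (τ ⟨t, hSB ht⟩) = 0
          have hx' : (c * b)⁻¹ * t * (c * b) = ((⟨b, hb⟩⁻¹ * ⟨t, hSB ht⟩ * ⟨b, hb⟩ : B) : Γ) := by
            show _ = b⁻¹ * t * b
            rw [show (c * b)⁻¹ * t * (c * b) = b⁻¹ * (c⁻¹ * (t * c)) * b by group, ← (hC c).mp hc, inv_mul_cancel_left]
          rw [hx', show f' _ = _ from congrFun he (⟨b, hb⟩⁻¹ * ⟨t, hSB ht⟩ * ⟨b, hb⟩), map_mul, map_mul, map_inv,
            mul_assoc, hs.comm _ (hs.tau_mem _) _ (hs.tau_mem _), inv_mul_cancel_left, sub_self]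
      rw [← show f' (y⁻¹ * t * y) = _ from congrFun he ⟨_, h1⟩]
      exact sub_eq_zero.mp h3
    have htm' : (⟨t, hSB ht⟩ : B) ^ m = 1 := Subtype.ext (by rw [SubmonoidClass.coe_pow]; exact htm)
    have hym : (⟨_, h1⟩ : B) ^ m = 1 := Subtype.ext (by
      rw [SubmonoidClass.coe_pow]
      have h := conj_pow (i := m) (a := y⁻¹) (b := t)
      rw [_root_.inv_inv] at h
      rw [h, htm, mul_one, inv_mul_cancel]
      rfl)
    obtain ⟨u, -, hu⟩ := conj_torsion hs hm hym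
    obtain ⟨v, -, hv⟩ := conj_torsion hs hm htm'
    have hw := congrArg Subtype.val ((hu.symm.trans h2).trans hv)
    simp only [Subgroup.coe_mul, InvMemClass.coe_inv] at hw
    refine ⟨y * (u : Γ)⁻¹ * v, (hC _).mpr ?_, (v : Γ)⁻¹ * u, B.mul_mem (B.inv_mem v.2) u.2, by group⟩
    calc y * (u : Γ)⁻¹ * v * t = y * (u : Γ)⁻¹ * (v * t * (v : Γ)⁻¹) * v := by group
      _ = y * (u : Γ)⁻¹ * (u * (y⁻¹ * t * y) * (u : Γ)⁻¹) * v := by rw [hw]
      _ = t * (y * (u : Γ)⁻¹ * v) := by group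
  haveI := hS'
  obtain ⟨g, ⟨c, hc, b, hb, rfl⟩, hg⟩ := Absorb.exists_conj_le_in D hmul B hB.cl hB.comp S' hS'cl hS'irr hCB
    (fun x ⟨c, hc, b, hb, hx⟩ p hp => ⟨c, hc, b * p, B.mul_mem hb hp, by rw [hx, mul_assoc]⟩)
    (fun s hs' x ⟨c, hc, b, hb, hx⟩ => ⟨s * c, C.mul_mem (hS'C hs') hc, b, hb, by rw [hx, mul_assoc]⟩)
    (g₀ := 1) ⟨1, C.one_mem, 1, B.one_mem, (one_mul 1).symm⟩
  refine ⟨c, hc, fun s hs' => ?_⟩
  have := B.mul_mem (B.mul_mem hb (hg s hs')) (B.inv_mem hb)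
  rwa [show b * ((c * b)⁻¹ * s * (c * b)) * b⁻¹ = c⁻¹ * s * c by group] at this

end Groth.Agent.H1.Classical.Torus.Centraliser
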