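import Groth.Agent.H1.Classical.Open
import Mathlib.LinearAlgebra.FreeModule.PID
import Mathlib.LinearAlgebra.Finsupp.LinearCombination
import Mathlib.RingTheory.RootsOfUnity.AlgebraicallyClosed
import Mathlib.Algebra.MvPolynomial.Funext
import Mathlib.LinearAlgebra.LinearIndependent.Lemmas
import Mathlib.Algebra.Group.Hom.Instances
import Mathlib.Algebra.Module.NatInt
import Mathlib.Algebra.Module.Submodule.Range

/-!
# Characters of a connected group: the image is a split torus
-/

universe u v w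

namespace Groth.Agent.H1.Classical.Torus.Diag

set_option linter.style.haveILetI false
set_option linter.unusedSectionVars false

open Open

variable {k : Type u} [Field k] [IsAlgClosed k] {Γ : Type v} [Group Γ] (D : Alg k Γ)

/-- A character is regular. -/
def RegChar (ψ : Γ →* kˣ) : Prop := (fun g => (ψ g : k)) ∈ D.R

variable {D}

theorem RegChar.one : RegChar D (1 : Γ →* kˣ) := by
  show (fun _ : Γ => (1 : k)) ∈ D.R
  exact D.R.one_mem

theorem RegChar.mul {ψ ψ' : Γ →* kˣ} (h : RegChar D ψ) (h' : RegChar D ψ') : RegChar D (ψ * ψ') := by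
  have := D.R.mul_mem h h'
  show (fun g => ((ψ g * ψ' g : kˣ) : k)) ∈ D.R
  simpa [Units.val_mul, Pi.mul_def] using this

theorem RegChar.inv {ψ : Γ →* kˣ} (h : RegChar D ψ) : RegChar D ψ⁻¹ := by
  have := D.inv _ h
  show (fun g => (((ψ g)⁻¹ : kˣ) : k)) ∈ D.R
  simpa [map_inv] using this

/-- A regular function with finitely many values on an irreducible group is constant. -/
theorem const_of_finite (hirr : D.SIrr Set.univ) (f : D.R) (hfin : (Set.range (f : Γ → k)).Finite) (g g' : Γ) :
    (f : Γ → k) g = (f : Γ → k) g' := by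
  classical
  haveI := isDomain hirr
  have hprod : ∏ c ∈ hfin.toFinset, (f - algebraMap k D.R c) = 0 := Subtype.ext (funext fun x => by
    rw [SubmonoidClass.coe_finsetProd, Finset.prod_apply]
    exact Finset.prod_eq_zero (hfin.mem_toFinset.mpr ⟨x, rfl⟩) (sub_self _))
  obtain ⟨c, -, hc⟩ := Finset.prod_eq_zero_iff.mp hprod
  rw [sub_eq_zero] at hc
  rw [hc]
  rfl

/-- A character of finite order on an irreducible group is trivial. -/
theorem eq_one_of_pow (hirr : D.SIrr Set.univ) {ψ : Γ →* kˣ} (h : RegChar D ψ) {q : ℕ} (hq : q ≠ 0)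
    (hψ : ∀ g, ψ g ^ q = 1) : ψ = 1 := by
  classical
  refine MonoidHom.ext fun g => Units.ext ?_
  have hfin : (Set.range fun x => (ψ x : k)).Finite := by
    refine ((Polynomial.X ^ q - Polynomial.C (1 : k)).roots.toFinset.finite_toSet).subset ?_
    rintro _ ⟨x, rfl⟩
    rw [SetLike.mem_coe, Multiset.mem_toFinset, Polynomial.mem_roots (Polynomial.X_pow_sub_C_ne_zero hq.bot_lt 1)]
    simp [← Units.val_pow_eq_pow_val, hψ x]
  have := const_of_finite hirr ⟨_, h⟩ hfin g 1
  simpa using this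

/-- The characters generated by finitely many regular characters. -/
noncomputable def charMap {n : ℕ} (χ : Fin n → Γ →* kˣ) : (Fin n → ℤ) →ₗ[ℤ] Additive (Γ → kˣ) :=
  Fintype.linearCombination ℤ (fun i => Additive.ofMul (⇑(χ i)))

theorem charMap_apply {n : ℕ} (χ : Fin n → Γ →* kˣ) (a : Fin n → ℤ) (g : Γ) :
    Additive.toMul (charMap χ a) g = (∏ i, χ i ^ a i : Γ →* kˣ) g := by
  simp [charMap, Fintype.linearCombination_apply, toMul_sum]

theorem regChar_zpow {ψ : Γ →* kˣ} (h : RegChar D ψ) : ∀ z : ℤ, RegChar D (ψ ^ z) := by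
  have hn : ∀ n : ℕ, RegChar D (ψ ^ n) := fun n => by
    have := D.R.pow_mem (show (fun g => (ψ g : k)) ∈ D.R from h) n
    show (fun g => (((ψ g) ^ n : kˣ) : k)) ∈ D.R
    simpa [Pi.pow_def] using this
  intro z
  cases z with
  | ofNat n =>
    have : ψ ^ Int.ofNat n = ψ ^ n := MonoidHom.ext fun g => by simp
    rw [this]; exact hn n
  | negSucc n =>
    have : ψ ^ Int.negSucc n = (ψ ^ (n + 1))⁻¹ := MonoidHom.ext fun g => by simp
    rw [this]; exact (hn _).inv

/-- A split torus structure on the image of characters. -/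
structure TorusChars {n : ℕ} (χ : Fin n → Γ →* kˣ) (r : ℕ) (ψ : Fin r → Γ →* kˣ) : Prop where
  reg : ∀ j, RegChar D (ψ j)
  mono : ∀ i, ∃ e : Fin r → ℤ, χ i = ∏ j, ψ j ^ e j
  indep : ∀ p : MvPolynomial (Fin r) k, (∀ g, MvPolynomial.eval (fun j => (ψ j g : k)) p = 0) → p = 0
  ker : ∀ g, (∀ i, χ i g = 1) → ∀ j, ψ j g = 1

/-- Existence of a torus structure. -/
theorem exists_torusChars (hirr : D.SIrr Set.univ) {n : ℕ} (χ : Fin n → Γ →* kˣ) (hχ : ∀ i, RegChar D (χ i)) :
    ∃ (r : ℕ) (ψ : Fin r → Γ →* kˣ), TorusChars (D := D) χ r ψ := by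
  classical
  let M := LinearMap.range (charMap χ)
  have hreg : ∀ x : M, ∃ φ : Γ →* kˣ, RegChar D φ ∧ ∀ g, φ g = Additive.toMul (x : Additive (Γ → kˣ)) g := by
    rintro ⟨_, a, rfl⟩
    exact ⟨∏ i, χ i ^ a i, Finset.prod_induction _ (RegChar D) (fun _ _ => RegChar.mul) RegChar.one
      fun i _ => regChar_zpow (hχ i) _, fun g => (charMap_apply χ a g).symm⟩
  choose char hchar using hreg
  haveI : Module.Finite ℤ M := Module.Finite.range _
  haveI : Module.IsTorsionFree ℤ M := by
    refine Module.IsTorsionFree.of_smul_eq_zero fun z x hzx => ?_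
    by_cases hz : z = 0
    · exact Or.inl hz
    refine Or.inr (Subtype.ext ?_)
    have h1 : ∀ g, char x g ^ z = 1 := fun g => by
      have := congrFun (congrArg (fun y : M => Additive.toMul (y : Additive (Γ → kˣ))) hzx) g
      rw [(hchar x).2]
      simpa using this
    have h2 : char x = 1 :=
      eq_one_of_pow hirr (hchar x).1 (Int.natAbs_ne_zero.mpr hz) fun g => by
        rcases Int.natAbs_eq z with he | he
        · rw [← zpow_natCast, ← he]; exact h1 g
        · rw [← zpow_natCast, show (z.natAbs : ℤ) = -z by omega, zpow_neg, h1 g, inv_one]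
    exact Additive.toMul.injective (funext fun g => by rw [← (hchar x).2, h2]; rfl)
  haveI : Module.Free ℤ M := Module.free_of_finite_type_torsion_free'
  let b := Module.finBasis ℤ M
  let ψ : Fin (Module.finrank ℤ M) → Γ →* kˣ := fun j => char (b j)
  have hrepr : ∀ (a : Fin (Module.finrank ℤ M) → ℤ) (g : Γ),
      Additive.toMul ((∑ j, a j • b j : M) : Additive (Γ → kˣ)) g = (∏ j, ψ j ^ a j : Γ →* kˣ) g := by
    intro a g
    simp [ψ, toMul_sum, (hchar _).2]
  refine ⟨_, ψ, fun j => (hchar _).1, fun i => ?_, fun p hp => ?_, fun g hg j => ?_⟩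
  · have hi : Additive.ofMul (⇑(χ i)) ∈ M := ⟨Pi.single i 1, by simp [charMap]⟩
    refine ⟨fun j => b.repr ⟨_, hi⟩ j, MonoidHom.ext fun g => ?_⟩
    rw [← hrepr, b.sum_repr]
    rfl
  · let mon : (Fin (Module.finrank ℤ M) →₀ ℕ) → Γ →* k := fun m =>
      (Units.coeHom k).comp (∏ j, ψ j ^ (m j : ℤ))
    have hinj : Function.Injective mon := by
      intro m m' h
      have h1 : ∏ j, ψ j ^ (m j : ℤ) = ∏ j, ψ j ^ (m' j : ℤ) :=
        MonoidHom.ext fun g => Units.ext (DFunLike.congr_fun h g)
      have h2 : ∑ j, (m j : ℤ) • b j = ∑ j, (m' j : ℤ) • b j :=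
        Subtype.ext (Additive.toMul.injective (funext fun g => by rw [hrepr, hrepr, h1]))
      ext j
      have h3 := congrArg (fun y => b.repr y j) h2
      simpa [Finsupp.single_apply] using h3
    have hli := (linearIndependent_monoidHom Γ k).comp mon hinj
    rw [linearIndependent_iff'] at hli
    refine MvPolynomial.ext _ _ fun m => ?_
    rw [MvPolynomial.coeff_zero]
    by_cases hm : m ∈ p.support
    · refine hli p.support (fun m => MvPolynomial.coeff m p) (funext fun g => ?_) m hm
      have h := hp g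
      rw [MvPolynomial.eval_eq'] at h
      rw [Finset.sum_apply]
      refine Eq.trans (Finset.sum_congr rfl fun m' _ => ?_) h
      show MvPolynomial.coeff m' p * ((∏ j, ψ j ^ (m' j : ℤ)) g : k) = _
      simp [MonoidHom.finsetProd_apply]
    · exact MvPolynomial.notMem_support_iff.mp hm
  · obtain ⟨a, ha⟩ := (b j).2
    show char (b j) g = 1
    rw [(hchar _).2, ← ha, charMap_apply, MonoidHom.finsetProd_apply]
    exact Finset.prod_eq_one fun i _ => by rw [MonoidHom.zpow_apply, hg i, one_zpow]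

/-- Independent characters are jointly surjective. -/
theorem surjective_of_indep (hirr : D.SIrr Set.univ) {r : ℕ} (ψ : Fin r → Γ →* kˣ) (hreg : ∀ j, RegChar D (ψ j))
    (hind : ∀ p : MvPolynomial (Fin r) k, (∀ g, MvPolynomial.eval (fun j => (ψ j g : k)) p = 0) → p = 0)
    (z : Fin r → kˣ) : ∃ g, ∀ j, ψ j g = z j := by
  classical
  haveI := isDomain hirr
  haveI := D.finiteType
  let φ : MvPolynomial (Fin r) k →ₐ[k] D.R := MvPolynomial.aeval fun j => ⟨_, hreg j⟩
  have hφ : ∀ p g, (φ p : Γ → k) g = MvPolynomial.eval (fun j => (ψ j g : k)) p := by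
    intro p g
    show evalR D g (φ p) = _
    rw [← AlgHom.comp_apply, MvPolynomial.comp_aeval]
    rfl
  have hφinj : Function.Injective φ := (injective_iff_map_eq_zero φ).mpr fun p hp => hind p fun g => by
    rw [← hφ, hp]; rfl
  obtain ⟨p, hp0, hlift⟩ := Cone.exists_generic_lift φ hφinj
  have hopen : ∀ y : Fin r → kˣ, MvPolynomial.eval (fun j => (y j : k)) p ≠ 0 → ∃ g, ∀ j, ψ j g = y j := by
    intro y hy
    obtain ⟨χ', hχ'⟩ := hlift (MvPolynomial.aeval fun j => (y j : k)) hy
    obtain ⟨g, hg⟩ := D.pts χ'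
    refine ⟨g, fun j => Units.ext ?_⟩
    have h1 := AlgHom.congr_fun hχ' (MvPolynomial.X j)
    rw [AlgHom.comp_apply, hg, hφ, MvPolynomial.eval_X, MvPolynomial.aeval_X] at h1
    exact h1
  -- a point `w` with both `w` and `z / w` in the open set
  let N := ∑ m ∈ p.support, ∑ j, m j
  let p' : MvPolynomial (Fin r) k := ∑ m ∈ p.support,
    MvPolynomial.C (MvPolynomial.coeff m p * ∏ j, (z j : k) ^ m j) * ∏ j, MvPolynomial.X j ^ (N - m j)
  have hp' : ∀ w : Fin r → kˣ, MvPolynomial.eval (fun j => (w j : k)) p' =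
      MvPolynomial.eval (fun j => ((z j / w j : kˣ) : k)) p * ∏ j, (w j : k) ^ N := by
    intro w
    simp only [p', map_sum, map_mul, map_prod, map_pow, MvPolynomial.eval_C, MvPolynomial.eval_X]
    rw [MvPolynomial.eval_eq', Finset.sum_mul]
    refine Finset.sum_congr rfl fun m hm => ?_
    rw [mul_assoc, mul_assoc, ← Finset.prod_mul_distrib, ← Finset.prod_mul_distrib]
    refine congrArg _ (Finset.prod_congr rfl fun j _ => ?_)
    have hle : m j ≤ N := (Finset.single_le_sum (f := fun j => m j) (fun _ _ => Nat.zero_le _) (Finset.mem_univ j)).trans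
      (Finset.single_le_sum (f := fun m : Fin r →₀ ℕ => ∑ j, m j) (fun _ _ => Nat.zero_le _) hm)
    rw [Units.val_div_eq_div_val, div_pow, pow_sub₀ _ (w j).ne_zero hle]
    ring
  have hset : Set.Infinite ({0}ᶜ : Set k) := (Set.finite_singleton 0).infinite_compl
  obtain ⟨y, hy⟩ : ∃ y : Fin r → kˣ, MvPolynomial.eval (fun j => (y j : k)) p ≠ 0 := by
    by_contra hcon
    push Not at hcon
    refine hp0 (MvPolynomial.funext_set (fun _ => ({0}ᶜ : Set k)) (fun _ => hset) fun x hx => ?_)
    rw [map_zero]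
    exact hcon fun j => Units.mk0 (x j) (hx j trivial)
  have hp'0 : p' ≠ 0 := fun h => by
    have := hp' fun j => z j / y j
    rw [h, map_zero, eq_comm, mul_eq_zero] at this
    refine this.elim (fun h1 => hy ?_) (Finset.prod_ne_zero_iff.mpr fun j _ => pow_ne_zero _ (Units.ne_zero _))
    simpa [div_div_cancel] using h1
  obtain ⟨w, hw⟩ : ∃ w : Fin r → kˣ, MvPolynomial.eval (fun j => (w j : k)) (p * p') ≠ 0 := by
    by_contra hcon
    push Not at hcon
    refine mul_ne_zero hp0 hp'0 (MvPolynomial.funext_set (fun _ => ({0}ᶜ : Set k)) (fun _ => hset) fun x hx => ?_)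
    rw [map_zero]
    exact hcon fun j => Units.mk0 (x j) (hx j trivial)
  rw [map_mul, mul_ne_zero_iff, hp' w, mul_ne_zero_iff] at hw
  obtain ⟨g, hg⟩ := hopen w hw.1
  obtain ⟨g', hg'⟩ := hopen (fun j => z j / w j) hw.2.1
  exact ⟨g * g', fun j => by rw [map_mul, hg, hg', mul_div_cancel]⟩

/-- Torsion prime to the characteristic is dense in a split torus. -/
theorem eq_zero_of_torsion {r : ℕ} (p : MvPolynomial (Fin r) k)
    (hp : ∀ m : ℕ, (m : k) ≠ 0 → ∀ z : Fin r → kˣ, (∀ j, z j ^ m = 1) → MvPolynomial.eval (fun j => (z j : k)) p = 0) :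
    p = 0 := by
  classical
  have hinf : Set.Infinite {x : k | ∃ m : ℕ, (m : k) ≠ 0 ∧ x ^ m = 1} := by
    intro hfin
    let c := hfin.toFinset.card
    obtain ⟨m, hmc, hm⟩ : ∃ m, c < m ∧ (m : k) ≠ 0 := by
      by_cases h : ((c + 1 : ℕ) : k) = 0
      · refine ⟨c + 2, by omega, fun h' => one_ne_zero (α := k) ?_⟩
        rw [show c + 2 = c + 1 + 1 from rfl, Nat.cast_add, h, zero_add, Nat.cast_one] at h'
        exact h'
      · exact ⟨c + 1, by omega, h⟩
    haveI : NeZero (m : k) := ⟨hm⟩
    haveI : NeZero m := .of_neZero_natCast k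
    have hcard := HasEnoughRootsOfUnity.natCard_rootsOfUnity k m
    have hle : Nat.card (rootsOfUnity m k) ≤ c := by
      refine le_of_le_of_eq (Nat.card_le_card_of_injective (fun x : rootsOfUnity m k =>
        (⟨((x : kˣ) : k), hfin.mem_toFinset.mpr ⟨m, hm, ?_⟩⟩ : hfin.toFinset)) fun x x' h => ?_) (Nat.card_eq_finsetCard _)
      · rw [← Units.val_pow_eq_pow_val, (mem_rootsOfUnity m _).mp x.2, Units.val_one]
      · exact Subtype.ext (Units.ext (congrArg Subtype.val h))
    omega
  refine MvPolynomial.funext_set (fun _ => {x : k | ∃ m : ℕ, (m : k) ≠ 0 ∧ x ^ m = 1}) (fun _ => hinf) fun x hx => ?_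
  rw [map_zero]
  choose m hm hxm using fun j => hx j trivial
  have hne : ∀ j, x j ≠ 0 := fun j h => by
    have h1 := hxm j
    rw [h, zero_pow (fun h0 => hm j (by rw [h0, Nat.cast_zero]))] at h1
    exact zero_ne_one h1
  refine hp (∏ j, m j) (by rw [Nat.cast_prod]; exact Finset.prod_ne_zero_iff.mpr fun j _ => hm j)
    (fun j => Units.mk0 (x j) (hne j)) fun j => Units.ext ?_
  obtain ⟨c, hc⟩ := Finset.dvd_prod_of_mem m (Finset.mem_univ j)
  rw [hc, Units.val_pow_eq_pow_val, Units.val_mk0, pow_mul, hxm j, one_pow, Units.val_one]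

end Groth.Agent.H1.Classical.Torus.Diag
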