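import Groth.Agent.H1.Classical.Torus.Lift
import Mathlib.RingTheory.RootsOfUnity.AlgebraicallyClosed
import Mathlib.Algebra.CharP.Frobenius

/-!
# A compatible system of lifts of the torsion of a split torus
-/

universe u v w

namespace Groth.Agent.H1.Classical.Torus.Levels

set_option linter.style.haveILetI false
set_option linter.unusedSectionVars false

variable {k : Type u} [Field k] {r : ℕ}

/-- Moduli. -/
noncomputable def M (k : Type u) [Field k] (N : ℕ) : ℕ := by
  classical exact ∏ i ∈ (Finset.range N).filter (fun i => ((i + 1 : ℕ) : k) ≠ 0), (i + 1)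

theorem M_ne (N : ℕ) : (M k N : k) ≠ 0 := by
  classical
  rw [M, Nat.cast_prod]
  exact Finset.prod_ne_zero_iff.mpr fun i hi => (Finset.mem_filter.mp hi).2

theorem M_dvd {N N' : ℕ} (h : N ≤ N') : M k N ∣ M k N' := by
  classical
  exact Finset.prod_dvd_prod_of_subset _ _ _ (Finset.filter_subset_filter _ (Finset.range_mono h))

theorem dvd_M {m : ℕ} (hm : (m : k) ≠ 0) : m ∣ M k m := by
  classical
  obtain ⟨i, rfl⟩ : ∃ i, m = i + 1 := ⟨m - 1, by
    have : m ≠ 0 := fun h => hm (by rw [h, Nat.cast_zero])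
    omega⟩
  exact Finset.dvd_prod_of_mem _ (Finset.mem_filter.mpr ⟨Finset.mem_range.mpr (Nat.lt_succ_self i), hm⟩)

/-- The levels of torsion. -/
noncomputable def F (k : Type u) [Field k] (r N : ℕ) : Subgroup (Fin r → kˣ) := (powMonoidHom (M k N)).ker

theorem mem_F {N : ℕ} {z : Fin r → kˣ} : z ∈ F k r N ↔ z ^ M k N = 1 := Iff.rfl

theorem F_mono {N N' : ℕ} (h : N ≤ N') : F k r N ≤ F k r N' := fun z hz => by
  rw [mem_F] at hz ⊢
  obtain ⟨c, hc⟩ := M_dvd (k := k) h
  rw [hc, pow_mul, hz, one_pow]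

/-- A level is a power of a group of roots of unity. -/
noncomputable def equiv (N : ℕ) : F k r N ≃ (Fin r → rootsOfUnity (M k N) k) where
  toFun z j := ⟨(z : Fin r → kˣ) j, (mem_rootsOfUnity _ _).mpr (congrFun (mem_F.mp z.2) j)⟩
  invFun y := ⟨fun j => y j, mem_F.mpr (funext fun j => (mem_rootsOfUnity _ _).mp (y j).2)⟩
  left_inv _ := rfl
  right_inv _ := rfl

noncomputable instance fintypeF [IsAlgClosed k] (N : ℕ) : Fintype (F k r N) := by
  haveI : NeZero (M k N : k) := ⟨M_ne N⟩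
  haveI : NeZero (M k N) := .of_neZero_natCast k
  haveI : Fintype (rootsOfUnity (M k N) k) := Fintype.ofFinite _
  exact Fintype.ofEquiv _ (equiv N).symm

theorem card_ne [IsAlgClosed k] (N : ℕ) : ((Fintype.card (F k r N) : ℕ) : k) ≠ 0 := by
  haveI : NeZero (M k N : k) := ⟨M_ne N⟩
  haveI : NeZero (M k N) := .of_neZero_natCast k
  rw [← Nat.card_eq_fintype_card, Nat.card_congr (equiv N), Nat.card_fun,
    HasEnoughRootsOfUnity.natCard_rootsOfUnity, Nat.cast_pow]
  exact pow_ne_zero _ (M_ne N)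

variable [IsAlgClosed k] {Γ : Type v} [Group Γ]

/-- The torsion subgroup of a torus lifts. -/
theorem exists_torsion (δ : Γ →* (Fin r → kˣ)) (hsurj : Function.Surjective δ) (U : Subgroup Γ)
    (hU : ∀ g, g ∈ U ↔ δ g = 1) (hfilt : ∀ m : ℕ, (m : k) ≠ 0 → Lift.Filt m U) :
    ∃ A : Subgroup Γ, (∀ a ∈ A, ∀ b ∈ A, a * b = b * a) ∧ (∀ a ∈ A, ∃ m : ℕ, (m : k) ≠ 0 ∧ a ^ m = 1) ∧
      ∀ (m : ℕ) (z : Fin r → kˣ), (m : k) ≠ 0 → z ^ m = 1 → ∃ a ∈ A, δ a = z := by
  classical
  have hlift : ∀ N, ∃ s : F k r N →* Γ, ∀ z, δ (s z) = z := by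
    intro N
    choose b hb using fun z : F k r N => hsurj z
    obtain ⟨s, hs⟩ := (Lift.exists_lift (hfilt _ (card_ne N))).1 b fun x y => (hU _).mpr (by
      rw [map_mul, map_mul, map_inv, hb, hb, hb, Subgroup.coe_mul, mul_inv_cancel])
    refine ⟨s, fun z => ?_⟩
    have := (hU _).mp (hs z)
    rwa [map_mul, map_inv, hb, mul_inv_eq_one] at this
  let L : ℕ → Type (max u v) := fun N => {s : F k r N →* Γ // ∀ z, δ (s z) = z}
  have hstep : ∀ N (t : L N), ∃ t' : L (N + 1), ∀ z : F k r N,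
      t'.1 (Subgroup.inclusion (F_mono N.le_succ) z) = t.1 z := by
    rintro N ⟨t, ht⟩
    obtain ⟨s, hs⟩ := hlift (N + 1)
    obtain ⟨u, hu, hus⟩ := (Lift.exists_lift (hfilt _ (card_ne N))).2
      (s.comp (Subgroup.inclusion (F_mono N.le_succ))) t fun z => (hU _).mpr (by
        rw [map_mul, map_inv, ht, MonoidHom.comp_apply, hs]
        exact mul_inv_cancel _)
    refine ⟨⟨(MulAut.conj u).toMonoidHom.comp s, fun z => ?_⟩, fun z => (hus z).symm⟩
    show δ (u * s z * u⁻¹) = z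
    rw [map_mul, map_mul, map_inv, (hU u).mp hu, hs, one_mul, inv_one, mul_one]
  choose nx hnx using hstep
  obtain ⟨s0, hs0⟩ := hlift 0
  let t : ∀ N, L N := fun N => Nat.rec ⟨s0, hs0⟩ (fun N t => nx N t) N
  have hcomp : ∀ N N' (h : N ≤ N') (z : F k r N), (t N').1 (Subgroup.inclusion (F_mono h) z) = (t N).1 z := by
    intro N N' h
    induction h with
    | refl => intro z; rfl
    | step hle ih =>
      intro z
      exact (hnx _ (t _) (Subgroup.inclusion (F_mono hle) z)).trans (ih z)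
  let A : Subgroup Γ :=
    { carrier := {g | ∃ (N : ℕ) (z : F k r N), (t N).1 z = g}
      one_mem' := ⟨0, 1, map_one _⟩
      inv_mem' := fun {g} ⟨N, z, h⟩ => ⟨N, z⁻¹, by rw [map_inv, h]⟩
      mul_mem' := fun {g g'} ⟨N, z, h⟩ ⟨N', z', h'⟩ =>
        ⟨max N N', Subgroup.inclusion (F_mono (le_max_left N N')) z * Subgroup.inclusion (F_mono (le_max_right N N')) z',
          (map_mul _ _ _).trans (congrArg₂ (· * ·) ((hcomp N (max N N') (le_max_left N N') z).trans h) ((hcomp N' (max N N') (le_max_right N N') z').trans h'))⟩ }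
  refine ⟨A, ?_, ?_, fun m z hm hz => ?_⟩
  · rintro a ⟨N, z, rfl⟩ b ⟨N', z', rfl⟩
    rw [← hcomp N (max N N') (le_max_left _ _) z, ← hcomp N' (max N N') (le_max_right _ _) z', ← map_mul, ← map_mul,
      mul_comm]
  · rintro a ⟨N, z, rfl⟩
    exact ⟨M k N, M_ne N, by rw [← map_pow, show z ^ M k N = 1 from Subtype.ext (mem_F.mp z.2), map_one]⟩
  · have hmem : z ∈ F k r m := by
      obtain ⟨c, hc⟩ := dvd_M (k := k) hm
      rw [mem_F, hc, pow_mul, hz, one_pow]
    exact ⟨(t m).1 ⟨z, hmem⟩, ⟨m, _, rfl⟩, (t m).2 _⟩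

/-- Roots of torsion are torsion. -/
theorem exists_root {e : ℕ} (he : e ≠ 0) {m : ℕ} (hm : (m : k) ≠ 0) {z : Fin r → kˣ} (hz : z ^ m = 1) :
    ∃ (w : Fin r → kˣ) (m' : ℕ), (m' : k) ≠ 0 ∧ w ^ e = z ∧ w ^ m' = 1 := by
  choose w hw using fun j => IsAlgClosed.exists_pow_nat_eq (k := k) (z j : k) (Nat.pos_of_ne_zero he)
  have hne : ∀ j, w j ≠ 0 := fun j h => (z j).ne_zero (by rw [← hw j, h, zero_pow he])
  let w' : Fin r → kˣ := fun j => Units.mk0 (w j) (hne j)
  have hw' : w' ^ e = z := funext fun j => Units.ext (hw j)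
  have hone : w' ^ (e * m) = 1 := by rw [pow_mul, hw', hz]
  rcases CharP.exists k with ⟨p, hp⟩
  rcases CharP.char_is_prime_or_zero k p with hpp | rfl
  · haveI := Fact.mk hpp
    haveI := hp
    obtain ⟨a, e', he', rfl⟩ := Nat.exists_eq_pow_mul_and_not_dvd he p hpp.ne_one
    refine ⟨w', e' * m, ?_, hw', funext fun j => Units.ext ?_⟩
    · rw [Nat.cast_mul, mul_ne_zero_iff, Ne, CharP.cast_eq_zero_iff k p]
      exact ⟨he', hm⟩
    · have h1 : ((w' j : k) ^ (e' * m)) ^ p ^ a = 1 := by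
        rw [← pow_mul, show e' * m * p ^ a = p ^ a * e' * m by ring]
        exact congrArg Units.val (congrFun hone j)
      haveI : ExpChar k p := ExpChar.prime hpp
      show ((w' j : k) ^ (e' * m)) = 1
      refine iterateFrobenius_inj k p a ?_
      rw [iterateFrobenius_def, iterateFrobenius_def, h1, one_pow]
  · haveI := hp
    haveI := CharP.charP_to_charZero k
    exact ⟨w', e * m, Nat.cast_ne_zero.mpr (mul_ne_zero he (fun h => hm (by rw [h, Nat.cast_zero]))), hw', hone⟩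

end Groth.Agent.H1.Classical.Torus.Levels
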