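import Mathlib.GroupTheory.QuotientGroup.Basic
import Mathlib.Algebra.BigOperators.Group.Finset.Basic
import Mathlib.Algebra.BigOperators.Pi
import Mathlib.Data.Fintype.BigOperators
import Mathlib.GroupTheory.Coset.Card
import Mathlib.Tactic.Group

/-!
# Lifting finite groups through uniquely divisible extensions
-/

universe u v w

namespace Groth.Agent.H1.Classical.Torus.Lift

/-- `K` is an extension by abelian groups, uniquely divisible by `m`, of normal subgroups of `B`. -/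
inductive Filt {B : Type u} [Group B] (m : ℕ) : Subgroup B → Prop
  | bot : Filt m ⊥
  | step {U K : Subgroup B} (hU : U.Normal) (hK : K.Normal) (hle : K ≤ U)
      (hcomm : ∀ u ∈ U, ∀ v ∈ U, u * v * (v * u)⁻¹ ∈ K)
      (hdiv : ∀ u ∈ U, ∃ v ∈ U, v ^ m * u⁻¹ ∈ K) (hinj : ∀ v ∈ U, v ^ m ∈ K → v ∈ K)
      (h : Filt m K) : Filt m U

variable {Q : Type u} [Group Q] {F : Type w} [Group F] [Fintype F] (A : Subgroup Q) [hA : A.Normal] [hAc : IsMulCommutative A]

/-- Conjugation on the normal subgroup. -/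
def cA (g : Q) : A →* A where
  toFun a := ⟨g * a * g⁻¹, hA.conj_mem a a.2 g⟩
  map_one' := Subtype.ext (by simp)
  map_mul' a b := Subtype.ext (show g * (a * b) * g⁻¹ = (g * a * g⁻¹) * (g * b * g⁻¹) by group)

theorem cA_mul (g h : Q) (a : A) : cA A (g * h) a = cA A g (cA A h a) :=
  Subtype.ext (show g * h * (a : Q) * (g * h)⁻¹ = g * (h * a * h⁻¹) * g⁻¹ by group)

include hAc in
theorem cA_of_mem {g : Q} (hg : g ∈ A) (a : A) : cA A g a = a := by
  refine Subtype.ext (show g * (a : Q) * g⁻¹ = a from ?_)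
  have h : (⟨g, hg⟩ : A) * a = a * ⟨g, hg⟩ := hAc.is_comm.comm _ _
  have h' : g * (a : Q) = a * g := congrArg Subtype.val h
  rw [h', mul_inv_cancel_right]

/-- One step: existence. -/
theorem exists_hom (hdiv : Function.Bijective fun a : A => a ^ Fintype.card F) (b : F → Q)
    (hb : ∀ x y, b x * b y * (b (x * y))⁻¹ ∈ A) :
    ∃ s : F →* Q, ∀ x, s x * (b x)⁻¹ ∈ A := by
  classical
  letI : CommGroup A := { (inferInstance : Group A) with mul_comm := hAc.is_comm.comm }
  let c : F → F → A := fun x y => ⟨_, hb x y⟩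
  have hc : ∀ x y, b x * b y = (c x y : Q) * b (x * y) := fun x y => by
    show _ = b x * b y * (b (x * y))⁻¹ * _
    rw [inv_mul_cancel_right]
  have hco : ∀ x y z, c x y * c (x * y) z = cA A (b x) (c y z) * c x (y * z) := fun x y z => by
    refine Subtype.ext ?_
    show (c x y : Q) * c (x * y) z = b x * c y z * (b x)⁻¹ * c x (y * z)
    refine mul_right_cancel (b := b (x * y * z)) ?_
    rw [mul_assoc (c x y : Q), ← hc, ← mul_assoc, ← hc]
    conv_rhs => rw [mul_assoc _ (c x (y * z) : Q), mul_assoc x y z, ← hc, ← mul_assoc, inv_mul_cancel_right,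
      mul_assoc (b x), ← hc, ← mul_assoc]
  let a : F → A := fun x => ∏ y, c x y
  have ha : ∀ x y, a x * cA A (b x) (a y) = c x y ^ Fintype.card F * a (x * y) := fun x y => by
    have h : ∏ z, (c x y * c (x * y) z) = ∏ z, (cA A (b x) (c y z) * c x (y * z)) :=
      Finset.prod_congr rfl fun z _ => hco x y z
    rw [Finset.prod_mul_distrib, Finset.prod_mul_distrib, Finset.prod_const, Finset.card_univ, ← map_prod,
      Fintype.prod_equiv (Equiv.mulLeft y) (fun z => c x (y * z)) (c x) fun z => rfl] at h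
    rw [h]
    exact mul_comm _ _
  choose r hr using hdiv.2
  have he : ∀ x, r (a x) ^ Fintype.card F = a x := fun x => hr (a x)
  have hkey : ∀ x y, (r (a x))⁻¹ * cA A (b x) (r (a y))⁻¹ * c x y = (r (a (x * y)))⁻¹ := fun x y =>
    hdiv.1 (by
      show ((r (a x))⁻¹ * cA A (b x) (r (a y))⁻¹ * c x y) ^ Fintype.card F = (r (a (x * y)))⁻¹ ^ Fintype.card F
      simp only [mul_pow, inv_pow, ← map_pow, he, map_inv]
      have h := ha x y
      rw [← mul_inv, h, mul_inv_rev, mul_assoc, inv_mul_cancel, mul_one])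
  refine ⟨MonoidHom.mk' (fun x => ((r (a x))⁻¹ : A) * b x) fun x y => ?_, fun x => ?_⟩
  · show (((r (a (x * y)))⁻¹ : A) : Q) * b (x * y) = _
    rw [← hkey x y]
    show (((r (a x))⁻¹ : A) : Q) * (b x * (((r (a y))⁻¹ : A) : Q) * (b x)⁻¹) * c x y * b (x * y) =
      ((r (a x))⁻¹ : A) * b x * (((r (a y))⁻¹ : A) * b y)
    rw [mul_assoc _ (c x y : Q), ← hc]
    group
  · show ((((r (a x))⁻¹ : A) : Q) * b x) * (b x)⁻¹ ∈ A
    rw [mul_inv_cancel_right]
    exact SetLike.coe_mem _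

/-- One step: conjugacy. -/
theorem exists_conj (hdiv : Function.Bijective fun a : A => a ^ Fintype.card F) (s s' : F →* Q)
    (h : ∀ x, s' x * (s x)⁻¹ ∈ A) : ∃ u ∈ A, ∀ x, s' x = u * s x * u⁻¹ := by
  classical
  letI : CommGroup A := { (inferInstance : Group A) with mul_comm := hAc.is_comm.comm }
  let d : F → A := fun x => ⟨_, h x⟩
  have hd : ∀ x y, d (x * y) = d x * cA A (s x) (d y) := fun x y => Subtype.ext (by
    show s' (x * y) * (s (x * y))⁻¹ = s' x * (s x)⁻¹ * (s x * (s' y * (s y)⁻¹) * (s x)⁻¹)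
    rw [map_mul, map_mul]
    group)
  obtain ⟨w, hw⟩ := hdiv.2 (∏ y, d y)
  replace hw : w ^ Fintype.card F = ∏ y, d y := hw
  have hkey : ∀ x, d x = w * (cA A (s x) w)⁻¹ := fun x => hdiv.1 (by
    show d x ^ Fintype.card F = (w * (cA A (s x) w)⁻¹) ^ Fintype.card F
    rw [mul_pow, inv_pow, ← map_pow, hw, map_prod, eq_mul_inv_iff_mul_eq]
    calc d x ^ Fintype.card F * ∏ y, cA A (s x) (d y) = ∏ y, d (x * y) := by
          simp only [hd, Finset.prod_mul_distrib, Finset.prod_const, Finset.card_univ]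
      _ = ∏ y, d y := Fintype.prod_equiv (Equiv.mulLeft x) _ _ fun y => rfl)
  refine ⟨w, w.2, fun x => ?_⟩
  have h1 : s' x * (s x)⁻¹ = (w : Q) * (s x * (w : Q) * (s x)⁻¹)⁻¹ := congrArg Subtype.val (hkey x)
  rw [mul_inv_eq_iff_eq_mul] at h1
  rw [h1]
  group

variable {B : Type u} [Group B]

/-- The quotient layer. -/
theorem layer {U K : Subgroup B} [hU : U.Normal] [K.Normal]
    (hcomm : ∀ u ∈ U, ∀ v ∈ U, u * v * (v * u)⁻¹ ∈ K) (m : ℕ) (hdiv : ∀ u ∈ U, ∃ v ∈ U, v ^ m * u⁻¹ ∈ K)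
    (hinj : ∀ v ∈ U, v ^ m ∈ K → v ∈ K) :
    (U.map (QuotientGroup.mk' K)).Normal ∧ IsMulCommutative (U.map (QuotientGroup.mk' K)) ∧
      Function.Bijective fun a : U.map (QuotientGroup.mk' K) => a ^ m := by
  have hcommA : IsMulCommutative (U.map (QuotientGroup.mk' K)) := ⟨⟨fun a b => by
    obtain ⟨_, u, hu, rfl⟩ := a
    obtain ⟨_, v, hv, rfl⟩ := b
    refine Subtype.ext (mul_inv_eq_one.mp ?_)
    show QuotientGroup.mk' K u * QuotientGroup.mk' K v * (QuotientGroup.mk' K v * QuotientGroup.mk' K u)⁻¹ = 1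
    rw [← map_mul, ← map_mul, ← map_inv, ← map_mul]
    exact (QuotientGroup.eq_one_iff _).mpr (hcomm u hu v hv)⟩⟩
  refine ⟨hU.map _ (QuotientGroup.mk'_surjective K), hcommA, fun a b hab => ?_, fun a => ?_⟩
  · letI : CommGroup (U.map (QuotientGroup.mk' K)) :=
      { (inferInstance : Group (U.map (QuotientGroup.mk' K))) with mul_comm := hcommA.is_comm.comm }
    have h1 : (a * b⁻¹) ^ m = 1 := by
      rw [mul_pow, inv_pow, mul_inv_eq_one]
      exact hab
    obtain ⟨v, hv, hv'⟩ := (a * b⁻¹).2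
    have h2 : QuotientGroup.mk' K (v ^ m) = 1 := by
      rw [map_pow, hv']
      exact congrArg Subtype.val h1
    refine mul_inv_eq_one.mp (Subtype.ext ?_)
    rw [← hv']
    exact (QuotientGroup.eq_one_iff _).mpr (hinj v hv ((QuotientGroup.eq_one_iff _).mp h2))
  · obtain ⟨_, u, hu, rfl⟩ := a
    obtain ⟨v, hv, hvu⟩ := hdiv u hu
    refine ⟨⟨_, v, hv, rfl⟩, Subtype.ext ?_⟩
    show QuotientGroup.mk' K v ^ m = QuotientGroup.mk' K u
    rw [← map_pow]
    refine mul_inv_eq_one.mp ?_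
    rw [← map_inv, ← map_mul]
    exact (QuotientGroup.eq_one_iff _).mpr hvu

/-- Lifts exist, and are conjugate. -/
theorem exists_lift {F : Type w} [Group F] [Fintype F] {U : Subgroup B} (h : Filt (Fintype.card F) U) :
    (∀ b : F → B, (∀ x y, b x * b y * (b (x * y))⁻¹ ∈ U) → ∃ s : F →* B, ∀ x, s x * (b x)⁻¹ ∈ U) ∧
      ∀ s s' : F →* B, (∀ x, s' x * (s x)⁻¹ ∈ U) → ∃ u ∈ U, ∀ x, s' x = u * s x * u⁻¹ := by
  induction h with
  | bot =>
    refine ⟨fun b hb => ⟨MonoidHom.mk' b fun x y => ?_, fun x => ?_⟩, fun s s' h => ⟨1, Subgroup.one_mem _, fun x => ?_⟩⟩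
    · exact (mul_inv_eq_one.mp ((Subgroup.mem_bot).mp (hb x y))).symm
    · show b x * (b x)⁻¹ ∈ _
      rw [mul_inv_cancel]; exact Subgroup.one_mem _
    · rw [one_mul, inv_one, mul_one]
      exact mul_inv_eq_one.mp ((Subgroup.mem_bot).mp (h x))
  | @step U K hU hK hle hcomm hdiv hinj _ ih =>
    haveI := hU
    haveI := hK
    obtain ⟨hAn, hAc, hbij⟩ := layer hcomm _ hdiv hinj
    haveI := hAn
    haveI := hAc
    have hlift : ∀ z w : B, QuotientGroup.mk' K z = QuotientGroup.mk' K w → z * w⁻¹ ∈ K := fun z w hzw =>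
      (QuotientGroup.eq_one_iff _).mp (by
        show QuotientGroup.mk' K (z * w⁻¹) = 1
        rw [map_mul, map_inv, hzw, mul_inv_cancel])
    have hmem : ∀ z, QuotientGroup.mk' K z ∈ U.map (QuotientGroup.mk' K) → z ∈ U := by
      rintro z ⟨v, hv, hvz⟩
      have := U.mul_mem (hle (hlift z v hvz.symm)) hv
      rwa [inv_mul_cancel_right] at this
    refine ⟨fun b hb => ?_, fun s s' hss => ?_⟩
    · obtain ⟨σ, hσ⟩ := exists_hom (U.map (QuotientGroup.mk' K)) hbij (fun x => QuotientGroup.mk' K (b x))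
        fun x y => ⟨_, hb x y, by simp⟩
      choose b' hb' using fun x => QuotientGroup.mk'_surjective K (σ x)
      obtain ⟨s, hs⟩ := ih.1 b' fun x y => hlift _ _ (by rw [map_mul, hb', hb', hb', map_mul])
      refine ⟨s, fun x => hmem _ ?_⟩
      have h1 : QuotientGroup.mk' K (s x) = σ x := by
        rw [← hb']
        refine mul_inv_eq_one.mp ?_
        rw [← map_inv, ← map_mul]
        exact (QuotientGroup.eq_one_iff _).mpr (hs x)
      rw [map_mul, map_inv, h1]
      exact hσ x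
    · obtain ⟨ū, ⟨u, hu, rfl⟩, hū⟩ := exists_conj (U.map (QuotientGroup.mk' K)) hbij
        ((QuotientGroup.mk' K).comp s) ((QuotientGroup.mk' K).comp s') fun x => ⟨_, hss x, by simp⟩
      let s₁ : F →* B := MonoidHom.mk' (fun x => u * s x * u⁻¹) fun x y => by rw [map_mul]; group
      obtain ⟨v, hv, hvs⟩ := ih.2 s₁ s' fun x => hlift _ _ (by
        show QuotientGroup.mk' K (s' x) = QuotientGroup.mk' K (u * s x * u⁻¹)
        rw [map_mul, map_mul, map_inv]
        exact hū x)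
      refine ⟨v * u, U.mul_mem (hle hv) hu, fun x => ?_⟩
      rw [hvs x]
      show v * (u * s x * u⁻¹) * v⁻¹ = _
      group

end Groth.Agent.H1.Classical.Torus.Lift
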