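import Groth.Agent.H1.Classical.Torus.Union
import Groth.Agent.H1.Classical.Torus.MaxTorus

/-!
# The unipotent part, on points
-/

universe u v w

namespace Groth.Agent.H1.Classical.Torus.UnipotentPart

set_option linter.style.haveILetI false
set_option linter.unusedSectionVars false

open Module Kolchin Open Complete Centraliser

variable {k : Type u} [Field k] [IsAlgClosed k] {Γ : Type v} [Group Γ] {D : Alg k Γ}
  {W : Type w} [AddCommGroup W] [Module k W] [FiniteDimensional k W] {σ : Representation k Γ W}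

/-- Without tori every element is unipotent. -/
theorem nilp_of_max_bot (hirr : D.SIrr Set.univ) (hmul : HasMul D) (hσ : GenRep.Gen D σ) {B : Subgroup Γ}
    (hB : IsBor D B) (hbot : MaxTorus.IsMax D (⊥ : Subgroup Γ)) : ∀ g, IsNilpotent (σ g - 1) := by
  have htop : B = ⊤ := eq_top_iff.mpr fun g _ => MaxTorus.centralizer_le hirr hmul hσ hB hbot bot_le
    (Subgroup.mem_centralizer_iff.mpr fun s hs => by rw [Subgroup.mem_bot.mp hs, one_mul, mul_one])
  haveI := hB.solv
  obtain ⟨T, U, τ, hs⟩ := Split.exists_split (D.restrict B hB.cl)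
    (D.sirr_restrict.mpr (by rw [Set.image_univ, Subtype.range_coe_subtype]; exact hB.irr))
    (σ.comp B.subtype) (GenRep.Gen.restrict D hσ B hB.cl)
  have hT : IsTor D (T.map B.subtype) := by
    have hset : ((T.map B.subtype : Subgroup Γ) : Set Γ) = Subtype.val '' (T : Set B) := Subgroup.coe_map _ _
    refine ⟨hset ▸ D.isCl_image hs.clT, hset ▸ D.sirr_restrict.mp hs.irrT, ?_, ?_⟩
    · rintro _ ⟨a, ha, rfl⟩ _ ⟨b, hb, rfl⟩
      rw [← map_mul, hs.comm a ha b hb, map_mul]
    · rintro f hf h _ ⟨t, ht, rfl⟩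
      refine hs.dense _ ⟨f, hf, rfl⟩ (fun s hsT ⟨m, hm, hsm⟩ => h _ ⟨s, hsT, rfl⟩ ⟨m, hm, ?_⟩) t ht
      show ((s : Γ)) ^ m = 1
      rw [← SubmonoidClass.coe_pow, hsm, OneMemClass.coe_one]
  intro g
  have hg : g ∈ B := htop ▸ Subgroup.mem_top g
  refine (hs.nilp ⟨g, hg⟩).mpr ((hs.tau_ker _).mp (Subtype.ext ?_))
  exact Subgroup.mem_bot.mp (hbot.max _ hT bot_le ⟨_, hs.tau_mem _, rfl⟩)

/-- A commutative Borel subgroup is the whole group. -/
theorem eq_top_of_comm (hirr : D.SIrr Set.univ) (hmul : HasMul D) (hσ : GenRep.Gen D σ) {B : Subgroup Γ}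
    (hB : IsBor D B) (hcomm : ∀ x ∈ B, ∀ y ∈ B, x * y = y * x) : B = ⊤ := by
  have hcentral : ∀ c ∈ B, ∀ g : Γ, g * c * g⁻¹ = c := by
    intro c hc g
    refine Union.sep D hσ _ _ fun f hf => ?_
    have hreg : (fun x => f (x * c * x⁻¹)) ∈ D.R := by simpa using D.inv _ (conj_fn_mem hmul c hf)
    have := Invariant.const_of_complete D hirr hB.comp ⟨_, hreg⟩ (fun x a ha => by
      show f (x * a * c * (x * a)⁻¹) = f (x * c * x⁻¹)
      congr 1
      rw [mul_assoc x, hcomm a ha c hc]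
      group) g
    exact this.trans (by show f (1 * c * 1⁻¹) = f c; simp)
  haveI := hB.solv
  refine eq_top_iff.mpr fun z _ => ?_
  obtain ⟨x, hx⟩ := Union.exists_conj_mem D hσ hirr hmul hB.cl hB.irr hB.abs hB.comp z
  have := hcentral _ hx x
  rw [show x * (x⁻¹ * z * x) * x⁻¹ = z by group] at this
  rw [this]
  exact hx

/-- A connected solvable group without unipotent elements is a torus. -/
theorem isTor_top [Group.IsSolvable Γ] (hirr : D.SIrr Set.univ) (hσ : GenRep.Gen D σ)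
    (h : ∀ T U τ, Split.IsSplit D σ T U τ → U = ⊥) : IsTor D (⊤ : Subgroup Γ) := by
  obtain ⟨T, U, τ, hs⟩ := Split.exists_split D hirr σ hσ
  have hU := h T U τ hs
  have htop : T = ⊤ := eq_top_iff.mpr fun g _ => by
    have h1 : g * (τ g)⁻¹ = 1 := Subgroup.mem_bot.mp (hU ▸ (hs.tau_ker _).mp (by
      rw [map_mul, map_inv, hs.tau_fix _ (hs.tau_mem g), mul_inv_cancel]))
    rw [mul_inv_eq_one.mp h1]
    exact hs.tau_mem g
  rw [← htop]
  exact ⟨hs.clT, hs.irrT, hs.comm, hs.dense⟩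

end Groth.Agent.H1.Classical.Torus.UnipotentPart
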