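import Groth.Agent.H1.Classical.Torus.SubTorus
import Groth.Agent.H1.Classical.Torus.Weights

/-!
# A Borel subgroup is its own normaliser, on points
-/

universe u v w

namespace Groth.Agent.H1.Classical.Torus.Normalizer

set_option linter.style.haveILetI false
set_option linter.unusedSectionVars false

open Module Kolchin Open Complete Centraliser Groth.Agent.Lib.Dim.Basic

variable {k : Type u} [Field k] [IsAlgClosed k] {Γ : Type v} [Group Γ] {D : Alg k Γ}
  {W : Type w} [AddCommGroup W] [Module k W] [FiniteDimensional k W] {σ : Representation k Γ W}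

theorem conj_mem_inv {B : Subgroup Γ} (hcl : D.IsCl B) {n : Γ} (hn : ∀ b ∈ B, n * b * n⁻¹ ∈ B) {b : Γ} (hb : b ∈ B) :
    n⁻¹ * b * n ∈ B := by
  obtain ⟨b', hb', h⟩ := (D.conj_image_eq hcl n (by rintro _ ⟨x, hx, rfl⟩; exact hn x hx)).symm.subset hb
  have h' : n * b' * n⁻¹ = b := h
  rw [← h', show n⁻¹ * (n * b' * n⁻¹) * n = b' by group]
  exact hb'

/-- The normaliser of a closed subgroup, as a closed subgroup. -/
def norm {B : Subgroup Γ} (hcl : D.IsCl B) : Subgroup Γ where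
  carrier := {g | ∀ b ∈ B, g * b * g⁻¹ ∈ B}
  one_mem' := fun b hb => by simpa using hb
  mul_mem' := fun {g g'} hg hg' b hb => by
    rw [show g * g' * b * (g * g')⁻¹ = g * (g' * b * g'⁻¹) * g⁻¹ by group]
    exact hg _ (hg' b hb)
  inv_mem' := fun {g} hg b hb => by
    rw [_root_.inv_inv]
    exact conj_mem_inv hcl hg hb

theorem isCl_norm (hmul : HasMul D) {B : Subgroup Γ} (hcl : D.IsCl B) : D.IsCl (norm hcl) := by
  refine D.isCl_of_forall {F | ∃ f ∈ D.vI (B : Set Γ), ∃ b ∈ B, F = fun x => (f : Γ → k) (x * b * x⁻¹)} ?_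
    fun g => ⟨fun hg F ⟨f, hf, b, hb, hF⟩ => by rw [hF]; exact hf _ (hg b hb),
      fun h b hb => hcl fun f hf => h _ ⟨f, hf, b, hb, rfl⟩⟩
  rintro _ ⟨f, -, b, -, rfl⟩
  have h := D.inv _ (conj_fn_mem hmul b f.2)
  simpa using h

/-- An element normalising a Borel subgroup can be adjusted to normalise a torus of it. -/
theorem adjust (hσ : GenRep.Gen D σ) {B : Subgroup Γ} (hcl : D.IsCl B) {T U : Subgroup B} {τ : B →* B}
    (hs : Split.IsSplit (D.restrict B hcl) (σ.comp B.subtype) T U τ) {n : Γ} (hn : ∀ b ∈ B, n * b * n⁻¹ ∈ B) :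
    ∃ n' : Γ, n' * n⁻¹ ∈ B ∧ (∀ b ∈ B, n' * b * n'⁻¹ ∈ B) ∧
      ∀ a ∈ T, ∃ a' ∈ T, (a' : Γ) = n' * (a : Γ) * n'⁻¹ := by
  classical
  have hσB := GenRep.Gen.restrict D hσ B hcl
  have hT : IsTor (D.restrict B hcl) T := ⟨hs.clT, hs.irrT, hs.comm, hs.dense⟩
  obtain ⟨t₀, ht₀, ⟨m, hm, htm⟩, hreg⟩ := exists_regular hσB hT
  have hym : (⟨_, hn _ t₀.2⟩ : B) ^ m = 1 := Subtype.ext (by
    rw [SubmonoidClass.coe_pow]
    show (n * (t₀ : Γ) * n⁻¹) ^ m = 1
    rw [conj_pow, ← SubmonoidClass.coe_pow, htm, OneMemClass.coe_one, mul_one, mul_inv_cancel])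
  obtain ⟨u, -, hu⟩ := conj_torsion hs hm hym
  set n' := (u : Γ) * n
  have hn' : ∀ b ∈ B, n' * b * n'⁻¹ ∈ B := fun b hb => by
    rw [show n' * b * n'⁻¹ = (u : Γ) * (n * b * n⁻¹) * (u : Γ)⁻¹ by simp [n']; group]
    exact B.mul_mem (B.mul_mem u.2 (hn b hb)) (B.inv_mem u.2)
  refine ⟨n', by simp [n'], hn', fun a ha => ?_⟩
  let c : B → B := fun b => ⟨n' * b * n'⁻¹, hn' b b.2⟩
  have hc : ∀ p q : B, c (p * q) = c p * c q := fun p q => Subtype.ext (by
    show n' * ((p : Γ) * q) * n'⁻¹ = n' * p * n'⁻¹ * (n' * q * n'⁻¹)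
    group)
  have hcinj : Function.Injective c := fun p q h => Subtype.ext (by
    have := congrArg Subtype.val h
    exact mul_left_cancel (mul_right_cancel this))
  have hc0 : c t₀ ∈ T := by
    have h1 := hs.tau_mem (⟨_, hn _ t₀.2⟩ : B)
    rw [hu] at h1
    have h2 : c t₀ = u * (⟨_, hn _ t₀.2⟩ : B) * u⁻¹ := Subtype.ext (by
      show (u : Γ) * n * (t₀ : Γ) * ((u : Γ) * n)⁻¹ = (u : Γ) * (n * (t₀ : Γ) * n⁻¹) * (u : Γ)⁻¹
      group)
    rwa [h2]
  have htors : ∀ p ∈ T, (∃ l : ℕ, (l : k) ≠ 0 ∧ p ^ l = 1) → c p ∈ T := by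
    rintro p hp ⟨l, hl, hpl⟩
    have hcomm : ∀ z ∈ T, z * c p = c p * z := by
      intro z hz
      obtain ⟨z', hz'⟩ : ∃ z' : B, c z' = z := ⟨⟨n'⁻¹ * z * n', conj_mem_inv hcl hn' z.2⟩, Subtype.ext (by
        show n' * (n'⁻¹ * (z : Γ) * n') * n'⁻¹ = z
        group)⟩
      have h1 : z' * t₀ = t₀ * z' := hcinj (by rw [hc, hc, hz']; exact hs.comm z hz _ hc0)
      rw [← hz', ← hc, ← hc, hreg z' h1 p hp]
    have hcl1 : (c p) ^ l = 1 := Subtype.ext (by
      rw [SubmonoidClass.coe_pow]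
      show (n' * (p : Γ) * n'⁻¹) ^ l = 1
      rw [conj_pow, ← SubmonoidClass.coe_pow, hpl, OneMemClass.coe_one, mul_one, mul_inv_cancel])
    have hw : (τ (c p))⁻¹ * c p ∈ U := (hs.tau_ker _).mp (by
      rw [map_mul, map_inv, hs.tau_fix _ (hs.tau_mem _), inv_mul_cancel])
    have hτl : (τ (c p)) ^ l = 1 := by rw [← map_pow, hcl1, map_one]
    have hwl : ((τ (c p))⁻¹ * c p) ^ l = 1 := by
      rw [(show Commute (τ (c p))⁻¹ (c p) from (show Commute (τ (c p)) (c p) from hcomm _ (hs.tau_mem _)).inv_left).mul_pow,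
        inv_pow, hτl, hcl1, inv_one, one_mul]
    have := Cartan.eq_one_of_nilp hσB.faith hl hwl ((hs.nilp _).mpr hw)
    rw [← inv_mul_eq_one.mp this]
    exact hs.tau_mem _
  refine ⟨c a, hs.clT ?_, rfl⟩
  rintro ⟨_, f, hf, rfl⟩ hvan
  refine hs.dense (fun b : B => f (n' * b * n'⁻¹)) ⟨_, (D.cTrans n' ⟨f, hf⟩).2, funext fun b => ?_⟩
    (fun p hp hpt => hvan (c p) (htors p hp hpt)) a ha
  exact D.cTrans_apply n' ⟨f, hf⟩ b

/-- An automorphism of finite order of a torus: characters killing its fixed component and invariant under it. -/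
theorem pow_eq_one_of_fixed {A : Type*} [CommGroup A] (c : A →* A) {N : ℕ} (hN : ∀ a, c^[N] a = a)
    (χ : A →* kˣ) (hχ : ∀ a, χ (c a) = χ a) {q : ℕ} (hfix : ∀ a, c a = a → χ a ^ q = 1) (a : A) :
    χ a ^ (N * q) = 1 := by
  have hP : c (∏ i ∈ Finset.range N, c^[i] a) = ∏ i ∈ Finset.range N, c^[i] a := by
    rw [map_prod]
    simp only [← Function.iterate_succ_apply' c]
    refine mul_right_cancel (b := a) ?_
    calc (∏ i ∈ Finset.range N, c^[i + 1] a) * a = ∏ i ∈ Finset.range (N + 1), c^[i] a := by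
          rw [Finset.prod_range_succ']; rfl
      _ = (∏ i ∈ Finset.range N, c^[i] a) * c^[N] a := Finset.prod_range_succ _ _
      _ = _ := by rw [hN]
  have h1 := hfix _ hP
  rw [map_prod] at h1
  have h2 : ∀ i, χ (c^[i] a) = χ a := fun i => by
    induction i with
    | zero => rfl
    | succ i ih => rw [Function.iterate_succ_apply', hχ, ih]
  rw [Finset.prod_congr rfl (fun i _ => h2 i), Finset.prod_const, Finset.card_range] at h1
  rwa [pow_mul]

/-- An element normalising a Borel subgroup lies in it. -/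
theorem mem_of_normalizes : ∀ (d : ℕ) {Γ : Type v} [Group Γ] {D : Alg k Γ} {W : Type w} [AddCommGroup W]
    [Module k W] [FiniteDimensional k W] {σ : Representation k Γ W}, GenRep.Gen D σ → D.SIrr Set.univ → HasMul D →
    trdegNat k D.R = d → ∀ {B : Subgroup Γ}, IsBor D B → ∀ n : Γ, (∀ b ∈ B, n * b * n⁻¹ ∈ B) → n ∈ B := by
  intro d
  induction d using Nat.strong_induction_on with
  | _ d ih =>
  intro Γ _ D W _ _ _ σ hσ hirr hmul hd B hB n₀ hn₀
  classical
  haveI := hB.solv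
  have hBi : (D.restrict B hB.cl).SIrr Set.univ :=
    D.sirr_restrict.mpr (by rw [Set.image_univ, Subtype.range_coe_subtype]; exact hB.irr)
  have hσB := GenRep.Gen.restrict D hσ B hB.cl
  obtain ⟨T, U, τ, hs⟩ := Split.exists_split (D.restrict B hB.cl) hBi (σ.comp B.subtype) hσB
  obtain ⟨n, hnn, hn, hnT⟩ := adjust hσ hB.cl hs hn₀
  suffices n ∈ B by
    have h := B.mul_mem (B.inv_mem hnn) this
    rwa [show (n * n₀⁻¹)⁻¹ * n = n₀ by group] at h
  -- the torus in the ambient group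
  let T' : Subgroup Γ := T.map B.subtype
  have hT'set : (T' : Set Γ) = Subtype.val '' (T : Set B) := Subgroup.coe_map _ _
  have hT' : IsTor D T' := by
    refine ⟨hT'set ▸ D.isCl_image hs.clT, hT'set ▸ D.sirr_restrict.mp hs.irrT, ?_, ?_⟩
    · rintro _ ⟨a, ha, rfl⟩ _ ⟨b, hb, rfl⟩
      rw [← map_mul, hs.comm a ha b hb, map_mul]
    · rintro f hf h _ ⟨t, ht, rfl⟩
      refine hs.dense _ ⟨f, hf, rfl⟩ (fun s hsT ⟨m, hm, hsm⟩ => h _ ⟨s, hsT, rfl⟩ ⟨m, hm, ?_⟩) t ht
      show ((s : Γ)) ^ m = 1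
      rw [← SubmonoidClass.coe_pow, hsm, OneMemClass.coe_one]
  -- the fixed subgroup and its component
  let K : Subgroup Γ := T' ⊓ Subgroup.centralizer {n}
  have hKcl : D.IsCl K := by
    have : (K : Set Γ) = (T' : Set Γ) ∩ {g | ∀ s ∈ ({n} : Set Γ), g * s = s * g} := by
      ext g
      show g ∈ T' ∧ g ∈ Subgroup.centralizer ({n} : Set Γ) ↔ _
      rw [Subgroup.mem_centralizer_iff]
      exact ⟨fun ⟨h1, h2⟩ => ⟨h1, fun s hs => (h2 s hs).symm⟩, fun ⟨h1, h2⟩ => ⟨h1, fun s hs => (h2 s hs).symm⟩⟩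
    rw [this]
    exact D.isCl_inter hT'.cl (Diagonal.isCl_centralizer hσ.reg hσ.faith _)
  obtain ⟨S, hSK, hScl, hSirr, -, Q, -, hQ⟩ := Cartan.exists_component_in (D := D) K hKcl
  have hS : IsTor D S := SubTorus.isTor_of_le hσ hT' hScl hSirr (hSK.trans inf_le_left)
  have hTB : T' ≤ B := fun x hx => by obtain ⟨p, -, rfl⟩ := hx; exact p.2
  have hSB : S ≤ B := (hSK.trans inf_le_left).trans hTB
  have hSn : ∀ s ∈ S, s * n = n * s := fun s hsS =>
    (Subgroup.mem_centralizer_iff.mp (hSK hsS).2 n rfl).symm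
  by_cases hC : Subgroup.centralizer (S : Set Γ) = ⊤
  swap
  · -- induction
    obtain ⟨hCcl, hCirr, hBC⟩ := SubTorus.isBor_centralizer hirr hmul hσ hB hS hSB
    have hnC : n ∈ Subgroup.centralizer (S : Set Γ) := Subgroup.mem_centralizer_iff.mpr fun s hsS => hSn s hsS
    exact ih _ (hd ▸ SubTorus.trdegNat_lt hirr hCcl hCirr hC) (GenRep.Gen.restrict D hσ _ hCcl)
      (D.sirr_restrict.mpr (by rw [Set.image_univ, Subtype.range_coe_subtype]; exact hCirr))
      (hasMul_restrict D hmul _ hCcl) rfl hBC ⟨n, hnC⟩ (fun b hb => hn _ hb)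
  -- the normaliser is everything
  have hSc : ∀ s ∈ S, ∀ g, g * s = s * g := fun s hsS g =>
    (Subgroup.mem_centralizer_iff.mp (hC ▸ Subgroup.mem_top g : g ∈ Subgroup.centralizer (S : Set Γ)) s hsS).symm
  let M := norm hB.cl
  have hBM : B ≤ M := fun b hb x hx => B.mul_mem (B.mul_mem hb hx) (B.inv_mem hb)
  have htop : M = ⊤ := by
    refine Weights.eq_top_of_characters hirr hmul hB.comp (isCl_norm hmul hB.cl) hBM hS (hSB.trans hBM) hSc ?_
    rintro χ ⟨f, hf, hfχ⟩ hχS
    let ψ : B →* kˣ := χ.comp (Subgroup.inclusion hBM)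
    have hψ : Diag.RegChar (D.restrict B hB.cl) ψ := ⟨f, hf, funext fun b => hfχ ⟨b, hBM b.2⟩ b.2⟩
    have hψU : ∀ u ∈ U, ψ u = 1 := fun u hu => Central.char_eq_one _ hσB ((hs.nilp u).mpr hu) hψ
    -- conjugation by `n` on the torus
    letI : CommGroup T := { (inferInstance : Group T) with mul_comm := fun a b => Subtype.ext (hs.comm _ a.2 _ b.2) }
    choose c hcT hc using hnT
    let cT : T →* T := MonoidHom.mk' (fun a => ⟨c a a.2, hcT a a.2⟩) fun a b => Subtype.ext (Subtype.ext (by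
      show (c (a * b : T) (a * b : T).2 : Γ) = (c a a.2 : Γ) * (c b b.2 : Γ)
      rw [hc, hc, hc, Subgroup.coe_mul, Subgroup.coe_mul]
      group))
    have hcT' : ∀ (i : ℕ) (a : T), (((cT^[i] a : T) : B) : Γ) = n ^ i * ((a : B) : Γ) * (n ^ i)⁻¹ := by
      intro i a
      induction i with
      | zero => simp
      | succ i ih =>
        rw [Function.iterate_succ_apply']
        show (c _ _ : Γ) = _
        rw [hc, ih, pow_succ']
        group
    obtain ⟨N, hN0, hN⟩ : ∃ N : ℕ, 0 < N ∧ ∀ a, cT^[N] a = a := by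
      obtain ⟨e, he⟩ := hs.diag
      let ev : Fin (finrank k W) → T → k := fun i a => e.coord i (σ ((a : B) : Γ) (e i))
      have hact : ∀ (a : T) i, σ ((a : B) : Γ) (e i) = ev i a • e i := fun a i => by
        obtain ⟨x, hx⟩ := he a a.2 i
        have hx' : σ ((a : B) : Γ) (e i) = x • e i := hx
        show σ ((a : B) : Γ) (e i) = e.coord i (σ ((a : B) : Γ) (e i)) • e i
        rw [hx', map_smul, Basis.coord_apply, Basis.repr_self, Finsupp.single_eq_same, smul_eq_mul, mul_one]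
      have hj : ∀ (m : ℕ) i, ∃ j, ∀ a, ev i (cT^[m] a) = ev j a := by
        intro m i
        let v := σ (n ^ m)⁻¹ (e i)
        have hv : v ≠ 0 := fun h => e.ne_zero i (by
          have h' := congrArg (σ (n ^ m)) h
          rwa [map_zero, ← End.mul_apply, ← map_mul, mul_inv_cancel, map_one, End.one_apply] at h')
        obtain ⟨j, hj⟩ : ∃ j, e.repr v j ≠ 0 := by
          by_contra h
          push Not at h
          exact hv (e.repr.injective (by rw [map_zero]; exact Finsupp.ext h))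
        refine ⟨j, fun a => ?_⟩
        have h1 : σ ((a : B) : Γ) v = ev i (cT^[m] a) • v := by
          show σ ((a : B) : Γ) (σ (n ^ m)⁻¹ (e i)) = _ • σ (n ^ m)⁻¹ (e i)
          rw [← map_smul, ← hact, hcT', ← End.mul_apply, ← End.mul_apply, ← map_mul, ← map_mul]
          congr 2
          group
        have h2 := congrArg (fun x => e.repr x j) h1
        simp only [map_smul, Finsupp.smul_apply, smul_eq_mul] at h2
        refine mul_right_cancel₀ hj (h2.symm.trans ?_)
        conv_lhs => rw [← e.sum_repr v, map_sum, map_sum, Finsupp.finsetSum_apply]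
        rw [Finset.sum_eq_single j]
        · rw [map_smul, hact, map_smul, map_smul, Basis.repr_self, Finsupp.smul_apply, Finsupp.smul_apply,
            Finsupp.single_eq_same, smul_eq_mul, smul_eq_mul]
          ring
        · intro l _ hl
          rw [map_smul, hact, map_smul, map_smul, Basis.repr_self, Finsupp.smul_apply, Finsupp.smul_apply,
            Finsupp.single_eq_of_ne (Ne.symm hl), smul_zero, smul_zero]
        · exact fun hh => absurd (Finset.mem_univ j) hh
      choose π hπ using hj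
      obtain ⟨x, y, hxy, hπe⟩ := Finite.exists_ne_map_eq_of_infinite π
      wlog hlt : x < y generalizing x y
      · exact this y x hxy.symm hπe.symm (lt_of_le_of_ne (not_lt.mp hlt) hxy.symm)
      have hsame : ∀ a, cT^[x] a = cT^[y] a := fun a => Subtype.ext (Subtype.ext (hσ.faith (e.ext fun i => by
        rw [hact, hact, hπ, hπ, hπe])))
      have hinj : Function.Injective cT := fun a b h => Subtype.ext (Subtype.ext (by
        have h' := congrArg (fun z : T => ((z : B) : Γ)) h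
        have ha := hcT' 1 a
        have hb := hcT' 1 b
        rw [Function.iterate_one, pow_one] at ha hb
        rw [ha, hb] at h'
        exact mul_left_cancel (mul_right_cancel h')))
      refine ⟨y - x, Nat.sub_pos_of_lt hlt, fun a => (hinj.iterate x) ?_⟩
      rw [← Function.iterate_add_apply, Nat.add_sub_cancel' hlt.le, hsame]
    -- characters on the torus
    let q := (Q.card + 1).factorial
    have hT1 : ∀ a : T, ψ (a : B) ^ (N * q) = 1 := by
      refine pow_eq_one_of_fixed cT hN (ψ.comp T.subtype) (fun a => ?_) (fun a ha => ?_)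
      · have hm : Subgroup.inclusion hBM ((cT a : T) : B) =
            (⟨n, hn⟩ : M) * Subgroup.inclusion hBM (a : B) * (⟨n, hn⟩ : M)⁻¹ := Subtype.ext (hc _ a.2)
        show χ (Subgroup.inclusion hBM ((cT a : T) : B)) = χ (Subgroup.inclusion hBM (a : B))
        rw [hm, map_mul, map_mul, map_inv, mul_comm (χ _), mul_inv_cancel_right]
      · have hK : ∀ i : ℕ, ((a : B) : Γ) ^ i ∈ K := fun i => K.pow_mem ⟨⟨(a : B), a.2, rfl⟩,
          Subgroup.mem_centralizer_iff.mpr fun z hz => by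
            rw [Set.mem_singleton_iff.mp hz]
            have h1 := hcT' 1 a
            rw [Function.iterate_one, pow_one, ha] at h1
            calc n * ((a : B) : Γ) = n * ((a : B) : Γ) * n⁻¹ * n := by group
              _ = ((a : B) : Γ) * n := by rw [← h1]⟩ i
        choose r hr using fun i : ℕ => hQ _ (hK i)
        obtain ⟨x, hx, y, hy, hxy, hre⟩ := Finset.exists_ne_map_eq_of_card_lt_of_maps_to
          (s := Finset.range (Q.card + 1)) (t := Q) (f := r) (by simp) (fun i _ => (hr i).1)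
        wlog hlt : x < y generalizing x y
        · exact this y hy x hx hxy.symm hre.symm (lt_of_le_of_ne (not_lt.mp hlt) hxy.symm)
        have hmem : ((a : B) : Γ) ^ (y - x) ∈ S := by
          have h := S.mul_mem (S.inv_mem (hr x).2) (hre ▸ (hr y).2)
          rwa [mul_inv_rev, _root_.inv_inv, mul_assoc, mul_inv_cancel_left,
            show (((a : B) : Γ) ^ x)⁻¹ * ((a : B) : Γ) ^ y = ((a : B) : Γ) ^ (y - x) by
              rw [eq_comm, eq_inv_mul_iff_mul_eq, ← pow_add, Nat.add_sub_cancel' hlt.le]] at h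
        have h1 : ψ ((a : B) ^ (y - x)) = 1 :=
          hχS ⟨_, hBM ((a : B) ^ (y - x)).2⟩ (by simpa using hmem)
        obtain ⟨z, hz⟩ : y - x ∣ q := Nat.dvd_factorial (Nat.sub_pos_of_lt hlt)
          ((Nat.sub_le _ _).trans (Nat.le_of_lt (Finset.mem_range.mp hy)))
        show ψ (a : B) ^ q = 1
        rw [hz, pow_mul, ← map_pow, h1, one_pow]
    have hone : Diag.RegChar (D.restrict B hB.cl) ψ ∧ ∀ b : B, ψ b ^ (N * q) = 1 := ⟨hψ, fun b => by
      have hu1 : ψ ((τ b)⁻¹ * b) = 1 := hψU _ ((hs.tau_ker _).mp (by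
        rw [map_mul, map_inv, hs.tau_fix _ (hs.tau_mem b), inv_mul_cancel]))
      have hdec : ψ b = ψ (τ b) := by
        conv_lhs => rw [show b = τ b * ((τ b)⁻¹ * b) by group, map_mul, hu1, mul_one]
      rw [hdec]
      exact hT1 ⟨_, hs.tau_mem b⟩⟩
    have hψ1 := Diag.eq_one_of_pow hBi hone.1 (Nat.mul_ne_zero hN0.ne' (Nat.factorial_ne_zero _)) hone.2
    intro b hb
    exact congrArg (fun φ : B →* kˣ => φ ⟨(b : Γ), hb⟩) hψ1
  obtain ⟨x, hx⟩ := Union.exists_conj_mem D hσ hirr hmul hB.cl hB.irr hB.abs hB.comp n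
  have hxM : x ∈ M := htop ▸ Subgroup.mem_top x
  have := hxM _ hx
  rwa [show x * (x⁻¹ * n * x) * x⁻¹ = n by group] at this

end Groth.Agent.H1.Classical.Torus.Normalizer
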