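import Groth.Agent.H1.Classical.Complete
import Groth.Agent.Lib.Dim.Local
import Mathlib.RingTheory.Adjoin.FG
import Mathlib.RingTheory.AlgebraicIndependent.Basic
import Mathlib.Algebra.MvPolynomial.Equiv

/-!
# Products
-/

universe u v v'

namespace Groth.Agent.H1.Classical.Torus.Product

set_option linter.style.haveILetI false
set_option linter.unusedSectionVars false

open Open

variable {k : Type u} [Field k] {Γ : Type v} [Group Γ] {Δ : Type v'} [Group Δ] (D : Alg k Γ) (E : Alg k Δ)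

/-- Functions of the first variable. -/
def p1 : (Γ → k) →ₐ[k] (Γ × Δ → k) where
  toFun f x := f x.1
  map_one' := rfl
  map_mul' _ _ := rfl
  map_zero' := rfl
  map_add' _ _ := rfl
  commutes' _ := rfl

/-- Functions of the second variable. -/
def p2 : (Δ → k) →ₐ[k] (Γ × Δ → k) where
  toFun f x := f x.2
  map_one' := rfl
  map_mul' _ _ := rfl
  map_zero' := rfl
  map_add' _ _ := rfl
  commutes' _ := rfl

/-- Precomposition. -/
def pre {α β : Type*} (φ : α → β) : (β → k) →ₐ[k] (α → k) where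
  toFun f x := f (φ x)
  map_one' := rfl
  map_mul' _ _ := rfl
  map_zero' := rfl
  map_add' _ _ := rfl
  commutes' _ := rfl

/-- The functions on a product. -/
def R : Subalgebra k (Γ × Δ → k) := D.R.map (p1 (Δ := Δ)) ⊔ E.R.map (p2 (Γ := Γ))

theorem mem_fst {f : Γ → k} (hf : f ∈ D.R) : (fun x : Γ × Δ => f x.1) ∈ R D E :=
  (le_sup_left : D.R.map (p1 (Δ := Δ)) ≤ R D E) ⟨f, hf, rfl⟩

theorem mem_snd {f : Δ → k} (hf : f ∈ E.R) : (fun x : Γ × Δ => f x.2) ∈ R D E :=
  (le_sup_right : E.R.map (p2 (Γ := Γ)) ≤ R D E) ⟨f, hf, rfl⟩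

theorem le_of_gens {S : Subalgebra k (Γ × Δ → k)} (h1 : ∀ f ∈ D.R, (fun x : Γ × Δ => f x.1) ∈ S)
    (h2 : ∀ f ∈ E.R, (fun x : Γ × Δ => f x.2) ∈ S) : R D E ≤ S :=
  sup_le (by rintro _ ⟨f, hf, rfl⟩; exact h1 f hf) (by rintro _ ⟨f, hf, rfl⟩; exact h2 f hf)

/-- The product. -/
def prod : Alg k (Γ × Δ) where
  R := R D E
  fg := (D.fg.map _).sup (E.fg.map _)
  pts χ := by
    let ι1 : D.R →ₐ[k] R D E := ((p1 (Δ := Δ)).comp D.R.val).codRestrict _ fun f => mem_fst D E f.2
    let ι2 : E.R →ₐ[k] R D E := ((p2 (Γ := Γ)).comp E.R.val).codRestrict _ fun f => mem_snd D E f.2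
    obtain ⟨g, hg⟩ := D.pts (χ.comp ι1)
    obtain ⟨b, hb⟩ := E.pts (χ.comp ι2)
    refine ⟨(g, b), fun F => ?_⟩
    let T : Subalgebra k (Γ × Δ → k) :=
      (AlgHom.equalizer χ ((Pi.evalAlgHom k (fun _ : Γ × Δ => k) (g, b)).comp (R D E).val)).map (R D E).val
    obtain ⟨F', hF', he⟩ : (F : Γ × Δ → k) ∈ T :=
      le_of_gens D E (S := T) (fun f hf => ⟨ι1 ⟨f, hf⟩, hg ⟨f, hf⟩, rfl⟩) (fun f hf => ⟨ι2 ⟨f, hf⟩, hb ⟨f, hf⟩, rfl⟩) F.2
    have : F' = F := Subtype.ext he
    subst this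
    exact hF'
  lmul a := fun F hF => le_of_gens D E (S := (R D E).comap (pre (a * ·)))
    (fun f hf => mem_fst D E (D.lmul a.1 f hf)) (fun f hf => mem_snd D E (E.lmul a.2 f hf)) hF
  rmul a := fun F hF => le_of_gens D E (S := (R D E).comap (pre (· * a)))
    (fun f hf => mem_fst D E (D.rmul a.1 f hf)) (fun f hf => mem_snd D E (E.rmul a.2 f hf)) hF
  inv := fun F hF => le_of_gens D E (S := (R D E).comap (pre (·⁻¹)))
    (fun f hf => mem_fst D E (D.inv f hf)) (fun f hf => mem_snd D E (E.inv f hf)) hF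

theorem slice_left {F : Γ × Δ → k} (hF : F ∈ R D E) (b : Δ) : (fun g => F (g, b)) ∈ D.R :=
  le_of_gens D E (S := D.R.comap (pre fun g => (g, b))) (fun _ hf => hf) (fun f _ => D.R.algebraMap_mem (f b)) hF

theorem slice_right {F : Γ × Δ → k} (hF : F ∈ R D E) (g : Γ) : (fun b => F (g, b)) ∈ E.R :=
  le_of_gens D E (S := E.R.comap (pre fun b => (g, b))) (fun f _ => E.R.algebraMap_mem (f g)) (fun _ hf => hf) hF

theorem sirr (h : D.SIrr Set.univ) (h' : E.SIrr Set.univ) : (prod D E).SIrr Set.univ := by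
  intro F F' hFF
  have key : ∀ g : Γ, (∀ b, (F : Γ × Δ → k) (g, b) = 0) ∨ ∀ b, (F' : Γ × Δ → k) (g, b) = 0 := fun g =>
    (h' ⟨_, slice_right D E F.2 g⟩ ⟨_, slice_right D E F'.2 g⟩ fun b _ => hFF (g, b) trivial).imp
      (fun h b => h b trivial) (fun h b => h b trivial)
  obtain ⟨i, -, hi⟩ := Alg.SIrr.exists_forall D h ⟨1, trivial⟩ (Finset.univ : Finset Bool)
    (fun i => Set.range fun b : Δ => fun g => ((cond i F F' : (prod D E).R) : Γ × Δ → k) (g, b))
    (fun i _ => by rintro _ ⟨b, rfl⟩; exact slice_left D E (cond i F F').2 b)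
    (fun g _ => (key g).elim (fun h => ⟨true, Finset.mem_univ _, by rintro _ ⟨b, rfl⟩; exact h b⟩)
      (fun h => ⟨false, Finset.mem_univ _, by rintro _ ⟨b, rfl⟩; exact h b⟩))
  cases i
  · exact Or.inr fun x _ => hi x.1 trivial _ ⟨x.2, rfl⟩
  · exact Or.inl fun x _ => hi x.1 trivial _ ⟨x.2, rfl⟩

open Groth.Agent.Lib.Dim.Basic in
/-- The dimension of a product is at least the sum. -/
theorem add_le_trdegNat {Γ : Type v} [Group Γ] {Δ : Type v} [Group Δ] (D : Alg k Γ) (E : Alg k Δ)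
    (h : D.SIrr Set.univ) (h' : E.SIrr Set.univ) :
    trdegNat k D.R + trdegNat k E.R ≤ trdegNat k (prod D E).R := by
  haveI := isDomain h
  haveI := isDomain h'
  haveI := isDomain (sirr D E h h')
  haveI := D.finiteType
  haveI := E.finiteType
  haveI := (prod D E).finiteType
  obtain ⟨a, gR, hgR, -, ha, -⟩ := exists_noether k D.R
  obtain ⟨b, gS, hgS, -, hb, -⟩ := exists_noether k E.R
  let Φ : MvPolynomial (Fin a ⊕ Fin b) k →ₐ[k] (prod D E).R := MvPolynomial.aeval (Sum.elim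
    (fun i => ⟨_, mem_fst D E (gR (MvPolynomial.X i)).2⟩) (fun j => ⟨_, mem_snd D E (gS (MvPolynomial.X j)).2⟩))
  let x : Γ → Fin a → k := fun g i => (gR (MvPolynomial.X i) : Γ → k) g
  let y : Δ → Fin b → k := fun d j => (gS (MvPolynomial.X j) : Δ → k) d
  have hxy : ∀ q g d, (Φ q : Γ × Δ → k) (g, d) =
      MvPolynomial.eval (x g) (MvPolynomial.map (MvPolynomial.eval (y d)) (MvPolynomial.sumAlgEquiv k _ _ q)) := by
    intro q g d
    induction q using MvPolynomial.induction_on with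
    | C c => simp [Φ]
    | add p q hp hq => simp only [map_add, ← hp, ← hq]; rfl
    | mul_X p i hp =>
      simp only [map_mul, ← hp]
      cases i <;> simp [Φ, x, y] <;> rfl
  have hRz : ∀ p, (∀ g, MvPolynomial.eval (x g) p = 0) → p = 0 := fun p hp => hgR (by
    rw [map_zero]
    refine Subtype.ext (funext fun g => ?_)
    have : (evalR D g).comp gR = MvPolynomial.aeval (x g) := MvPolynomial.algHom_ext fun i => by
      rw [MvPolynomial.aeval_X]; rfl
    exact (AlgHom.congr_fun this p).trans (hp g))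
  have hSz : ∀ p, (∀ d, MvPolynomial.eval (y d) p = 0) → p = 0 := fun p hp => hgS (by
    rw [map_zero]
    refine Subtype.ext (funext fun d => ?_)
    have : (evalR E d).comp gS = MvPolynomial.aeval (y d) := MvPolynomial.algHom_ext fun i => by
      rw [MvPolynomial.aeval_X]; rfl
    exact (AlgHom.congr_fun this p).trans (hp d))
  have hinj : Function.Injective Φ := (injective_iff_map_eq_zero Φ).mpr fun q hq => by
    refine (MvPolynomial.sumAlgEquiv k (Fin a) (Fin b)).injective ?_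
    rw [map_zero]
    refine MvPolynomial.ext _ _ fun μ => hSz _ fun d => ?_
    have h0 := hRz (MvPolynomial.map (MvPolynomial.eval (y d)) (MvPolynomial.sumAlgEquiv k _ _ q))
      fun g => by rw [← hxy, hq]; rfl
    have h1 := congrArg (MvPolynomial.coeff μ) h0
    rwa [MvPolynomial.coeff_map, MvPolynomial.coeff_zero] at h1
  have hle := lift_trdeg_le_of_injective Φ hinj
  rw [MvPolynomial.trdeg_of_isDomain, trdeg_eq_trdegNat k (prod D E).R, Cardinal.lift_natCast, Cardinal.lift_lift,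
    Cardinal.mk_sum, Cardinal.mk_fin, Cardinal.mk_fin] at hle
  simp only [Cardinal.lift_natCast] at hle
  rw [show trdegNat k D.R = a by simp [trdegNat, ha], show trdegNat k E.R = b by simp [trdegNat, hb]]
  rw [← Nat.cast_add, Cardinal.lift_natCast] at hle
  exact Nat.cast_le.mp hle

end Groth.Agent.H1.Classical.Torus.Product
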