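import Groth.Agent.H1.Classical.Torus.Diag
import Groth.Agent.H1.Classical.Torus.Diagonal
import Groth.Agent.H1.Classical.Torus.Levels
import Mathlib.GroupTheory.Index

/-!
# Connected solvable groups split as torus times unipotent part
-/

universe u v w

namespace Groth.Agent.H1.Classical.Torus.Split

set_option linter.style.haveILetI false
set_option linter.unusedSectionVars false

open Module Kolchin Open

variable {k : Type u} [Field k] {Γ : Type v} [Group Γ] {W : Type w} [AddCommGroup W] [Module k W]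

/-- A maximal torus, the unipotent part and the projection of a connected solvable group. -/
structure IsSplit (D : Alg k Γ) (σ : Representation k Γ W) (T U : Subgroup Γ) (τ : Γ →* Γ) : Prop where
  clT : D.IsCl T
  irrT : D.SIrr T
  comm : ∀ a ∈ T, ∀ b ∈ T, a * b = b * a
  diag : ∃ e : Basis (Fin (finrank k W)) k W, ∀ t ∈ T, ∀ i, ∃ c : k, σ t (e i) = c • e i
  dense : ∀ f ∈ D.R, (∀ t ∈ T, (∃ m : ℕ, (m : k) ≠ 0 ∧ t ^ m = 1) → f t = 0) → ∀ t ∈ T, f t = 0
  clU : D.IsCl U
  irrU : D.SIrr U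
  normU : U.Normal
  nilp : ∀ g, IsNilpotent (σ g - 1) ↔ g ∈ U
  tau_mem : ∀ g, τ g ∈ T
  tau_fix : ∀ t ∈ T, τ t = t
  tau_ker : ∀ g, τ g = 1 ↔ g ∈ U
  tau_reg : ∀ f ∈ D.R, (fun g => f (τ g)) ∈ D.R
  conj : ∀ (F : Type v) [Group F] [Fintype F], ((Fintype.card F : ℕ) : k) ≠ 0 → ∀ s : F →* Γ,
    ∃ u ∈ U, ∀ x, τ (s x) = u * s x * u⁻¹

/-- The diagonal of a power of a triangular matrix. -/
theorem pow_diag {n : ℕ} {N : Matrix (Fin n) (Fin n) k} (h : Tri.Band 0 N) (i : Fin n) :
    ∀ j : ℕ, Tri.Band 0 (N ^ j) ∧ (N ^ j) i i = N i i ^ j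
  | 0 => by simpa using Tri.band_zero_one
  | j + 1 => by
    obtain ⟨h1, h2⟩ := pow_diag h i j
    rw [pow_succ, pow_succ, ← h2]
    exact ⟨h1.mul h, Tri.mul_diag h1 h i⟩

/-- Existence. -/
theorem exists_split [IsAlgClosed k] [FiniteDimensional k W] (D : Alg k Γ) (hirr : D.SIrr Set.univ)
    [Group.IsSolvable Γ] (σ : Representation k Γ W) (hσ : GenRep.Gen D σ) :
    ∃ (T U : Subgroup Γ) (τ : Γ →* Γ), IsSplit D σ T U τ := by
  classical
  haveI := isDomain hirr
  obtain ⟨b, hb⟩ := Tri.exists_tri D.R (finrank k W) σ hσ.reg (GenRep.inv_regular D hσ) rfl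
  let χ := Tri.chi hb
  have hχreg : ∀ i, Diag.RegChar D (χ i) := fun i => Tri.regular hσ.reg i i
  obtain ⟨r, ψ, hψ⟩ := Diag.exists_torusChars hirr χ hχreg
  let δ : Γ →* (Fin r → kˣ) :=
    { toFun := fun g j => ψ j g
      map_one' := funext fun j => map_one (ψ j)
      map_mul' := fun g g' => funext fun j => map_mul (ψ j) g g' }
  have hsurj : Function.Surjective δ := fun z => by
    obtain ⟨g, hg⟩ := Diag.surjective_of_indep hirr ψ hψ.reg hψ.indep z
    exact ⟨g, funext hg⟩
  have hχδ : ∀ g g', δ g = δ g' → ∀ i, χ i g = χ i g' := fun g g' h i => by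
    obtain ⟨e, he⟩ := hψ.mono i
    rw [he]
    simp only [MonoidHom.finsetProd_apply, MonoidHom.zpow_apply]
    exact Finset.prod_congr rfl fun j _ => by rw [show ψ j g = ψ j g' from congrFun h j]
  let U := Tri.U hb 1
  have hU : ∀ g, g ∈ U ↔ δ g = 1 := fun g => by
    rw [Tri.mem_U_one]
    refine ⟨fun h => funext fun j => hψ.ker g h j, fun h i => ?_⟩
    have h1 := hχδ g 1 (by rw [h, map_one]) i
    rwa [map_one] at h1
  obtain ⟨A, hAc, hAt, hAsurj⟩ := Levels.exists_torsion δ hsurj U hU fun m hm => Tri.filt hb hσ hm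
  let T := Diagonal.closure D A
  have hTcl : D.IsCl T := Diagonal.isCl_closure D A
  have hTc : ∀ a ∈ T, ∀ b ∈ T, a * b = b * a := Diagonal.closure_comm hσ.reg hσ.faith hAc
  obtain ⟨e, he⟩ := Diagonal.exists_diag (σ := σ) hAc hAt
  have heT : ∀ t ∈ T, ∀ i, ∃ c : k, σ t (e i) = c • e i := fun t ht i =>
    Diagonal.eigen_closure hσ.reg (fun a ha => he a ha i) t ht
  -- the eigenvalues are among the diagonal characters
  have hL : ∀ i, ∃ l, ∀ t ∈ T, σ t (e i) = (χ l t : k) • e i := by
    intro i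
    let S := Finset.univ.filter fun l => b.repr (e i) l ≠ 0
    have hS : S.Nonempty := by
      by_contra h
      rw [Finset.not_nonempty_iff_eq_empty, Finset.filter_eq_empty_iff] at h
      refine e.ne_zero i (b.repr.injective (Finsupp.ext fun l => ?_))
      rw [map_zero, Finsupp.zero_apply]
      exact not_ne_iff.mp (h (Finset.mem_univ l))
    refine ⟨S.max' hS, fun t ht => ?_⟩
    set l := S.max' hS with hl
    obtain ⟨c, hc⟩ := heT t ht i
    have hl0 : b.repr (e i) l ≠ 0 := (Finset.mem_filter.mp (S.max'_mem hS)).2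
    have h1 : b.repr (σ t (e i)) l = (χ l t : k) * b.repr (e i) l := by
      conv_lhs => rw [← b.sum_repr (e i), map_sum, map_sum, Finsupp.finsetSum_apply]
      rw [Finset.sum_eq_single l]
      · rw [map_smul, map_smul, Finsupp.smul_apply, smul_eq_mul, mul_comm, Tri.chi_apply, Tri.mat_apply]
        rfl
      · intro m _ hm
        rcases lt_or_gt_of_ne hm with h | h
        · rw [map_smul, map_smul, Finsupp.smul_apply,
            show b.repr (σ t (b m)) l = Tri.mat b σ t l m by rw [Tri.mat_apply]; rfl, hb t l m (by omega), smul_zero]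
        · have h0 : b.repr (e i) m = 0 := by
            by_contra h0
            exact absurd (S.le_max' m (Finset.mem_filter.mpr ⟨Finset.mem_univ m, h0⟩)) (not_le.mpr h)
          rw [h0, zero_smul, map_zero, map_zero, Finsupp.zero_apply]
      · exact fun h => absurd (Finset.mem_univ l) h
    rw [hc, map_smul, Finsupp.smul_apply, smul_eq_mul] at h1
    rw [hc, mul_right_cancel₀ hl0 h1]
  choose L hL using hL
  have hTU : ∀ t ∈ T, t ∈ U → t = 1 := fun t ht htU => hσ.faith (e.ext fun i => by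
    rw [hL i t ht, map_one, End.one_apply, (Tri.mem_U_one hb).mp htU, Units.val_one, one_smul])
  -- irreducibility
  have hTset : (Subtype.val '' (Set.univ : Set T) : Set Γ) = T := by rw [Set.image_univ, Subtype.range_coe_subtype]; rfl
  have hTirr : D.SIrr T := by
    obtain ⟨C, hC, hCirr, hCmax⟩ := (D.restrict T hTcl).exists_component
    obtain ⟨Q, hQ⟩ := Complete.finite_cover (D.restrict T hTcl) C hCmax
    haveI : C.Normal := ⟨fun c hc g => by
      rwa [show g * c * g⁻¹ = c by
        have h : g * c = c * g := Subtype.ext (hTc g g.2 c c.2)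
        rw [h, mul_inv_cancel_right]]⟩
    haveI : Finite (T ⧸ C) := Finite.of_surjective (fun q : Q => ((q : T) : T ⧸ C)) fun x => by
      obtain ⟨g, rfl⟩ := QuotientGroup.mk_surjective x
      obtain ⟨q, hq, hqg⟩ := hQ g
      exact ⟨⟨q, hq⟩, QuotientGroup.eq.mpr hqg⟩
    have hidx : C.index ≠ 0 := by rw [Subgroup.index]; exact Nat.card_pos.ne'
    have hAC : (A : Set Γ) ⊆ Subtype.val '' (C : Set T) := by
      intro a ha
      obtain ⟨m, hm, hmz⟩ := hAt a ha
      obtain ⟨w, m', hm', hwe, hwm⟩ := Levels.exists_root hidx hm (z := δ a) (by rw [← map_pow, hmz, map_one])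
      obtain ⟨a', ha', hda⟩ := hAsurj m' w hm' hwm
      have hpow : a' ^ C.index = a := by
        refine mul_inv_eq_one.mp (hTU _ (Diagonal.le_closure D A (A.mul_mem (A.pow_mem ha' _) (A.inv_mem ha))) ?_)
        rw [hU, map_mul, map_pow, map_inv, hda, hwe, mul_inv_cancel]
      refine ⟨⟨a', Diagonal.le_closure D A ha'⟩ ^ C.index, C.pow_index_mem _, ?_⟩
      rw [SubmonoidClass.coe_pow]
      exact hpow
    have hall : (T : Set Γ) ⊆ Subtype.val '' (C : Set T) := Diagonal.closure_le D (D.isCl_image hC) hAC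
    rw [show (T : Set Γ) = Subtype.val '' (C : Set T) from hall.antisymm fun x ⟨y, _, hy⟩ => hy ▸ y.2]
    exact D.sirr_restrict.mp hCirr
  have hDT : (D.restrict T hTcl).SIrr Set.univ := D.sirr_restrict.mpr (by rw [hTset]; exact hTirr)
  -- `δ` is bijective on `T`
  let δT : T →* (Fin r → kˣ) := δ.comp T.subtype
  have hδT : Function.Bijective δT := by
    refine ⟨fun x y h => Subtype.ext (mul_inv_eq_one.mp (hTU _ (T.mul_mem x.2 (T.inv_mem y.2)) ?_)), fun z => ?_⟩
    · rw [hU, map_mul, map_inv]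
      exact mul_inv_eq_one.mpr h
    · obtain ⟨g, hg⟩ := Diag.surjective_of_indep hDT (fun j => (ψ j).comp T.subtype)
        (fun j => ⟨_, hψ.reg j, rfl⟩) (fun p hp => Diag.eq_zero_of_torsion p fun m hm z hz => by
          obtain ⟨a, ha, hda⟩ := hAsurj m z hm (funext hz)
          rw [← hda]
          exact hp ⟨a, Diagonal.le_closure D A ha⟩) z
      exact ⟨g, funext hg⟩
  let eT : T ≃* (Fin r → kˣ) := MulEquiv.ofBijective δT hδT
  let τ : Γ →* Γ := T.subtype.comp (eT.symm.toMonoidHom.comp δ)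
  have hτδ : ∀ g, δ (τ g) = δ g := fun g => eT.apply_symm_apply (δ g)
  have hτmem : ∀ g, τ g ∈ T := fun g => (eT.symm (δ g)).2
  have hτfix : ∀ t ∈ T, τ t = t := fun t ht => by
    show ((eT.symm (eT ⟨t, ht⟩) : T) : Γ) = t
    rw [eT.symm_apply_apply]
  have hτker : ∀ g, τ g = 1 ↔ g ∈ U := fun g => by
    rw [hU]
    refine ⟨fun h => by rw [← hτδ, h, map_one], fun h => ?_⟩
    show ((eT.symm (δ g) : T) : Γ) = 1
    rw [h, map_one, OneMemClass.coe_one]
  have hτreg : ∀ f ∈ D.R, (fun g => f (τ g)) ∈ D.R := by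
    intro f hf
    have hf' := hσ.gen hf
    clear hf
    induction hf' using Algebra.adjoin_induction with
    | mem f hf =>
      obtain ⟨x, l, rfl⟩ := hf
      have : (fun g => l (σ (τ g) x)) = ∑ i, (e.repr x i * l (e i)) • fun g => (χ (L i) g : k) := by
        funext g
        rw [Finset.sum_apply]
        conv_lhs => rw [← e.sum_repr x, map_sum, map_sum]
        refine Finset.sum_congr rfl fun i _ => ?_
        rw [map_smul, map_smul, hL i _ (hτmem g), map_smul, hχδ _ _ (hτδ g), Pi.smul_apply]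
        simp only [smul_eq_mul]
        ring
      rw [this]
      exact D.R.sum_mem fun i _ => D.R.smul_mem (hχreg (L i)) _
    | algebraMap c => exact D.R.algebraMap_mem c
    | add f f' _ _ h h' => exact D.R.add_mem h h'
    | mul f f' _ _ h h' => exact D.R.mul_mem h h'
  have hπreg : ∀ f ∈ D.R, (fun g => f ((τ g)⁻¹ * g)) ∈ D.R := by
    intro f hf
    have hf' := hσ.gen hf
    clear hf
    induction hf' using Algebra.adjoin_induction with
    | mem f hf =>
      obtain ⟨x, l, rfl⟩ := hf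
      have h := (Kolchin.EndFn.mul (R := D.R) (F := fun g => σ (τ g)⁻¹) (G := fun g => σ g)
        (fun v l => hτreg _ (D.inv _ (hσ.reg v l))) hσ.reg) x l
      simpa [map_mul] using h
    | algebraMap c => exact D.R.algebraMap_mem c
    | add f f' _ _ h h' => exact D.R.add_mem h h'
    | mul f f' _ _ h h' => exact D.R.mul_mem h h'
  have hπU : ∀ g, (τ g)⁻¹ * g ∈ U := fun g => by
    rw [hU, map_mul, map_inv, hτδ, inv_mul_cancel]
  have hUirr : D.SIrr U := by
    intro f f' hff
    have key : ∀ f : D.R, (⟨_, hπreg f f.2⟩ : D.R) ∈ D.vI Set.univ → f ∈ D.vI U := fun f hf u hu => by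
      have : (f : Γ → k) ((τ u)⁻¹ * u) = 0 := hf u trivial
      rwa [show (τ u)⁻¹ * u = u by rw [(hτker u).mpr hu, inv_one, one_mul]] at this
    exact (hirr ⟨_, hπreg f f.2⟩ ⟨_, hπreg f' f'.2⟩ fun g _ => hff _ (hπU g)).imp (key f) (key f')
  refine ⟨T, U, τ, hTcl, hTirr, hTc, ⟨e, heT⟩, fun f hf h t ht => ?_, Tri.isCl_U hb hσ.reg 1, hUirr,
    Tri.U_normal hb 1, fun g => ⟨fun ⟨N, hN⟩ => ?_, Tri.isNilpotent_of_mem hb⟩, hτmem, hτfix, hτker, hτreg,
    fun F _ _ hF s => ?_⟩
  · exact ht ⟨f, hf⟩ fun a ha => h a (Diagonal.le_closure D A ha) (hAt a ha)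
  · rw [Tri.mem_U_one]
    intro i
    have h1 : (Tri.mat b σ g - 1) ^ N = 0 := by
      have h0 := congrArg (LinearMap.toMatrixAlgEquiv b) hN
      rw [map_pow, map_sub, map_one, map_zero] at h0
      exact h0
    have h2 := (pow_diag ((hb g).sub Tri.band_zero_one) i N).2
    rw [h1, Matrix.zero_apply, Matrix.sub_apply, Matrix.one_apply_eq] at h2
    exact Units.ext (sub_eq_zero.mp (pow_eq_zero_iff'.mp h2.symm).1)
  · exact (Lift.exists_lift (Tri.filt hb hσ hF)).2 s (τ.comp s) fun x => (hU _).mpr (by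
      rw [map_mul, map_inv, MonoidHom.comp_apply, hτδ, mul_inv_cancel])

end Groth.Agent.H1.Classical.Torus.Split
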