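import Groth.Agent.H1.Classical.Torus.Cartan
import Groth.Agent.H1.Classical.Torus.Dominant
import Mathlib.RingTheory.FiniteType

/-!
# A connected group is the union of the conjugates of a Borel subgroup
-/

universe u v w

namespace Groth.Agent.H1.Classical.Torus.Union

set_option linter.style.haveILetI false
set_option linter.unusedSectionVars false

open Open Complete MvPolynomial

variable {k : Type u} [Field k] [IsAlgClosed k] {Γ : Type v} [Group Γ] (D : Alg k Γ)

theorem sep {W : Type w} [AddCommGroup W] [Module k W] {σ : Representation k Γ W} (hσ : GenRep.Gen D σ)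
    (x y : Γ) (h : ∀ f ∈ D.R, f x = f y) : x = y := by
  refine hσ.faith (LinearMap.ext fun w => sub_eq_zero.mp ((Module.forall_dual_apply_eq_zero_iff k _).mp fun l => ?_))
  rw [map_sub, sub_eq_zero]
  exact h _ (hσ.reg w l)

/-- Closedness of the union of conjugates. -/
theorem union_closed (hmul : HasMul D) (hsep : ∀ x y : Γ, (∀ f ∈ D.R, f x = f y) → x = y) {B : Subgroup Γ}
    (hcl : D.IsCl B) (hc : Complete D B) {z : Γ}
    (hz : ∀ f ∈ D.R, (∀ g : Γ, ∀ b ∈ B, f (g * b * g⁻¹) = 0) → f z = 0) : ∃ x, x⁻¹ * z * x ∈ B := by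
  classical
  obtain ⟨n, φ, hφ⟩ := (Algebra.FiniteType.iff_quotient_mvPolynomial'' (S := D.R)).mp D.finiteType
  let y : Γ → Fin n → k := fun g i => (φ (X i) : Γ → k) g
  have hy : ∀ p g, (φ p : Γ → k) g = eval (y g) p := fun p g => by
    have : (evalR D g).comp φ = aeval (y g) := MvPolynomial.algHom_ext fun i => by rw [aeval_X]; rfl
    exact AlgHom.congr_fun this p
  have hrep : ∀ f : D.R, ∃ F : MvPolynomial (Fin n) D.R, ∀ g z, pev D g (y z) F = (f : Γ → k) (g⁻¹ * z * g) := by
    intro f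
    obtain ⟨m, a, b, hab⟩ := hmul f
    choose l c d hcd using fun i => hmul (b i)
    choose P hP using fun (i : Fin m) (j : Fin (l i)) => hφ (c i j)
    let a' : Fin m → D.R := fun i => ⟨_, D.inv _ (a i).2⟩
    refine ⟨∑ i, ∑ j, C (a' i * d i j) * (P i j).map (algebraMap k D.R), fun g z => ?_⟩
    rw [mul_assoc, hab, map_sum]
    refine Finset.sum_congr rfl fun i _ => ?_
    rw [map_sum, hcd i, Finset.mul_sum]
    refine Finset.sum_congr rfl fun j _ => ?_
    have h1 : pev D g (y z) ((P i j).map (algebraMap k D.R)) = (c i j : Γ → k) z := by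
      rw [← hP i j, hy]
      show eval (y z) (MvPolynomial.map _ (MvPolynomial.map _ (P i j))) = _
      rw [MvPolynomial.map_map]
      conv_rhs => rw [← MvPolynomial.map_id (σ := Fin n) (R := k) (P i j)]
      exact congrArg (fun ψ => eval (y z) (MvPolynomial.map ψ (P i j))) (RingHom.ext fun r => rfl)
    rw [map_mul, pev_C, h1]
    show (a i : Γ → k) g⁻¹ * (d i j : Γ → k) g * _ = _
    ring
  let Cs : Set (Γ × (Fin n → k)) := {q | ∃ z, q.2 = y z ∧ q.1⁻¹ * z * q.1 ∈ B}
  have hCs : PairCl D Cs := by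
    intro q hq
    have hker : ∀ p ∈ RingHom.ker φ, aeval q.2 p = 0 := by
      intro p hp
      have h := hq (p.map (algebraMap k D.R)) fun c ⟨z, hz, _⟩ => by
        show eval c.2 (MvPolynomial.map _ (MvPolynomial.map _ p)) = 0
        rw [MvPolynomial.map_map, hz]
        rw [show ((evalR D c.1).toRingHom.comp (algebraMap k D.R)) = RingHom.id k from RingHom.ext fun r => rfl,
          MvPolynomial.map_id, ← hy, RingHom.mem_ker.mp hp]
        rfl
      change eval q.2 (MvPolynomial.map _ (MvPolynomial.map _ p)) = 0 at h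
      rw [MvPolynomial.map_map,
        show ((evalR D q.1).toRingHom.comp (algebraMap k D.R)) = RingHom.id k from RingHom.ext fun r => rfl,
        MvPolynomial.map_id] at h
      exact h
    let χ : D.R →ₐ[k] k := (Ideal.Quotient.liftₐ (RingHom.ker φ) (aeval q.2) hker).comp
      (Ideal.quotientKerAlgEquivOfSurjective hφ).symm.toAlgHom
    obtain ⟨z, hz⟩ := D.pts χ
    have hqz : q.2 = y z := funext fun i => by
      show _ = (φ (X i) : Γ → k) z
      rw [← hz]
      show q.2 i = Ideal.Quotient.liftₐ _ (aeval q.2) hker ((Ideal.quotientKerAlgEquivOfSurjective hφ).symm (φ (X i)))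
      rw [show (Ideal.quotientKerAlgEquivOfSurjective hφ).symm (φ (X i)) = Ideal.Quotient.mk _ (X i) from
        (AlgEquiv.symm_apply_eq _).mpr rfl]
      exact (aeval_X q.2 i).symm
    refine ⟨z, hqz, hcl fun f hf => ?_⟩
    obtain ⟨F, hF⟩ := hrep f
    rw [← hF, ← hqz]
    exact hq F fun c ⟨z', hz', hzB⟩ => by rw [hz', hF]; exact hf _ hzB
  have hY := hc (Fin n) Cs hCs fun g w hgw b hb => by
    obtain ⟨z, rfl, hz⟩ : ∃ z, w = y z ∧ g⁻¹ * z * g ∈ B := hgw
    refine ⟨z, rfl, ?_⟩
    show (g * b)⁻¹ * z * (g * b) ∈ B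
    rw [show (g * b)⁻¹ * z * (g * b) = b⁻¹ * (g⁻¹ * z * g) * b by group]
    exact B.mul_mem (B.mul_mem (B.inv_mem hb) hz) hb
  obtain ⟨x, z', hzz', hx⟩ : y z ∈ {w | ∃ g, (g, w) ∈ Cs} := hY _ fun p hp => by
    rw [← hy]
    refine hz _ (φ p).2 fun g b hb => ?_
    rw [hy]
    refine hp _ ⟨g, g * b * g⁻¹, rfl, ?_⟩
    show g⁻¹ * (g * b * g⁻¹) * g ∈ B
    rwa [show g⁻¹ * (g * b * g⁻¹) * g = b by group]
  have : z = z' := hsep _ _ fun f hf => by
    obtain ⟨p, hp⟩ := hφ ⟨f, hf⟩
    have h1 : f = ((φ p : D.R) : Γ → k) := by rw [hp]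
    rw [h1, hy, hy, show y z = y z' from hzz']
  exact ⟨x, this ▸ hx⟩

/-- The union theorem on points. -/
theorem exists_conj_mem {W : Type w} [AddCommGroup W] [Module k W] [FiniteDimensional k W] {σ : Representation k Γ W}
    (hσ : GenRep.Gen D σ) (hirr : D.SIrr Set.univ) (hmul : HasMul D) {B : Subgroup Γ} (hcl : D.IsCl B)
    (hBirr : D.SIrr B) [Group.IsSolvable B]
    (habs : ∀ S : Subgroup Γ, Group.IsSolvable S → D.SIrr S → ∃ a : Γ, ∀ s ∈ S, a⁻¹ * s * a ∈ B)
    (hc : Complete D B) (z : Γ) : ∃ x, x⁻¹ * z * x ∈ B := by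
  obtain ⟨t, ht, Q, hQ⟩ := Cartan.exists_finite_fix hirr hmul hσ hcl hBirr habs
  refine union_closed D hmul (sep D hσ) hcl hc fun f hf hvan => ?_
  rw [Dominant.dense_conj D hirr hmul (sep D hσ) hcl hBirr ht Q hQ hf hvan]
  rfl

end Groth.Agent.H1.Classical.Torus.Union
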